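import Cfsg.Agent.OddHalf.NI3.FrameDef
import Cfsg.Agent.OddHalf.NI.CovTwo

/-!
# Frames lift through central 2-extensions (NI over `F_3`, diagonal case)

`f : E → Y` surjective with central 2-kernel (`CExt f`). For `J ≃ SL₂(F)`, `|F|` odd, the subgroup `Lft f J` generated
by the elements of odd order over `J` is isomorphic to `J` (`liftEquiv`). `Frame3.lift`: a frame of `Y` for `z` lifts to
a frame of `E` for some `z'` over `z`.
-/

set_option autoImplicit false

namespace Cfsg.Agent.OddHalf.NI3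

open Subgroup Cfsg Cfsg.Agent.GH.Cov.Lft
open scoped commutatorElement

variable {E Y : Type*} [Group E] [Group Y] {f : E →* Y}

section SL

variable {F : Type*} [Field F] [Fintype F]

/-- a copy of `SL₂(F)`, `|F|` odd, is generated by its elements of odd order -/
theorem le_closure_of_sl (hF : Odd (Fintype.card F)) {J : Subgroup Y}
    (e : ↥J ≃* Matrix.SpecialLinearGroup (Fin 2) F) : J ≤ closure {a : Y | a ∈ J ∧ Odd (orderOf a)} := by
  have h1 := GH.Cov.SLCore.sl_gen hF
  let g : Matrix.SpecialLinearGroup (Fin 2) F →* Y := J.subtype.comp e.symm.toMonoidHom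
  have h2 : (⊤ : Subgroup (Matrix.SpecialLinearGroup (Fin 2) F)).map g = J := by
    ext x
    constructor
    · rintro ⟨s, -, rfl⟩
      exact (e.symm s).2
    · intro hx
      exact ⟨e ⟨x, hx⟩, trivial, by change ((e.symm (e ⟨x, hx⟩) : ↥J) : Y) = x; rw [e.symm_apply_apply]⟩
  rw [← h1, MonoidHom.map_closure] at h2
  rw [← h2]
  refine closure_mono ?_
  rintro _ ⟨a, ha, rfl⟩
  refine ⟨?_, ?_⟩
  · rw [h2]
    exact (e.symm a).2
  · have hg : Function.Injective g := Subtype.val_injective.comp e.symm.injective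
    rw [orderOf_injective g hg]
    exact ha

/-- injectivity on `Lft f J` -/
theorem eq_one_of_lft [Finite E] (hf : CExt f) (hF : Odd (Fintype.card F)) {J : Subgroup Y}
    (e : ↥J ≃* Matrix.SpecialLinearGroup (Fin 2) F) {c : E} (hc : c ∈ Lft f J) (hfc : f c = 1) : c = 1 := by
  refine GH.Cov.QuatLift.injOn (K := Lft f J) (f := f) (t := ((e.symm (-1) : ↥J) : Y)) (Lft_gen J) ?_ ?_ ?_ hc hfc
  · intro c _ hc y _
    exact hf.cen c hc y
  · intro c _ hc
    exact hf.two c hc
  · intro y hy hyy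
    have hm := map_mem hy
    have h1 : e ⟨f y, hm⟩ * e ⟨f y, hm⟩ = 1 := by
      rw [← map_mul]
      have h2 : (⟨f y, hm⟩ * ⟨f y, hm⟩ : ↥J) = 1 := Subtype.ext hyy
      rw [h2, map_one]
    rcases Lib.PSL2Inv.sq_eq_one (TwoFusion.QuatCoverSL.two_ne_zero_of_odd hF) h1 with h | h
    · left
      have h2 : (⟨f y, hm⟩ : ↥J) = 1 := e.injective (by rw [h, map_one])
      exact congrArg Subtype.val h2
    · right
      rw [← h, e.symm_apply_apply]

/-- `J ≃ SL₂(F)` lifts isomorphically. -/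
noncomputable def liftEquiv [Finite E] (hf : CExt f) (hF : Odd (Fintype.card F)) {J : Subgroup Y}
    (e : ↥J ≃* Matrix.SpecialLinearGroup (Fin 2) F) : ↥(Lft f J) ≃* ↥J :=
  MulEquiv.ofBijective ((f.comp (Lft f J).subtype).codRestrict J
    (fun x => map_mem (π := f) (B := J) x.2)) (by
    constructor
    · rw [injective_iff_map_eq_one]
      intro x hx
      exact Subtype.ext (eq_one_of_lft hf hF e x.2 (congrArg Subtype.val hx))
    · rintro ⟨y, hy⟩
      obtain ⟨x, hx, hxy⟩ := hf.exists_mem (le_closure_of_sl hF e) hy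
      exact ⟨⟨x, hx⟩, Subtype.ext hxy⟩)

theorem liftEquiv_apply [Finite E] (hf : CExt f) (hF : Odd (Fintype.card F)) {J : Subgroup Y}
    (e : ↥J ≃* Matrix.SpecialLinearGroup (Fin 2) F) (x : ↥(Lft f J)) :
    ((liftEquiv hf hF e x : ↥J) : Y) = f x := rfl

end SL

/-- `Lft f J` is subnormal in `C_E(y')` if `J` is subnormal in `C_Y(f y')`. -/
theorem lft_subnormal {J : Subgroup Y} {S : Set E} {T : Set Y} (hST : ∀ x ∈ centralizer S, f x ∈ centralizer T)
    (hle : Lft f J ≤ centralizer S) (hJ : (J.subgroupOf (centralizer T)).IsSubnormal) :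
    ((Lft f J).subgroupOf (centralizer S)).IsSubnormal := by
  let C := centralizer S
  let P : Subgroup E := J.comap f ⊓ C
  have hP : P ≤ C := inf_le_right
  have hLP : Lft f J ≤ P := le_inf (fun x hx => map_mem hx) hle
  -- `P` is subnormal in `C`
  have h1 : (P.subgroupOf C).IsSubnormal := by
    let g : ↥C →* ↥(centralizer T) := (f.comp C.subtype).codRestrict (centralizer T) (fun x => hST x x.2)
    have h2 := hJ.comap g
    have h3 : (J.subgroupOf (centralizer T)).comap g = P.subgroupOf C := by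
      ext x
      rw [mem_comap, mem_subgroupOf, mem_subgroupOf]
      change f x ∈ J ↔ (x : E) ∈ J.comap f ⊓ C
      rw [mem_inf, mem_comap]
      exact ⟨fun h => ⟨h, x.2⟩, fun h => h.1⟩
    rwa [h3] at h2
  refine Subgroup.IsSubnormal.trans (fun x hx => hLP hx : (Lft f J).subgroupOf C ≤ P.subgroupOf C) ?_ h1
  -- `Lft f J` is normal in `P`
  have h4 : (((Lft f J).subgroupOf C).subgroupOf (P.subgroupOf C)).Normal := by
    refine ⟨fun x hx g => ?_⟩
    rw [mem_subgroupOf, mem_subgroupOf] at hx ⊢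
    have hg : f (((g : ↥C) : E)) ∈ J := (mem_inf.mp (mem_subgroupOf.mp g.2)).1
    exact conj_mem (π := f) (B := J) (B' := J) (fun b hb => J.mul_mem (J.mul_mem hg hb) (J.inv_mem hg)) _ hx
  exact h4.isSubnormal

/-- **Frames lift through central 2-extensions.** -/
theorem Frame3.lift [Finite E] (hf : CExt f) {z : Y} (fr : Frame3 Y z) :
    ∃ z' : E, f z' = z ∧ Nonempty (Frame3 E z') := by
  classical
  obtain ⟨m, pos, J, y, iso, mem, ord, le, sub, comm, inj, three, gen⟩ := fr
  have hF : Odd (Fintype.card (ZMod 3)) := by rw [ZMod.card]; decide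
  have e : ∀ i, ↥(J i) ≃* Matrix.SpecialLinearGroup (Fin 2) (ZMod 3) := fun i => (iso i).some
  let φ : ∀ i, ↥(Lft f (J i)) ≃* ↥(J i) := fun i => liftEquiv hf hF (e i)
  have hφ : ∀ i (x : ↥(Lft f (J i))), ((φ i x : ↥(J i)) : Y) = f x := fun i x => rfl
  let y' : Fin m → E := fun i => ((φ i).symm ⟨y i, mem i⟩ : ↥(Lft f (J i)))
  have hy' : ∀ i, f (y' i) = y i := by
    intro i
    have h1 := hφ i ((φ i).symm ⟨y i, mem i⟩)
    rw [(φ i).apply_symm_apply] at h1
    exact h1.symm
  have hmem : ∀ i, y' i ∈ Lft f (J i) := fun i => ((φ i).symm ⟨y i, mem i⟩ : ↥(Lft f (J i))).2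
  have hcomm : ∀ i j, i ≠ j → ∀ a ∈ Lft f (J i), ∀ b ∈ Lft f (J j), a * b = b * a := fun i j hij =>
    hf.comm (comm i j hij)
  have hle : ∀ i, Lft f (J i) ≤ centralizer {y' i} := by
    intro i a ha
    rw [mem_centralizer_singleton_iff]
    have h1 : f a ∈ J i := map_mem ha
    have h2 := mem_centralizer_singleton_iff.mp (le i h1)
    have h3 : (⟨a, ha⟩ : ↥(Lft f (J i))) * ⟨y' i, hmem i⟩ = ⟨y' i, hmem i⟩ * ⟨a, ha⟩ := by
      apply (φ i).injective
      rw [map_mul, map_mul]
      apply Subtype.ext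
      rw [Subgroup.coe_mul, Subgroup.coe_mul, hφ, hφ]
      change f a * f (y' i) = f (y' i) * f a
      rw [hy']
      exact h2
    exact congrArg Subtype.val h3
  obtain ⟨z', hz', hzz⟩ : ∃ z' ∈ closure (Set.range y'), f z' = z := by
    have h1 : (closure (Set.range y')).map f = closure (Set.range y) := by
      rw [MonoidHom.map_closure]
      congr 1
      ext x
      constructor
      · rintro ⟨_, ⟨i, rfl⟩, rfl⟩
        exact ⟨i, (hy' i).symm⟩
      · rintro ⟨i, rfl⟩
        exact ⟨y' i, ⟨i, rfl⟩, hy' i⟩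
    rw [← h1] at gen
    exact gen
  refine ⟨z', hzz, ⟨⟨m, pos, fun i => Lft f (J i), y', fun i => ⟨(φ i).trans (e i)⟩, hmem, ?_, hle, ?_, hcomm, ?_, ?_,
    hz'⟩⟩⟩
  · intro i
    have h1 : orderOf (⟨y' i, hmem i⟩ : ↥(Lft f (J i))) = orderOf (y' i) := Subgroup.orderOf_mk _ _
    rw [← h1, ← orderOf_injective (φ i).toMonoidHom (φ i).injective]
    have h2 : (φ i).toMonoidHom ⟨y' i, hmem i⟩ = ⟨y i, mem i⟩ := Subtype.ext (hy' i)
    rw [h2, Subgroup.orderOf_mk, ord]
  · intro i
    refine lft_subnormal ?_ (hle i) (sub i)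
    intro x hx
    rw [mem_centralizer_singleton_iff] at hx ⊢
    rw [← hy', ← map_mul, hx, map_mul]
  · intro i j hij
    apply inj
    rw [← hy', ← hy', hij]
  · intro a b c hab hac hbc h
    apply three a b c hab hac hbc
    rw [← hy', ← hy', ← hy', ← map_mul, h]

end Cfsg.Agent.OddHalf.NI3
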