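import Cfsg.Agent.OddHalf.NI3.Props
import Cfsg.Agent.OddHalf.NI3.Lift
import Cfsg.Agent.OddHalf.NI.Final
import Cfsg.Agent.OddHalf.U2.Cut
import Cfsg.Agent.OddHalf.D6.Cut

/-!
# Node NI over `F_3`: the order-free form and the rows

* `noThree : NIV → NIV3 → NIV3b → NoThree`;
* `d6_three`: the row `Rk K 3` of D6 from `NoThree`, `F13` and the row `Small3`;
* `u2_even`: `U2.Cut.ThreeEven` from `NoThree`, `F13c` and the row `2.U₄(3)`.
-/

set_option autoImplicit false

namespace Cfsg.Agent.OddHalf.NI3.Final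

open Subgroup Cfsg Cfsg.Agent.OddHalf.Iface Cfsg.Agent.SignalizersComponents Cfsg.Agent.OddHalf.LieOddFam
open Cfsg.Agent.OddHalf.D3 (cj Comp mem_cs)
open Cfsg.Agent.OddHalf.NI (CompIn Even8 IsSL NIV compIn_of_comp compIn_of_comp_sub)
open Cfsg.Agent.OddHalf.NI.Final (comp_of_compOf CompIn.of_inf isSL_congr)

universe u

/-- Isomorphic groups have isomorphic central quotients. -/
noncomputable def quoCongr {A B : Type*} [Group A] [Group B] (e : A ≃* B) : A ⧸ center A ≃* B ⧸ center B :=
  QuotientGroup.congr (center A) (center B) e (by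
    ext b
    constructor
    · rintro ⟨a, ha, rfl⟩
      refine mem_center_iff.mpr fun g => ?_
      have h1 := mem_center_iff.mp ha (e.symm g)
      have h2 := congrArg e h1
      rw [map_mul, map_mul, e.apply_symm_apply] at h2
      exact h2
    · intro hb
      refine ⟨e.symm b, mem_center_iff.mpr fun a => ?_, e.apply_symm_apply b⟩
      apply e.injective
      rw [map_mul, map_mul, e.apply_symm_apply]
      exact mem_center_iff.mp hb (e a))

/-- Frames are transported by isomorphisms. -/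
theorem frame3_congr {N N' : Type*} [Group N] [Group N'] [Finite N] [Finite N'] (e : N ≃* N') {z : N}
    (h : Nonempty (Frame3 N z)) : Nonempty (Frame3 N' (e z)) := by
  obtain ⟨f⟩ := h
  have hf : GH.Cov.Lft.CExt e.symm.toMonoidHom := by
    refine ⟨e.symm.surjective, ?_, ?_⟩
    · intro c hc y
      have : c = 1 := e.symm.injective (by rw [map_one]; exact hc)
      rw [this, one_mul, mul_one]
    · intro c hc
      have : c = 1 := e.symm.injective (by rw [map_one]; exact hc)
      exact ⟨0, by rw [this, one_pow]⟩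
  obtain ⟨z', h1, h2⟩ := Frame3.lift hf f
  have h3 : e z = z' := by rw [← h1]; exact e.apply_symm_apply z'
  rw [h3]
  exact h2

/-- **The order-free form of NI over `F_3`.** -/
theorem noThree (hN : NIV.{u}) (h3 : NIV3.{u}) (h3b : NIV3b.{u}) : NoThree.{u} := by
  rintro G _ C t K ht hK ⟨y, M, hyM, hy, hM, h⟩
  have := C.fin
  have hcM : Comp y M := hM.toComp
  have hyo : orderOf (y : G) = 2 := by rw [Subgroup.orderOf_coe, hy]
  have h1 : CompIn (K ⊓ centralizer ({(y : G)} : Set G)) (M.map K.subtype) := compIn_of_comp_sub hcM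
  have h2 : CompIn (centralizer ({t} : Set G)) K := compIn_of_comp (comp_of_compOf hK)
  have h4 : CompIn (centralizer ({t} : Set G) ⊓ centralizer ({(y : G)} : Set G)) (M.map K.subtype) := by
    refine CompIn.of_inf h2 inf_le_left ?_
    refine h1.mono ?_ ?_
    · exact le_inf (map_subtype_le M) (le_inf ((map_subtype_le M).trans hK.1) (h1.le.trans inf_le_right))
    · exact le_inf inf_le_left (inf_le_right.trans inf_le_right)
  have hyM' : (y : G) ∈ M.map K.subtype := mem_map_of_mem K.subtype hyM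
  have hcomm : t * (y : G) = y * t := (mem_centralizer_singleton_iff.mp (hK.1 y.2)).symm
  let e : ↥M ≃* ↥(M.map K.subtype) := M.equivMapOfInjective K.subtype K.subtype_injective
  rcases h with ⟨hr, he⟩ | ⟨hc3, hfr⟩ | ⟨hSL, hyZ⟩
  · refine h3 G C t y (M.map K.subtype) hyM' ht hyo hcomm h4 (rk_congr (quoCongr e) hr) ?_
    have h5 : e ⟨y, hyM⟩ = ⟨(y : G), hyM'⟩ := rfl
    rw [← h5]
    refine he.map e.toMonoidHom ?_
    change e ⟨y, hyM⟩ ≠ 1
    rw [h5]
    intro h6
    have h7 : (y : G) = 1 := congrArg Subtype.val h6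
    rw [h7, orderOf_one] at hyo
    exact absurd hyo (by norm_num)
  · refine h3b G C t y (M.map K.subtype) hyM' ht hyo hcomm h4 ?_ (frame3_congr e hfr)
    rw [← Nat.card_congr e.toEquiv]
    exact hc3
  · refine hN G C t y (M.map K.subtype) ht hyo ?_ hcomm h4 hyM' (isSL_congr e hSL)
    rintro rfl
    apply hyZ
    rw [mem_center_iff]
    intro g
    apply Subtype.ext
    exact mem_centralizer_singleton_iff.mp (hK.1 g.2)

/-- A group with trivial centre and simple central quotient is simple. -/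
theorem simple_of_center {K : Type u} [Group K] (hz : center K = ⊥) (hs : IsSimpleGroup (K ⧸ center K)) :
    IsSimpleGroup K := by
  have e : K ⧸ center K ≃* K := (QuotientGroup.quotientMulEquivOfEq hz).trans QuotientGroup.quotientBot
  have := hs
  exact e.symm.isSimpleGroup

/-- A standard `K` with `Z(K) = 1` of type `Rk 3` is small. -/
theorem small_of_rk (h : NoThree.{u}) (hF : F13.{u}) {G : Type u} [Group G] (C : Ctx G) {K : Subgroup G}
    (S : Std0 G K) (hz : center ↥K = ⊥) (hr : Rk ↥K 3) : Small3 ↥K := by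
  by_contra hs
  have := C.fin
  obtain ⟨t, ht, hK⟩ := S.comp
  exact h G C t K ht hK (hF ↥K (simple_of_center hz S.simple) hr hs).hasY

/-- **Row `Rk K 3` of D6.** -/
theorem d6_three (h : NoThree.{u}) (hF : F13.{u}) (hs : D6.Cut.Row.{u} (fun X _ => Small3 X)) :
    D6.Cut.Row.{u} (fun X _ => Rk X 3) :=
  fun G _ C K S hc hz hr => hs G C K S hc hz (small_of_rk h hF C S.toStd0 hz hr)

/-- The row `2.U₄(3)` of U2. -/
def RowU43 : Prop :=
  ∀ (G : Type u) [Group G], Ctx G → ∀ K : Subgroup G, Std0 G K → Nat.card ↥(center ↥K) = 2 →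
    XU43 (↥K ⧸ center ↥K) → False

theorem u2_cov (h : NoThree.{u}) (hF : F13c.{u}) (hU : RowU43.{u}) : U2.Cut.Row.{u} (fun X _ => Cov3 X) := by
  intro G _ C K S hz hc
  have := C.fin
  obtain ⟨t, ht, hK⟩ := S.comp
  by_cases hb : Nat.card ↥(center ↥K) = 2 ∧ XU43 (↥K ⧸ center ↥K)
  · exact hU G C K S hb.1 hb.2
  · exact h G C t K ht hK (hF ↥K (Soft.CompOf.quasisimple hK) (Soft.CompOf.center_isPGroup (C.bal t ht) hK) hz hc hb)

/-- **The rows of U2 over `F_3` with even multiplier.** -/
theorem u2_even (h : NoThree.{u}) (hF : F13c.{u}) (hU : RowU43.{u}) : U2.Cut.ThreeEven.{u} := by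
  have key := u2_cov h hF hU
  refine ⟨?_, ?_, ?_, ?_, ?_, ?_, ?_⟩
  · exact fun G _ C K S hz hP => key G C K S hz (Or.inl hP)
  · exact fun G _ C K S hz hP => key G C K S hz (Or.inr (Or.inl hP))
  · exact fun G _ C K S hz hP => key G C K S hz (Or.inr (Or.inr (Or.inl hP)))
  · exact fun G _ C K S hz hP => key G C K S hz (Or.inr (Or.inr (Or.inr (Or.inl hP))))
  · exact fun G _ C K S hz hP => key G C K S hz (Or.inr (Or.inr (Or.inr (Or.inr (Or.inl hP)))))
  · exact fun G _ C K S hz hP => key G C K S hz (Or.inr (Or.inr (Or.inr (Or.inr (Or.inr (Or.inl hP))))))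
  · exact fun G _ C K S hz hP => key G C K S hz (Or.inr (Or.inr (Or.inr (Or.inr (Or.inr (Or.inr hP))))))

/-- The row of U2 over `F_3`. -/
theorem u2_three (h : NoThree.{u}) (hF : F13c.{u}) (hU : RowU43.{u}) (O : U2.Cut.ThreeOdd.{u}) :
    U2.Cut.Row.{u} (fun X _ => Rk X 3) :=
  U2.Cut.three_of O (u2_even h hF hU)

end Cfsg.Agent.OddHalf.NI3.Final
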