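import Mathlib
import Cfsg.Agent.OddHalf.LieOddFam
import Cfsg.Agent.OddHalf.NI.FrameDef

/-!
# Frames over the field with three elements: the interface of (T'_3) (NI over F_3, bb ODD ruling NI3-1)

* `Frame3 N z` : commuting subgroups `J i ≃ SL₂(3)` (`i < m`, `0 < m`) of `N` with involutions `y i ∈ J i`, `J i`
  subnormal in `C_N(y i)`, the `y i` distinct, no three of them with product `1`, and `z ∈ ⟨y i⟩`.
* `Frame3.le_cent`, `Frame3.sub_cent` : `J i` is subnormal in `C_N(⟨y⟩)`.
* `Even8 z` : as for `q > 3`.
* `FrameFact3` : THE TYPE FACT (T'_3).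
-/

set_option autoImplicit false

namespace Cfsg.Agent.OddHalf.NI3

open Subgroup Cfsg
open scoped commutatorElement

universe u

/-- A frame of `N` for the involution `z`, with members `SL₂(3)`. -/
structure Frame3 (N : Type*) [Group N] (z : N) where
  /-- number of members -/
  m : ℕ
  pos : 0 < m
  J : Fin m → Subgroup N
  y : Fin m → N
  iso : ∀ i, Nonempty (↥(J i) ≃* Matrix.SpecialLinearGroup (Fin 2) (ZMod 3))
  mem : ∀ i, y i ∈ J i
  ord : ∀ i, orderOf (y i) = 2
  le : ∀ i, J i ≤ centralizer {y i}
  sub : ∀ i, ((J i).subgroupOf (centralizer {y i})).IsSubnormal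
  comm : ∀ i j, i ≠ j → ∀ a ∈ J i, ∀ b ∈ J j, a * b = b * a
  inj : Function.Injective y
  /-- no three distinct involutions of the frame have product one -/
  three : ∀ a b c, a ≠ b → a ≠ c → b ≠ c → y a * y b ≠ y c
  gen : z ∈ closure (Set.range y)

namespace Frame3

variable {N : Type*} [Group N] {z : N} (f : Frame3 N z)

include f

theorem le_cent (i : Fin f.m) : f.J i ≤ centralizer (Set.range f.y) := by
  intro a ha
  rw [mem_centralizer_iff]
  rintro _ ⟨j, rfl⟩
  by_cases h : i = j
  · subst h
    exact mem_centralizer_iff.1 (f.le i ha) _ rfl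
  · exact (f.comm i j h a ha _ (f.mem j)).symm

theorem sub_cent (i : Fin f.m) : ((f.J i).subgroupOf (centralizer (Set.range f.y))).IsSubnormal := by
  have h1 : centralizer (Set.range f.y) ≤ centralizer {f.y i} :=
    centralizer_le (Set.singleton_subset_iff.2 ⟨i, rfl⟩)
  have h2 := (f.sub i).comap (inclusion h1)
  have h3 : ((f.J i).subgroupOf (centralizer {f.y i})).comap (inclusion h1) =
      (f.J i).subgroupOf (centralizer (Set.range f.y)) := by
    ext x
    rfl
  rwa [h3] at h2

end Frame3

/-- **THE TYPE FACT (T'_3)**: an even central involution of a quasisimple group `N` (the centre a 2-group) with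
`N / Z(N)` of Lie type of rank at least 2 over the field with three elements lies in a frame. -/
def FrameFact3 : Prop :=
  ∀ (N : Type u) [Group N] [Finite N], IsQuasisimple N → IsPGroup 2 ↥(center N) →
    LieOddFam.Rk (N ⧸ center N) 3 → ∀ z ∈ center N, NI.Even8 z → Nonempty (Frame3 N z)

end Cfsg.Agent.OddHalf.NI3
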