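import Cfsg.Agent.OddHalf.NI.Props
import Cfsg.Agent.OddHalf.LieOddFam
import Cfsg.Agent.OddHalf.NI3.FrameDef

/-!
# Node NI over the field with three elements: the exact Props (bb ODD #11205, rulings NI3-1 #12072, #12764; editor
helper824)

* `NoFam3 G`: the output of THEOREM X(3).
* `NIV3`: the node theorem over `F_3`.
* `EX3`: exotic pump-ups.
* `HasY K`: `K` contains a component `M` of `C_K(y)`, `y ∈ M` even; `F13`, `F13c`: all groups of Lie type over `F_3` but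
  a few small ones have it; `NIV3b`, `EX3b`: the variants for `M` with `3^14 ∣ |M|` (the type of `M` unknown).
* `NoThree`: no component `K` of an involution centralizer has `HasY K`.
-/

set_option autoImplicit false

namespace Cfsg.Agent.OddHalf.NI3

open Subgroup Cfsg Cfsg.Agent.OddHalf.Iface Cfsg.Agent.OddHalf.LieOddFam
open Cfsg.Agent.OddHalf.D3 (cj Comp)
open Cfsg.Agent.OddHalf.NI (CompIn Even8 IsSL)

universe u

/-- **THEOREM X(3)** for `G`: no nonempty family of subnormal subgroups `J i ≃ SL₂(3)` of the centralizer of the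
involutions `y i ∈ J i`, the `y i` distinct and no three of them with product one. -/
def NoFam3 (G : Type*) [Group G] : Prop :=
  ∀ (m : ℕ) (J : Fin m → Subgroup G) (y : Fin m → G), 0 < m →
    (∀ i, Nonempty (↥(J i) ≃* Matrix.SpecialLinearGroup (Fin 2) (ZMod 3))) → (∀ i, y i ∈ J i) →
    (∀ i, orderOf (y i) = 2) → (∀ i, J i ≤ centralizer (Set.range y)) →
    (∀ i, ((J i).subgroupOf (centralizer (Set.range y))).IsSubnormal) → Function.Injective y →
    (∀ a b c, a ≠ b → a ≠ c → b ≠ c → y a * y b ≠ y c) → False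

/-- **NIV3**: `t`, `y` commuting involutions (`t = y` is allowed), `M` a component of `C(t) ∩ C(y)`, `M / Z(M)` of Lie
type of rank at least 2 over `F_3`, `y ∈ M` even in `M`: impossible. -/
def NIV3 : Prop :=
  ∀ (G : Type u) [Group G], Ctx G → ∀ (t y : G) (M : Subgroup G) (hy : y ∈ M), orderOf t = 2 → orderOf y = 2 →
    t * y = y * t → CompIn (centralizer ({t} : Set G) ⊓ centralizer ({y} : Set G)) M → Rk (↥M ⧸ center ↥M) 3 →
    Even8 (⟨y, hy⟩ : ↥M) → False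

/-- **(EX3)**: exotic pump-ups over `F_3`. -/
def EX3 : Prop :=
  ∀ (G : Type u) [Group G], Ctx G → ∀ (t y : G) (M N : Subgroup G) (hy : y ∈ M), orderOf t = 2 → orderOf y = 2 →
    t ≠ y → t * y = y * t → CompIn (centralizer ({t} : Set G) ⊓ centralizer ({y} : Set G)) M →
    Rk (↥M ⧸ center ↥M) 3 → Even8 (⟨y, hy⟩ : ↥M) → Comp y N → M < N → cj t N = N → ¬ LieOdd (↥N ⧸ center ↥N) →
    False

/-- **NIV3b**: as `NIV3`, for `M` with a frame for `y` and `3^14 ∣ |M|`. -/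
def NIV3b : Prop :=
  ∀ (G : Type u) [Group G], Ctx G → ∀ (t y : G) (M : Subgroup G) (hy : y ∈ M), orderOf t = 2 → orderOf y = 2 →
    t * y = y * t → CompIn (centralizer ({t} : Set G) ⊓ centralizer ({y} : Set G)) M → 3 ^ 14 ∣ Nat.card ↥M →
    Nonempty (Frame3 ↥M ⟨y, hy⟩) → False

/-- **(EX3b)**: a component `N ∋ y` of `C(y)` with `3^14 ∣ |N|` is of Lie type in odd characteristic. -/
def EX3b : Prop :=
  ∀ (G : Type u) [Group G], Ctx G → ∀ (y : G) (N : Subgroup G), orderOf y = 2 → Comp y N → y ∈ N →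
    3 ^ 14 ∣ Nat.card ↥N → LieOdd (↥N ⧸ center ↥N)

/-- A component `M ∋ y` of `C_K(y)`: of Lie type of rank at least 2 over `F_3` with `y` even in `M` (`M = K`,
`y ∈ Z(K)` is allowed), or of order divisible by `3^14` with a frame for `y`, or `SL₂(q)`, `q > 3` (for `³D₄(3)`). -/
def HasY (K : Type*) [Group K] : Prop :=
  ∃ (y : K) (M : Subgroup K) (hy : y ∈ M), orderOf y = 2 ∧ CompIn (centralizer ({y} : Set K)) M ∧
    ((Rk (↥M ⧸ center ↥M) 3 ∧ Even8 (⟨y, hy⟩ : ↥M)) ∨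
      (3 ^ 14 ∣ Nat.card ↥M ∧ Nonempty (Frame3 ↥M ⟨y, hy⟩)) ∨ (IsSL ↥M ∧ y ∉ center K))

/-- As `HasY`, and `Z(M)` is a 2-group in the first case (this form lifts to 2-covers of `K`). -/
def HasYF (K : Type*) [Group K] : Prop :=
  ∃ (y : K) (M : Subgroup K) (hy : y ∈ M), orderOf y = 2 ∧ CompIn (centralizer ({y} : Set K)) M ∧
    ((Rk (↥M ⧸ center ↥M) 3 ∧ Even8 (⟨y, hy⟩ : ↥M) ∧ IsPGroup 2 ↥(center ↥M)) ∨
      (3 ^ 14 ∣ Nat.card ↥M ∧ Nonempty (Frame3 ↥M ⟨y, hy⟩)) ∨ (IsSL ↥M ∧ y ∉ center K))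

theorem HasYF.hasY {K : Type*} [Group K] (h : HasYF K) : HasY K := by
  obtain ⟨y, M, hy, h1, h2, h3⟩ := h
  refine ⟨y, M, hy, h1, h2, ?_⟩
  rcases h3 with ⟨h3, h4, -⟩ | h3 | h3
  · exact Or.inl ⟨h3, h4⟩
  · exact Or.inr (Or.inl h3)
  · exact Or.inr (Or.inr h3)

/-- The simple groups over `F_3` without `HasY`, or not to be treated by `HasY`. -/
def Small3 (X : Type*) [Group X] : Prop :=
  (∃ (F : Type) (_ : Field F) (_ : Fintype F), Fintype.card F = 3 ∧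
    Nonempty (X ≃* Matrix.ProjectiveSpecialLinearGroup (Fin 3) F)) ∨
  (∃ (F : Type) (_ : Field F) (_ : Fintype F), Fintype.card F = 9 ∧ Nonempty (X ≃* PSU 3 F 3)) ∨
  (∃ (F : Type) (_ : Field F) (_ : Fintype F), Fintype.card F = 3 ∧
    Nonempty (X ≃* Matrix.ProjectiveSpecialLinearGroup (Fin 4) F)) ∨
  (∃ (F : Type) (_ : Field F) (_ : Fintype F), Fintype.card F = 9 ∧ Nonempty (X ≃* PSU 4 F 3)) ∨
  (∃ (F : Type) (_ : Field F) (_ : Fintype F), Fintype.card F = 3 ∧ Nonempty (X ≃* PSp 2 F)) ∨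
  FG2 X 3 ∨
  (∃ (F : Type) (_ : Field F) (_ : Fintype F), Fintype.card F = 3 ∧ Nonempty (X ≃* POmega F (quadFormOdd 3 F))) ∨
  (∃ (F : Type) (_ : Field F) (_ : Fintype F), Fintype.card F = 3 ∧ Nonempty (X ≃* POmega F (quadFormPlus 4 F))) ∨
  (∃ (F : Type) (_ : Field F) (_ : Fintype F) (b c : F), Fintype.card F = 3 ∧
    (∀ z₁ z₂ : F, z₁ ^ 2 + b * z₁ * z₂ + c * z₂ ^ 2 = 0 → z₁ = 0 ∧ z₂ = 0) ∧
    Nonempty (X ≃* POmega F (quadFormMinus 3 F b c)))

/-- `U₄(3)` -/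
def XU43 (X : Type*) [Group X] : Prop :=
  ∃ (F : Type) (_ : Field F) (_ : Fintype F), Fintype.card F = 9 ∧ Nonempty (X ≃* PSU 4 F 3)

/-- The types over `F_3` with even multiplier. -/
def Cov3 (X : Type*) [Group X] : Prop :=
  (∃ (F : Type) (_ : Field F) (_ : Fintype F) (n : ℕ), Fintype.card F = 3 ∧ 4 ≤ n ∧
    Nonempty (X ≃* Matrix.ProjectiveSpecialLinearGroup (Fin n) F)) ∨
  (∃ (F : Type) (_ : Field F) (_ : Fintype F) (n : ℕ), Fintype.card F = 9 ∧ 4 ≤ n ∧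
    Nonempty (X ≃* PSU n F 3)) ∨
  FSp X 3 ∨ FOdd X 3 ∨ FPlus X 3 ∨ FMinus X 3 ∨ FE7 X 3

/-- **(F1_3)**: simple groups. -/
def F13 : Prop :=
  ∀ (K : Type u) [Group K] [Finite K], IsSimpleGroup K → Rk K 3 → ¬ Small3 K → HasYF K

/-- **(F1_3c)**: quasisimple groups with centre a nontrivial 2-group. -/
def F13c : Prop :=
  ∀ (K : Type u) [Group K] [Finite K], IsQuasisimple K → IsPGroup 2 ↥(center K) → center K ≠ ⊥ →
    Cov3 (K ⧸ center K) → ¬ (Nat.card ↥(center K) = 2 ∧ XU43 (K ⧸ center K)) → HasY K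

/-- No component of an involution centralizer has `HasY`. -/
def NoThree : Prop :=
  ∀ (G : Type u) [Group G], Ctx G → ∀ (t : G) (K : Subgroup G), orderOf t = 2 → CompOf t K → ¬ HasY ↥K

end Cfsg.Agent.OddHalf.NI3
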