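import Mathlib
import Cfsg.Agent.SignalizersComponents.Components

/-!
# The group `SL₂(3)` (NI over F_3)

`not_subnormal` : a quasisimple group has no subnormal subgroup `SL₂(3)`.
-/

set_option autoImplicit false
set_option linter.style.haveILetI false

namespace Cfsg.Agent.OddHalf.NI3

open Subgroup Cfsg Cfsg.Agent.SignalizersComponents
open scoped commutatorElement

section SL3

/-- the group `SL₂(3)` -/
abbrev S3 := Matrix.SpecialLinearGroup (Fin 2) (ZMod 3)

set_option maxRecDepth 100000 in
theorem s3_mul : ∀ x y : S3, x * x * x * x = 1 → y * y * y * y = 1 →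
    (x * y) * (x * y) * (x * y) * (x * y) = 1 := by
  decide +kernel

set_option maxRecDepth 100000 in
theorem s3_comm : ∀ x y : S3,
    (x * y * x⁻¹ * y⁻¹) * (x * y * x⁻¹ * y⁻¹) * (x * y * x⁻¹ * y⁻¹) * (x * y * x⁻¹ * y⁻¹) = 1 := by
  decide +kernel

/-- an element of order 3 -/
def s3u : S3 := ⟨!![1, 1; 0, 1], by decide⟩

/-- an element of order 3 -/
def s3l : S3 := ⟨!![1, 0; 1, 1], by decide⟩

set_option maxRecDepth 100000 in
theorem s3_rel : s3u * s3u * s3u = 1 ∧ s3u ≠ 1 ∧ s3u * s3l ≠ s3l * s3u := by
  decide +kernel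

/-- `SL₂(3)` is not perfect -/
theorem s3_not_perfect : ¬ Group.IsPerfect S3 := by
  intro h
  let Q : Subgroup S3 :=
    { carrier := {x | x * x * x * x = 1}
      one_mem' := by simp
      mul_mem' := fun {x y} hx hy => s3_mul x y hx hy
      inv_mem' := fun {x} hx => by
        have hx' : x * x * x * x = 1 := hx
        change x⁻¹ * x⁻¹ * x⁻¹ * x⁻¹ = 1
        have : x⁻¹ * x⁻¹ * x⁻¹ * x⁻¹ = (x * x * x * x)⁻¹ := by group
        rw [this, hx', inv_one] }
  have h1 : commutator S3 ≤ Q := by
    rw [_root_.commutator_def, Subgroup.commutator_le]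
    intro x _ y _
    rw [commutatorElement_def]
    exact s3_comm x y
  rw [h.commutator_eq_top] at h1
  have h2 : s3u ∈ Q := h1 (Subgroup.mem_top _)
  have h3 : s3u * s3u * s3u * s3u = 1 := h2
  rw [s3_rel.1, one_mul] at h3
  exact s3_rel.2.1 h3

/-- `-1` is central in `SL₂(3)` -/
theorem s3_neg (x : S3) : x * -1 = -1 * x := by
  rw [mul_neg, neg_mul, mul_one, one_mul]

end SL3

/-- a quasisimple group has no subnormal subgroup `SL₂(3)` -/
theorem not_subnormal {M : Type*} [Group M] (hM : IsQuasisimple M) {J : Subgroup M} (e : ↥J ≃* S3)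
    (hJ : J.IsSubnormal) : False := by
  rcases Components.quasisimple_subnormal hM hJ with h | h
  · apply s3_not_perfect
    have h1 : Group.IsPerfect ↥J := by
      rw [h]
      haveI := hM.1
      exact Group.IsPerfect.ofSurjective (f := (Subgroup.topEquiv (G := M)).symm.toMonoidHom)
        (Subgroup.topEquiv (G := M)).symm.surjective
    exact Group.IsPerfect.ofSurjective (f := e.toMonoidHom) e.surjective
  · apply s3_rel.2.2
    apply e.symm.injective
    apply Subtype.ext
    rw [map_mul, map_mul]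
    exact mem_center_iff.mp (h (e.symm s3l).2) (e.symm s3u : ↥J)

end Cfsg.Agent.OddHalf.NI3
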