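import Cfsg.Agent.OddHalf.NI3.Props
import Cfsg.Agent.OddHalf.NI.Mult
import Cfsg.Agent.OddHalf.NI.Niv
import Cfsg.Agent.OddHalf.NI3.SLThree

/-!
# Frames over the field with three elements in `G` (NI over F_3)

* `exists_lift_frame` : frames lift through central 2-extensions.
* `diag3_false` : a diagonal group `M = {d d^t : d ∈ D} ∋ y` (`D` a component of `C(y)`) with a `Frame3` for `y`
  contradicts THEOREM X(3): the frame is lifted to `D` and to `D^t`.
-/

set_option autoImplicit false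
set_option linter.style.haveILetI false

namespace Cfsg.Agent.OddHalf.NI3

open Subgroup Cfsg Cfsg.Agent.SignalizersComponents
open Cfsg.Agent.OddHalf.D3 (cj Comp)
open Cfsg.Agent.OddHalf.NI (Dg CompIn)
open scoped commutatorElement

/-- arbitrary index types -/
theorem NoFam3.of_finite {G : Type*} [Group G] (hX : NoFam3 G) {ι : Type*} [Finite ι] [Nonempty ι]
    (J : ι → Subgroup G) (y : ι → G)
    (he : ∀ i, Nonempty (↥(J i) ≃* Matrix.SpecialLinearGroup (Fin 2) (ZMod 3))) (hm : ∀ i, y i ∈ J i)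
    (ho : ∀ i, orderOf (y i) = 2) (hle : ∀ i, J i ≤ centralizer (Set.range y))
    (hs : ∀ i, ((J i).subgroupOf (centralizer (Set.range y))).IsSubnormal) (hi : Function.Injective y)
    (h3 : ∀ a b c, a ≠ b → a ≠ c → b ≠ c → y a * y b ≠ y c) : False := by
  obtain ⟨e⟩ : Nonempty (Fin (Nat.card ι) ≃ ι) := ⟨(Finite.equivFin ι).symm⟩
  have hr : Set.range (y ∘ e) = Set.range y := e.surjective.range_comp y
  refine hX (Nat.card ι) (J ∘ e) (y ∘ e) Nat.card_pos (fun i => he _) (fun i => hm _) (fun i => ho _)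
    (fun i => ?_) (fun i => ?_)
    (hi.comp e.injective) (fun a b c hab hac hbc => h3 _ _ _ (fun h => hab (e.injective h))
      (fun h => hac (e.injective h)) (fun h => hbc (e.injective h)))
  · rw [hr]
    exact hle (e i)
  · rw [hr]
    exact hs (e i)

/-- a subgroup of a component `D` of `C(y)`, subnormal in a group containing `D ∩ C`, `C ≤ C(y)`, is subnormal in `C` -/
theorem isSubnormal_of {G : Type*} [Group G] {D C T J : Subgroup G} {y : G} (hD : Comp y D)
    (hCy : C ≤ centralizer ({y} : Set G)) (hJD : J ≤ D) (hJC : J ≤ C) (hT : D ⊓ C ≤ T)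
    (hJT : (J.subgroupOf T).IsSubnormal) : (J.subgroupOf C).IsSubnormal := by
  have hJ1 : J ≤ D ⊓ C := le_inf hJD hJC
  have h1 : J.subgroupOf C ≤ (D ⊓ C).subgroupOf C := fun x hx => hJ1 hx
  refine Subgroup.IsSubnormal.trans h1 ?_ ?_
  · let ι : ((D ⊓ C).subgroupOf C) →* T :=
      (Subgroup.inclusion hT).comp (subgroupOfEquivOfLe (inf_le_right : D ⊓ C ≤ C)).toMonoidHom
    have h2 : (J.subgroupOf C).subgroupOf ((D ⊓ C).subgroupOf C) = (J.subgroupOf T).comap ι := rfl
    rw [h2]
    exact hJT.comap ι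
  · have h3 : (D ⊓ C).subgroupOf C =
        (D.subgroupOf (centralizer ({y} : Set G))).comap (Subgroup.inclusion hCy) := by
      ext ⟨x, hx⟩
      simp only [mem_subgroupOf, mem_inf, mem_comap]
      exact ⟨fun h => h.1, fun h => ⟨h, hx⟩⟩
    rw [h3]
    exact hD.comp.1.comap _

/-- subnormality of images -/
theorem isSubnormal_map {G : Type*} [Group G] {D : Subgroup G} {J T : Subgroup ↥D}
    (h : (J.subgroupOf T).IsSubnormal) : ((J.map D.subtype).subgroupOf (T.map D.subtype)).IsSubnormal := by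
  let e := (T.equivMapOfInjective D.subtype (Subgroup.subtype_injective D))
  have h2 : (J.map D.subtype).subgroupOf (T.map D.subtype) = (J.subgroupOf T).comap e.symm.toMonoidHom := by
    ext x
    rw [Subgroup.mem_subgroupOf, Subgroup.mem_comap, Subgroup.mem_subgroupOf]
    obtain ⟨y, rfl⟩ := e.surjective x
    have h3 : e.symm.toMonoidHom (e y) = y := e.symm_apply_apply y
    rw [h3]
    change D.subtype (y : D) ∈ J.map D.subtype ↔ (y : D) ∈ J
    exact Subgroup.mem_map_iff_mem (Subgroup.subtype_injective D)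
  rw [h2]
  exact h.comap _

/-! ### Lifting -/

/-- elements of odd order commuting modulo a central 2-element commute -/
theorem comm_of_pow {E : Type*} [Group E] {x g c : E} {n k : ℕ} (hcx : x * c = c * x)
    (h : x * g * x⁻¹ = c * g) (hx : x ^ n = 1) (hn : Odd n) (hc : c ^ 2 ^ k = 1) : x * g = g * x := by
  have hit : ∀ j : ℕ, x ^ j * g * (x ^ j)⁻¹ = c ^ j * g := by
    intro j
    induction j with
    | zero => simp
    | succ j ih =>
      have hcj : Commute x (c ^ j) := (show Commute x c from hcx).pow_right j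
      calc x ^ (j + 1) * g * (x ^ (j + 1))⁻¹ = x * (x ^ j * g * (x ^ j)⁻¹) * x⁻¹ := by
            rw [pow_succ']; group
        _ = x * (c ^ j * g) * x⁻¹ := by rw [ih]
        _ = (x * c ^ j) * g * x⁻¹ := by group
        _ = c ^ j * (x * g * x⁻¹) := by rw [hcj.eq]; group
        _ = c ^ j * (c * g) := by rw [h]
        _ = c ^ (j + 1) * g := by rw [pow_succ]; group
  have h1 := hit n
  rw [hx, one_mul, inv_one, mul_one] at h1
  have h2 : c ^ n = 1 := by
    have : c ^ n * g = 1 * g := by rw [← h1, one_mul]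
    exact mul_right_cancel this
  have h3 : c = 1 := by
    have h4 : orderOf c ∣ n := orderOf_dvd_of_pow_eq_one h2
    have h5 : orderOf c ∣ 2 ^ k := orderOf_dvd_of_pow_eq_one hc
    have h6 : Nat.Coprime n (2 ^ k) := Nat.Coprime.pow_right k (Nat.coprime_two_right.2 hn)
    exact orderOf_eq_one_iff.1 (Nat.eq_one_of_dvd_coprimes h6 h4 h5)
  rw [h3, one_mul, mul_inv_eq_iff_eq_mul] at h
  exact h

/-- **Lifting a frame** through a central 2-extension `f : A → M` -/
theorem exists_lift_frame {A M : Type*} [Group A] [Finite A] [Group M] {f : A →* M} (hs : Function.Surjective f)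
    (hc : f.ker ≤ center A) (h2 : IsPGroup 2 f.ker) {z : M} (fr : Frame3 M z) :
    ∃ (J : Fin fr.m → Subgroup A) (y : Fin fr.m → A),
      (∀ i, Nonempty (↥(J i) ≃* S3)) ∧ (∀ i, y i ∈ J i) ∧ (∀ i, orderOf (y i) = 2) ∧ (∀ i, f (y i) = fr.y i) ∧
      (∀ i j, ∀ a ∈ J i, a * y j = y j * a) ∧
      (∀ i, ((J i).subgroupOf ((centralizer ({fr.y i} : Set M)).comap f)).IsSubnormal) := by
  classical
  haveI : Fact (Nat.Prime 3) := ⟨by norm_num⟩
  have hcard : Odd (Fintype.card (ZMod 3)) := by rw [ZMod.card]; decide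
  choose e _ using fun i => (⟨Classical.choice (fr.iso i), trivial⟩ : ∃ _ : ↥(fr.J i) ≃* S3, True)
  let s : ∀ i, S3 →* M := fun i => (fr.J i).subtype.comp (e i).symm.toMonoidHom
  have hsmem : ∀ i x, s i x ∈ fr.J i := fun i x => ((e i).symm x).2
  have hsinj : ∀ i, Function.Injective (s i) := fun i =>
    (Subgroup.subtype_injective _).comp (e i).symm.injective
  have hssurj : ∀ i, ∀ a ∈ fr.J i, ∃ x, s i x = a := by
    intro i a ha
    refine ⟨e i ⟨a, ha⟩, ?_⟩
    change (((e i).symm (e i ⟨a, ha⟩) : ↥(fr.J i)) : M) = a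
    rw [(e i).symm_apply_apply]
  have hsneg : ∀ i, s i (-1) = fr.y i := by
    intro i
    have h1 := NI.eq_of_involutions hcard (e i) (x := ⟨fr.y i, fr.mem i⟩)
      (by rw [Subgroup.orderOf_mk]; exact fr.ord i)
    change (((e i).symm (-1) : ↥(fr.J i)) : M) = fr.y i
    rw [← h1, (e i).symm_apply_apply]
  choose s' hs' using fun i => NI.Mult.exists_lift_sl (K := ZMod 3) (p := 3) (by norm_num)
    (by exact_mod_cast (ZMod.natCast_self 3)) hs hc h2 (s i)
  have hf : ∀ i x, f (s' i x) = s i x := fun i x => DFunLike.congr_fun (hs' i) x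
  have hs'inj : ∀ i, Function.Injective (s' i) := by
    intro i x x' h
    apply hsinj i
    rw [← hf, ← hf, h]
  have hfy : ∀ i, f (s' i (-1)) = fr.y i := fun i => by rw [hf, hsneg]
  refine ⟨fun i => (s' i).range, fun i => s' i (-1), fun i => ⟨(MonoidHom.ofInjective (hs'inj i)).symm⟩,
    fun i => ⟨-1, rfl⟩, fun i => ?_, hfy, ?_, fun i => ?_⟩
  · -- order 2
    refine orderOf_eq_prime ?_ ?_
    · rw [← map_pow, neg_one_sq, map_one]
    · intro h
      have h1 := fr.ord i
      rw [← hfy i, show s' i (-1) = 1 from h, map_one, orderOf_one] at h1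
      exact absurd h1 (by decide)
  · -- commuting
    rintro i j _ ⟨x, rfl⟩
    by_cases hij : i = j
    · subst hij
      rw [← map_mul, ← map_mul, s3_neg]
    · have htop : (centralizer ({s' j (-1)} : Set A)).comap (s' i) = ⊤ := by
        have key : ∀ x : S3, x ^ 3 = 1 → x ∈ (centralizer ({s' j (-1)} : Set A)).comap (s' i) := by
          intro x hx
          rw [mem_comap, mem_centralizer_singleton_iff]
          set g : A := s' j (-1) with hg
          set c : A := s' i x * g * (s' i x)⁻¹ * g⁻¹ with hcdef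
          have hck : c ∈ f.ker := by
            rw [MonoidHom.mem_ker, hcdef, map_mul, map_mul, map_mul, map_inv, map_inv, hf, hg, hfy]
            have h3 := fr.comm i j hij (s i x) (hsmem i x) (fr.y j) (fr.mem j)
            rw [h3]; group
          have hcc := mem_center_iff.mp (hc hck)
          obtain ⟨k, hk⟩ := h2 ⟨c, hck⟩
          refine comm_of_pow (c := c) (n := 3) (k := k) (hcc _) (by rw [hcdef]; group)
            (by rw [← map_pow, hx, map_one]) (by decide) ?_
          exact congrArg Subtype.val hk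
        have h3F : ∀ a : ZMod 3, ((3 : ℕ) : ZMod 3) * a = 0 := by
          intro a
          rw [ZMod.natCast_self, zero_mul]
        refine NI.Mult.mem_of_up_lo (fun a => key _ ?_) (fun a => key _ ?_)
        · rw [NI.Mult.up_pow, h3F, NI.Mult.up_zero]
        · rw [NI.Mult.lo_pow, h3F, NI.Mult.lo_zero]
      have hx : x ∈ (centralizer ({s' j (-1)} : Set A)).comap (s' i) := by rw [htop]; exact mem_top _
      exact mem_centralizer_singleton_iff.mp (mem_comap.mp hx)
  · -- subnormality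
    have hle : fr.J i ≤ centralizer ({fr.y i} : Set M) := fr.le i
    have hle1 : (s' i).range ≤ (fr.J i).comap f := by
      rintro _ ⟨x, rfl⟩
      rw [mem_comap, hf]
      exact hsmem i x
    have hle2 : (fr.J i).comap f ≤ (centralizer ({fr.y i} : Set M)).comap f := comap_mono hle
    refine Subgroup.IsSubnormal.trans (K := ((fr.J i).comap f).subgroupOf ((centralizer ({fr.y i} : Set M)).comap f))
      (fun x hx => hle1 hx) ?_ ?_
    · -- normal
      have hn : ((s' i).range.subgroupOf ((fr.J i).comap f)).Normal := by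
        constructor
        rintro ⟨n, hn⟩ hn' ⟨g, hg⟩
        obtain ⟨x, rfl⟩ := hn'
        obtain ⟨w, hw⟩ := hssurj i (f g) hg
        have hk : (s' i w)⁻¹ * g ∈ f.ker := by
          rw [MonoidHom.mem_ker, map_mul, map_inv, hf, hw, inv_mul_cancel]
        have hcc := mem_center_iff.mp (hc hk) (s' i x)
        refine ⟨w * x * w⁻¹, ?_⟩
        rw [map_mul, map_mul, map_inv]
        change s' i w * s' i x * (s' i w)⁻¹ = g * s' i x * g⁻¹
        calc s' i w * s' i x * (s' i w)⁻¹
            = s' i w * (s' i x * ((s' i w)⁻¹ * g)) * g⁻¹ := by group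
          _ = s' i w * (((s' i w)⁻¹ * g) * s' i x) * g⁻¹ := by rw [hcc]
          _ = g * s' i x * g⁻¹ := by group
      have h5 := Subgroup.Normal.isSubnormal hn
      let ι : (((fr.J i).comap f).subgroupOf ((centralizer ({fr.y i} : Set M)).comap f)) →* (fr.J i).comap f :=
        (subgroupOfEquivOfLe hle2).toMonoidHom
      have h6 : ((s' i).range.subgroupOf ((centralizer ({fr.y i} : Set M)).comap f)).subgroupOf
          (((fr.J i).comap f).subgroupOf ((centralizer ({fr.y i} : Set M)).comap f)) =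
          ((s' i).range.subgroupOf ((fr.J i).comap f)).comap ι := rfl
      rw [h6]
      exact h5.comap ι
    · let ι : (centralizer ({fr.y i} : Set M)).comap f →* centralizer ({fr.y i} : Set M) :=
        (f.comp (Subgroup.subtype _)).codRestrict _ (fun x => x.2)
      have h6 : ((fr.J i).comap f).subgroupOf ((centralizer ({fr.y i} : Set M)).comap f) =
          ((fr.J i).subgroupOf (centralizer ({fr.y i} : Set M))).comap ι := rfl
      rw [h6]
      exact (fr.sub i).comap ι

/-- the centre of a diagonal group is a 2-group -/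
theorem center_two_of_dg {G : Type*} [Group G] {t : G} {M D : Subgroup G} (hMD : Dg M D t)
    (hZ : IsPGroup 2 ↥(center ↥D)) : IsPGroup 2 ↥(center ↥M) := by
  have hcm : ∀ a ∈ D, ∀ b ∈ D, a * (t * b * t⁻¹) = (t * b * t⁻¹) * a := fun a ha b hb =>
    D3.comm_elt hMD.comm ha (D3.conj_mem_cj hb)
  rintro ⟨⟨x, hx⟩, hc⟩
  obtain ⟨d, hd, rfl⟩ := hMD.ex x hx
  -- `d` is central in `D`
  have key : ∀ g : ↥D, (MulAut.conj (⟨d, hd⟩ : ↥D)) g * g⁻¹ ∈ center ↥D := by
    intro g
    have h1 : ((g : G) * (t * g * t⁻¹)) * (d * (t * d * t⁻¹)) = (d * (t * d * t⁻¹)) * ((g : G) * (t * g * t⁻¹)) :=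
      congrArg Subtype.val (mem_center_iff.mp hc ⟨_, hMD.mem g g.2⟩)
    -- `[d, g] [d^t, g^t] = 1`
    have e1 := hcm d hd g g.2
    have e2 := hcm g g.2 d hd
    have h2 : d * g * (d⁻¹ * (g : G)⁻¹) = (t * (d * g * (d⁻¹ * (g : G)⁻¹)) * t⁻¹)⁻¹ := by
      rw [eq_inv_iff_mul_eq_one]
      have h3 : (g : G) * d * (t * (g * d) * t⁻¹) = d * g * (t * (d * g) * t⁻¹) := by
        calc (g : G) * d * (t * (g * d) * t⁻¹) = g * (d * (t * g * t⁻¹)) * (t * d * t⁻¹) := by group
          _ = g * ((t * g * t⁻¹) * d) * (t * d * t⁻¹) := by rw [e1]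
          _ = ((g : G) * (t * g * t⁻¹)) * (d * (t * d * t⁻¹)) := by group
          _ = (d * (t * d * t⁻¹)) * ((g : G) * (t * g * t⁻¹)) := h1
          _ = d * ((t * d * t⁻¹) * g) * (t * g * t⁻¹) := by group
          _ = d * (g * (t * d * t⁻¹)) * (t * g * t⁻¹) := by rw [e2]
          _ = d * g * (t * (d * g) * t⁻¹) := by group
      have e3 := hcm (d⁻¹ * (g : G)⁻¹) (D.mul_mem (D.inv_mem hd) (D.inv_mem g.2)) (d * g) (D.mul_mem hd g.2)
      calc d * g * (d⁻¹ * (g : G)⁻¹) * (t * (d * g * (d⁻¹ * (g : G)⁻¹)) * t⁻¹)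
          = d * g * ((d⁻¹ * (g : G)⁻¹) * (t * (d * g) * t⁻¹)) * (t * (d⁻¹ * (g : G)⁻¹) * t⁻¹) := by group
        _ = d * g * ((t * (d * g) * t⁻¹) * (d⁻¹ * (g : G)⁻¹)) * (t * (d⁻¹ * (g : G)⁻¹) * t⁻¹) := by rw [e3]
        _ = (d * g * (t * (d * g) * t⁻¹)) * ((d⁻¹ * (g : G)⁻¹) * (t * (d⁻¹ * (g : G)⁻¹) * t⁻¹)) := by group
        _ = ((g : G) * d * (t * (g * d) * t⁻¹)) * ((d⁻¹ * (g : G)⁻¹) * (t * (d⁻¹ * (g : G)⁻¹) * t⁻¹)) := by rw [h3]
        _ = (g : G) * d * ((t * (g * d) * t⁻¹) * (d⁻¹ * (g : G)⁻¹)) * (t * (d⁻¹ * (g : G)⁻¹) * t⁻¹) := by group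
        _ = (g : G) * d * ((d⁻¹ * (g : G)⁻¹) * (t * (g * d) * t⁻¹)) * (t * (d⁻¹ * (g : G)⁻¹) * t⁻¹) := by
            rw [hcm (d⁻¹ * (g : G)⁻¹) (D.mul_mem (D.inv_mem hd) (D.inv_mem g.2)) (g * d) (D.mul_mem g.2 hd)]
        _ = 1 := by group
    rw [mem_center_iff]
    intro a
    apply Subtype.ext
    change (a : G) * (d * g * d⁻¹ * (g : G)⁻¹) = d * g * d⁻¹ * (g : G)⁻¹ * a
    have h4 : d * g * d⁻¹ * (g : G)⁻¹ = d * g * (d⁻¹ * (g : G)⁻¹) := by group
    have h5 := hcm a a.2 (d * g * (d⁻¹ * (g : G)⁻¹))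
      (D.mul_mem (D.mul_mem hd g.2) (D.mul_mem (D.inv_mem hd) (D.inv_mem g.2)))
    rw [h4, h2]
    exact ((show Commute (a : G) _ from h5).inv_right).eq
  have hfix := Cfsg.Agent.S1304.result (hMD.quasi.1.commutator_eq_top) (MulAut.conj (⟨d, hd⟩ : ↥D)) key
  have hdc : (⟨d, hd⟩ : ↥D) ∈ center ↥D := by
    rw [mem_center_iff]
    intro g
    have h1 := hfix g
    rw [MulAut.conj_apply, mul_inv_eq_iff_eq_mul] at h1
    exact h1.symm
  obtain ⟨k, hk⟩ := hZ ⟨_, hdc⟩
  refine ⟨k, ?_⟩
  have hk' : d ^ 2 ^ k = 1 := congrArg (fun u : center ↥D => ((u : ↥D) : G)) hk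
  apply Subtype.ext
  apply Subtype.ext
  change (d * (t * d * t⁻¹)) ^ 2 ^ k = 1
  have h1 : Commute d (t * d * t⁻¹) := hcm d hd d hd
  rw [h1.mul_pow, hk', one_mul]
  have h2 : (t * d * t⁻¹) ^ 2 ^ k = t * d ^ 2 ^ k * t⁻¹ := by
    exact (map_pow (MulAut.conj t) d (2 ^ k)).symm
  rw [h2, hk']
  group

/-- **The diagonal pump-up.** -/
theorem diag3_false {G : Type*} [Group G] [Finite G] (hX : NoFam3 G) {t y : G} {M D : Subgroup G} (hM : IsQuasisimple M) (hD : Comp y D) (hZ : IsPGroup 2 ↥(center ↥D)) (hMD : Dg M D t)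
    (hyM : y ∈ M) (fr : Frame3 ↥M ⟨y, hyM⟩) : False := by
  have htt := hMD.xx
  have htinv : t⁻¹ = t := inv_eq_of_mul_eq_one_right htt
  have hcm : ∀ a ∈ D, ∀ b ∈ D, a * (t * b * t⁻¹) = (t * b * t⁻¹) * a := fun a ha b hb =>
    D3.comm_elt hMD.comm ha (D3.conj_mem_cj hb)
  -- the projection `D → M`
  let f : ↥D →* ↥M :=
    { toFun := fun d => ⟨d * (t * d * t⁻¹), hMD.mem d d.2⟩
      map_one' := by
        apply Subtype.ext
        change (1 : G) * (t * 1 * t⁻¹) = 1
        group
      map_mul' := by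
        intro a b
        apply Subtype.ext
        change (a * b : G) * (t * (a * b) * t⁻¹) = (a * (t * a * t⁻¹)) * (b * (t * b * t⁻¹))
        have h1 := hcm b b.2 a a.2
        calc (a * b : G) * (t * (a * b) * t⁻¹) = a * (b * (t * a * t⁻¹)) * (t * b * t⁻¹) := by group
          _ = a * ((t * a * t⁻¹) * b) * (t * b * t⁻¹) := by rw [h1]
          _ = _ := by group }
  have hf : ∀ d : ↥D, ((f d : ↥M) : G) = d * (t * d * t⁻¹) := fun _ => rfl
  have hker : f.ker ≤ center ↥D := by
    intro d hd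
    have h1 : (d : G) * (t * d * t⁻¹) = 1 := congrArg Subtype.val (MonoidHom.mem_ker.mp hd)
    rw [mem_center_iff]
    intro g
    apply Subtype.ext
    change (g : G) * d = d * g
    have h2 : (d : G) = (t * d * t⁻¹)⁻¹ := eq_inv_of_mul_eq_one_left h1
    have h4 := hcm g g.2 d d.2
    have h5 : (g : G) * (t * d * t⁻¹)⁻¹ = (t * d * t⁻¹)⁻¹ * g := by
      rw [mul_inv_eq_iff_eq_mul, mul_assoc, h4, inv_mul_cancel_left]
    rw [h2, h5, ← h2]
  have h2 : IsPGroup 2 f.ker := by
    intro x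
    obtain ⟨k, hk⟩ := hZ ⟨x, hker x.2⟩
    refine ⟨k, ?_⟩
    apply Subtype.ext
    have := congrArg (fun z : center ↥D => (z : ↥D)) hk
    exact this
  have hsurj : Function.Surjective f := by
    rintro ⟨x, hx⟩
    obtain ⟨d, hd, hxd⟩ := hMD.ex x hx
    exact ⟨⟨d, hd⟩, Subtype.ext hxd.symm⟩
  obtain ⟨J, Y, hiso, hmem, hord, hfY, hcomm, hsub⟩ := exists_lift_frame hsurj hker h2 fr
  -- `Y i` is not central in `D`
  have hnc : ∀ i, ¬ ∀ d ∈ D, d * (Y i : G) = Y i * d := by
    intro i hc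
    have h1 : ∀ x : ↥M, x * fr.y i = fr.y i * x := by
      intro x
      obtain ⟨d, rfl⟩ := hsurj x
      rw [← hfY i, ← map_mul, ← map_mul]
      congr 1
      exact Subtype.ext (hc d d.2)
    have h3 : centralizer ({fr.y i} : Set ↥M) = ⊤ := by
      rw [eq_top_iff]
      intro x _
      exact mem_centralizer_singleton_iff.mpr (h1 x)
    obtain ⟨e⟩ := fr.iso i
    refine not_subnormal hM e ?_
    have h4 := fr.sub i
    rw [h3] at h4
    have h5 : fr.J i = ((fr.J i).subgroupOf ⊤).comap (Subgroup.topEquiv (G := ↥M)).symm.toMonoidHom := by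
      ext x
      rfl
    rw [h5]
    exact h4.comap _
  -- conjugation by `t`
  have htD : ∀ d ∈ D, t * d * t⁻¹ ∈ cj t D := fun d hd => D3.conj_mem_cj hd
  have hconj2 : ∀ x : G, t * (t * x * t⁻¹) * t⁻¹ = x := by
    intro x
    calc t * (t * x * t⁻¹) * t⁻¹ = (t * t) * x * (t * t)⁻¹ := by group
      _ = x := by rw [htt]; group
  let a : Fin fr.m → G := fun i => (Y i : G)
  let b : Fin fr.m → G := fun i => t * a i * t⁻¹
  let W : Fin fr.m ⊕ Fin fr.m → G := Sum.elim a b
  let A : Fin fr.m → Subgroup G := fun i => (J i).map D.subtype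
  let B : Fin fr.m → Subgroup G := fun i => cj t (A i)
  let K : Fin fr.m ⊕ Fin fr.m → Subgroup G := Sum.elim A B
  have haD : ∀ i, a i ∈ D := fun i => (Y i).2
  have haA : ∀ i, a i ∈ A i := fun i => ⟨Y i, hmem i, rfl⟩
  have hAD : ∀ i, A i ≤ D := fun i => map_subtype_le _
  have hbB : ∀ i, b i ∈ B i := fun i => D3.conj_mem_cj (haA i)
  have hbD : ∀ i, b i ∈ cj t D := fun i => D3.conj_mem_cj (haD i)
  -- elements of `W` outside of `D`, `D^t`
  have hbD' : ∀ i, b i ∉ D := by
    intro i hi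
    apply hnc i
    intro d hd
    have h1 : (b i) * (t * d * t⁻¹) = (t * d * t⁻¹) * b i := D3.comm_elt hMD.comm hi (htD d hd)
    have h3 : t * (a i * d) * t⁻¹ = t * (d * a i) * t⁻¹ := by
      calc t * (a i * d) * t⁻¹ = (t * a i * t⁻¹) * (t * d * t⁻¹) := by group
        _ = (t * d * t⁻¹) * (t * a i * t⁻¹) := h1
        _ = t * (d * a i) * t⁻¹ := by group
    exact (mul_left_cancel (mul_right_cancel h3)).symm
  have haD' : ∀ i, a i ∉ cj t D := by
    intro i hi
    apply hnc i
    intro d hd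
    exact D3.comm_elt hMD.comm hd hi
  -- `y` lies in `⟨W⟩`
  have hyW : y ∈ closure (Set.range W) := by
    have h1 : (⟨y, hyM⟩ : ↥M) ∈ (closure (Set.range W)).comap M.subtype := by
      refine (closure_le _).mpr ?_ fr.gen
      rintro _ ⟨i, rfl⟩
      rw [SetLike.mem_coe, mem_comap, ← hfY i]
      change (Y i : G) * (t * Y i * t⁻¹) ∈ closure (Set.range W)
      exact mul_mem (Subgroup.subset_closure ⟨Sum.inl i, rfl⟩) (Subgroup.subset_closure ⟨Sum.inr i, rfl⟩)
    exact h1
  set C : Subgroup G := centralizer (Set.range W) with hC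
  have hCy : C ≤ centralizer ({y} : Set G) := by
    rw [hC, ← centralizer_closure]
    exact centralizer_le (Set.singleton_subset_iff.mpr hyW)
  -- `t` normalises `C`
  have hWt : ∀ p, ∃ p', W p' = t * W p * t⁻¹ := by
    rintro (i | i)
    · exact ⟨Sum.inr i, rfl⟩
    · exact ⟨Sum.inl i, (hconj2 _).symm⟩
  have hCt : ∀ x ∈ C, t * x * t⁻¹ ∈ C := by
    intro x hx
    rw [hC, mem_centralizer_iff]
    rintro _ ⟨p, rfl⟩
    obtain ⟨p', hp'⟩ := hWt p
    have h1 : W p' * x = x * W p' := mem_centralizer_iff.mp hx _ ⟨p', rfl⟩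
    rw [hp'] at h1
    have h3 := congrArg (fun u => t * u * t⁻¹) h1
    change t * (t * W p * t⁻¹ * x) * t⁻¹ = t * (x * (t * W p * t⁻¹)) * t⁻¹ at h3
    calc W p * (t * x * t⁻¹) = t * (t * W p * t⁻¹) * t⁻¹ * (t * x * t⁻¹) := by rw [hconj2]
      _ = t * (t * W p * t⁻¹ * x) * t⁻¹ := by group
      _ = t * (x * (t * W p * t⁻¹)) * t⁻¹ := h3
      _ = (t * x * t⁻¹) * (t * (t * W p * t⁻¹) * t⁻¹) := by group
      _ = (t * x * t⁻¹) * W p := by rw [hconj2]
  -- the members centralise `W`
  have hAC : ∀ i, A i ≤ C := by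
    rintro i _ ⟨x, hx, rfl⟩
    rw [hC, mem_centralizer_iff]
    rintro _ ⟨j | j, rfl⟩
    · exact congrArg Subtype.val (hcomm i j x hx).symm
    · exact (hcm x x.2 (a j) (haD j)).symm
  have hBC : ∀ i, B i ≤ C := by
    rintro i _ ⟨x, hx, rfl⟩
    exact hCt x (hAC i hx)
  have hAs : ∀ i, ((A i).subgroupOf C).IsSubnormal := by
    intro i
    refine isSubnormal_of (T := ((centralizer ({fr.y i} : Set ↥M)).comap f).map D.subtype) hD hCy (hAD i) (hAC i)
      ?_ (isSubnormal_map (hsub i))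
    rintro x ⟨hxD, hxC⟩
    refine ⟨⟨x, hxD⟩, ?_, rfl⟩
    rw [SetLike.mem_coe, mem_comap, mem_centralizer_singleton_iff, ← hfY i, ← map_mul, ← map_mul]
    congr 1
    exact Subtype.ext (mem_centralizer_iff.mp hxC _ ⟨Sum.inl i, rfl⟩).symm
  have hBs : ∀ i, ((B i).subgroupOf C).IsSubnormal := by
    intro i
    let φ : ↥C →* ↥C :=
      { toFun := fun x => ⟨t * x * t⁻¹, hCt x x.2⟩
        map_one' := by
          apply Subtype.ext
          change t * 1 * t⁻¹ = 1
          group
        map_mul' := by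
          intro x x'
          apply Subtype.ext
          change t * (x * x') * t⁻¹ = (t * x * t⁻¹) * (t * x' * t⁻¹)
          group }
    have h1 : (B i).subgroupOf C = ((A i).subgroupOf C).comap φ := by
      ext x
      rw [mem_subgroupOf, mem_comap, mem_subgroupOf, D3.mem_cj]
      change t⁻¹ * (x : G) * t ∈ A i ↔ t * x * t⁻¹ ∈ A i
      rw [htinv]
    rw [h1]
    exact (hAs i).comap φ
  haveI : Nonempty (Fin fr.m ⊕ Fin fr.m) := ⟨Sum.inl ⟨0, fr.pos⟩⟩
  refine hX.of_finite K W ?_ ?_ ?_ ?_ ?_ ?_ ?_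
  · have h1 : ∀ i, Nonempty (↥(A i) ≃* S3) := fun i => by
      obtain ⟨e⟩ := hiso i
      exact ⟨((J i).equivMapOfInjective D.subtype (Subgroup.subtype_injective D)).symm.trans e⟩
    rintro (i | i)
    · exact h1 i
    · obtain ⟨e⟩ := h1 i
      exact ⟨((A i).equivMapOfInjective (MulAut.conj t).toMonoidHom (MulAut.conj t).injective).symm.trans e⟩
  · rintro (i | i)
    · exact haA i
    · exact hbB i
  · have h1 : ∀ i, orderOf (a i) = 2 := fun i => by
      rw [Subgroup.orderOf_coe]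
      exact hord i
    rintro (i | i)
    · exact h1 i
    · change orderOf (t * a i * t⁻¹) = 2
      rw [D3.orderOf_conj, h1]
  · rintro (i | i)
    · exact hAC i
    · exact hBC i
  · rintro (i | i)
    · exact hAs i
    · exact hBs i
  · have hai : ∀ i j, a i = a j → i = j := by
      intro i j h
      have h1 : Y i = Y j := Subtype.ext h
      apply fr.inj
      rw [← hfY i, ← hfY j, h1]
    rintro (i | i) (j | j) h
    · rw [hai i j h]
    · exact absurd (haD i) (by rw [show a i = b j from h]; exact hbD' j)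
    · exact absurd (haD j) (by rw [show a j = b i from h.symm]; exact hbD' i)
    · rw [hai i j (mul_left_cancel (mul_right_cancel (show t * a i * t⁻¹ = t * a j * t⁻¹ from h)))]
  · have h3 : ∀ p q r, p ≠ q → p ≠ r → q ≠ r → a p * a q ≠ a r := by
      intro p q r hpq hpr hqr h
      apply fr.three p q r hpq hpr hqr
      rw [← hfY, ← hfY, ← hfY, ← map_mul]
      congr 1
      exact Subtype.ext h
    rintro (p | p) (q | q) (r | r) hpq hpr hqr h
    · exact h3 p q r (fun e => hpq (by rw [e])) (fun e => hpr (by rw [e])) (fun e => hqr (by rw [e])) h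
    · exact hbD' r (by rw [← show a p * a q = b r from h]; exact mul_mem (haD p) (haD q))
    · have h1 : b q = (a p)⁻¹ * a r := by rw [← show a p * b q = a r from h]; group
      exact hbD' q (by rw [h1]; exact mul_mem (inv_mem (haD p)) (haD r))
    · have h1 : a p = b r * (b q)⁻¹ := by rw [← show a p * b q = b r from h]; group
      exact haD' p (by rw [h1]; exact mul_mem (hbD r) (inv_mem (hbD q)))
    · have h1 : b p = a r * (a q)⁻¹ := by rw [← show b p * a q = a r from h]; group
      exact hbD' p (by rw [h1]; exact mul_mem (haD r) (inv_mem (haD q)))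
    · have h1 : a q = (b p)⁻¹ * b r := by rw [← show b p * a q = b r from h]; group
      exact haD' q (by rw [h1]; exact mul_mem (inv_mem (hbD p)) (hbD r))
    · exact haD' r (by rw [← show b p * b q = a r from h]; exact mul_mem (hbD p) (hbD q))
    · refine h3 p q r (fun e => hpq (by rw [e])) (fun e => hpr (by rw [e])) (fun e => hqr (by rw [e])) ?_
      have h1 : t * (a p * a q) * t⁻¹ = t * a r * t⁻¹ := by
        calc t * (a p * a q) * t⁻¹ = (t * a p * t⁻¹) * (t * a q * t⁻¹) := by group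
          _ = t * a r * t⁻¹ := h
      exact mul_left_cancel (mul_right_cancel h1)

end Cfsg.Agent.OddHalf.NI3
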