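import Cfsg.Agent.OddHalf.NI3.SubSL
import Cfsg.Agent.OddHalf.NI3.Props

/-!
# THEOREM X(3), part 1: the amalgam

* `F23a`, `F23b S7`, `AutM3 S7`, `Sol3 S7` : the inputs;
* `Am` : the group `C = C_A / O(C_A)` embedded as `C(x_k)` in the groups `H k = C_{A - k} / O(C_{A - k})`;
* `Am.main` : two of the indices, `k` and `l`, form Solomon's configuration.
-/

set_option autoImplicit false
set_option linter.style.haveILetI false
set_option linter.unusedSectionVars false

namespace Cfsg.Agent.OddHalf.NI3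

open Subgroup Cfsg Cfsg.Agent.Cit Cfsg.Agent.Cit.SolvTwo Cfsg.Agent.SignalizersComponents

universe u

/-- **(F2'_3), ambient part** -/
def F23a : Prop :=
  ∀ (H : Type u) [Group H] [Finite H], pPrimeCore 2 H = ⊥ → ∀ (x z : H) (J' J : Subgroup H), Cl x J' →
    IsPr J z → Sn J (centralizer ({x} : Set H)) → J ≤ centralizer (J' : Set H) → z ∈ center H →
    IsComponent (pc (cls J') J') → IsPGroup 2 ↥(center ↥(pc (cls J') J')) →
    (∀ y ∈ J, y * y = z → y ∈ pc (cls J') J') → J ≤ pc (cls J') J'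

/-- **(F2'_3), intrinsic part** -/
def F23b (S7 : ∀ (N : Type u) [Group N], N → N → Subgroup N → Subgroup N → Subgroup N → Prop) : Prop :=
  ∀ (N : Type u) [Group N] [Finite N], IsQuasisimple N → IsPGroup 2 ↥(center N) → ∀ (x z : N) (J' J : Subgroup N),
    Cl x J' → IsPr J z → Sn J (centralizer ({x} : Set N)) → J ≤ centralizer (J' : Set N) → z ∈ center N →
    ∃ T : Subgroup N, IsPr T (x * z) ∧ Sn T (centralizer ({x} : Set N)) ∧ S7 N z x J J' T

/-- automorphisms trivial on `A`, `B`, `A'` -/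
def AutM3 (S7 : ∀ (N : Type u) [Group N], N → N → Subgroup N → Subgroup N → Subgroup N → Prop) : Prop :=
  ∀ (N : Type u) [Group N] [Finite N] (c d : N) (A B A' : Subgroup N), S7 N c d A B A' →
    ∀ α : MulAut N, (∀ x ∈ A, α x = x) → (∀ x ∈ B, α x = x) → (∀ x ∈ A', α x = x) → α = 1 ∨ α = MulAut.conj d

/-- **(Sol)** over `F_3` -/
def Sol3 (S7 : ∀ (N : Type u) [Group N], N → N → Subgroup N → Subgroup N → Subgroup N → Prop) : Prop :=
  ∀ (X : Type u) [Group X] [Finite X] (u v : X) (Lu Lv Ju Jv Jw : Subgroup X), orderOf u = 2 → orderOf v = 2 →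
    u ≠ v → u * v = v * u → D3.Comp u Lu → D3.Comp v Lv → u ∈ Ju → v ∈ Jv → u * v ∈ Jw →
    Nonempty (↥Ju ≃* SL23) → Nonempty (↥Jv ≃* SL23) → Ju ≤ Lu → Jv ≤ Lu → Jw ≤ Lu → Ju ≤ Lv → Jv ≤ Lv → Jw ≤ Lv →
    (∀ (hu : u ∈ Lu) (hv : v ∈ Lu), S7 ↥Lu ⟨u, hu⟩ ⟨v, hv⟩ (Ju.subgroupOf Lu) (Jv.subgroupOf Lu) (Jw.subgroupOf Lu)) →
    (∀ (hu : u ∈ Lv) (hv : v ∈ Lv), S7 ↥Lv ⟨v, hv⟩ ⟨u, hu⟩ (Jv.subgroupOf Lv) (Ju.subgroupOf Lv) (Jw.subgroupOf Lv)) →
    False

variable {S7 : ∀ (N : Type u) [Group N], N → N → Subgroup N → Subgroup N → Subgroup N → Prop}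

/-- an element commuting with `A`, `B`, `A'` commutes with `C(d)` -/
theorem comm_of_s7 (hA : AutM3 S7) {N : Type u} [Group N] [Finite N] {c d : N} {A B A' : Subgroup N}
    (h7 : S7 N c d A B A') {a b : N} (h1 : ∀ x ∈ A, a * x = x * a) (h2 : ∀ x ∈ B, a * x = x * a)
    (h3 : ∀ x ∈ A', a * x = x * a) (hb : b * d = d * b) : a * b = b * a := by
  have key : ∀ x : N, a * x = x * a → MulAut.conj a x = x := fun x hx => by
    rw [MulAut.conj_apply, hx, mul_inv_cancel_right]
  rcases hA N c d A B A' h7 (MulAut.conj a) (fun x hx => key x (h1 x hx)) (fun x hx => key x (h2 x hx))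
    (fun x hx => key x (h3 x hx)) with h | h
  · have h4 := DFunLike.congr_fun h b
    rw [MulAut.conj_apply, MulAut.one_apply] at h4
    exact mul_inv_eq_iff_eq_mul.1 h4
  · have h4 := DFunLike.congr_fun h b
    rw [MulAut.conj_apply, MulAut.conj_apply, ← hb, mul_inv_cancel_right] at h4
    exact mul_inv_eq_iff_eq_mul.1 h4

section General

variable {H : Type u} [Group H] [Finite H]

theorem comap_centralizer {D : Subgroup H} {x : H} (hx : x ∈ D) :
    (centralizer ({x} : Set H)).comap D.subtype = centralizer ({(⟨x, hx⟩ : D)} : Set D) := by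
  ext y
  rw [mem_comap, mem_centralizer_singleton_iff, mem_centralizer_singleton_iff]
  exact ⟨fun h => Subtype.ext h, fun h => congrArg Subtype.val h⟩

/-- the third member in a component `D` containing `J'` and `J` -/
theorem third (hB : F23b S7) {x z : H} {J' J D : Subgroup H} (h' : Cl x J')
    (h : IsPr J z) (hs : Sn J (centralizer ({x} : Set H))) (hc : J ≤ centralizer (J' : Set H))
    (hz : z ∈ center H) (hD : IsComponent D) (hD2 : IsPGroup 2 ↥(center ↥D)) (hJ' : J' ≤ D) (hJ : J ≤ D) :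
    ∃ T : Subgroup H, IsPr T (x * z) ∧ Sn T (centralizer ({x} : Set H)) ∧ T ≤ D ∧
      S7 ↥D ⟨z, hJ h.mem⟩ ⟨x, hJ' h'.pr.mem⟩ (J.subgroupOf D) (J'.subgroupOf D) (T.subgroupOf D) := by
  have hxD : x ∈ D := hJ' h'.pr.mem
  have hcl : Cl (⟨x, hxD⟩ : D) (J'.subgroupOf D) := by
    refine ⟨h'.pr.subgroupOf hJ', ?_⟩
    have h1 := h'.sn.comap D.subtype
    rwa [comap_centralizer hxD] at h1
  have hs2 : Sn (J.subgroupOf D) (centralizer ({(⟨x, hxD⟩ : D)} : Set D)) := by
    have h1 := hs.comap D.subtype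
    rwa [comap_centralizer hxD] at h1
  have g1 : J.subgroupOf D ≤ centralizer (J'.subgroupOf D : Set D) := by
    intro a ha
    rw [mem_centralizer_iff]
    intro b hb
    exact Subtype.ext (mem_centralizer_iff.1 (hc ha) b hb)
  have g2 : (⟨z, hJ h.mem⟩ : D) ∈ center D := by
    rw [mem_center_iff]
    intro g
    exact Subtype.ext (mem_center_iff.1 hz g)
  obtain ⟨T, hT, hTs, h7⟩ := hB ↥D hD.2 hD2 ⟨x, hxD⟩ ⟨z, hJ h.mem⟩ (J'.subgroupOf D) (J.subgroupOf D) hcl
    (h.subgroupOf hJ) hs2 g1 g2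
  · have hTD : T.map D.subtype ≤ D := map_subtype_le T
    have e : (T.map D.subtype).subgroupOf D = T := by
      rw [subgroupOf, comap_map_eq_self_of_injective D.subtype_injective]
    refine ⟨T.map D.subtype, ?_, ?_, hTD, ?_⟩
    · have h2 := hT.map D.subtype (by
        intro h3
        have h4 := hT.ord
        have h5 : (⟨x, hxD⟩ * ⟨z, hJ h.mem⟩ : D) = 1 := D.subtype_injective (by rw [h3, map_one])
        rw [h5, orderOf_one] at h4
        exact absurd h4 (by norm_num))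
      exact h2
    · have h1 := hTs.map D.subtype
      have h2 : (centralizer ({(⟨x, hxD⟩ : D)} : Set D)).map D.subtype = centralizer ({x} : Set H) ⊓ D := by
        rw [← comap_centralizer hxD]
        exact map_comap_eq _ _ |>.trans (by rw [range_subtype, inf_comm])
      rw [h2] at h1
      refine h1.trans ?_
      have h3 := Sn.inf_of_isSubnormal hD.1 (centralizer ({x} : Set H))
      rwa [inf_comm] at h3
    · rw [e]; exact h7

end General

/-- The amalgam. -/
structure Am {ι : Type} {C : Type u} [Group C] (H : ι → Type u) [∀ k, Group (H k)] (g : ∀ k, C →* H k)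
    (y : ι → C) (J : ι → Subgroup C) : Prop where
  inj : ∀ k, Function.Injective (g k)
  rng : ∀ k, (g k).range = centralizer ({g k (y k)} : Set (H k))
  pr : ∀ k, IsPr (J k) (y k)
  sn : ∀ k, (J k).IsSubnormal
  yc : ∀ k (c : C), c * y k = y k * c
  cen : ∀ i k, i ≠ k → g k (y i) ∈ center (H k)
  O1 : pPrimeCore 2 C = ⊥
  OH : ∀ k, pPrimeCore 2 (H k) = ⊥
  yinj : Function.Injective y
  three : ∀ a b c, a ≠ b → a ≠ c → b ≠ c → y a * y b ≠ y c
  min : ∀ k, ∃ i, i ≠ k ∧ ¬ ((J i).map (g k)).IsSubnormal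

namespace Am

variable {ι : Type} {C : Type u} [Group C] [Finite C] {H : ι → Type u} [∀ k, Group (H k)] [∀ k, Finite (H k)]
  {g : ∀ k, C →* H k} {y : ι → C} {J : ι → Subgroup C}

/-- the piece of `J k` in `H k` -/
def DD (g : ∀ k, C →* H k) (J : ι → Subgroup C) (k : ι) : Subgroup (H k) :=
  pc (cls ((J k).map (g k))) ((J k).map (g k))

variable (h : Am H g y J)

include h

theorem ne_one (k : ι) : y k ≠ 1 := by
  intro h1
  have h2 := (h.pr k).ord
  rw [h1, orderOf_one] at h2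
  exact absurd h2 (by norm_num)

theorem pr_map {S : Subgroup C} {z : C} (hS : IsPr S z) (k : ι) : IsPr (S.map (g k)) (g k z) := by
  refine hS.map (g k) ?_
  intro h1
  have h2 : z = 1 := h.inj k (by rw [h1, map_one])
  have h3 := hS.ord
  rw [h2, orderOf_one] at h3
  exact absurd h3 (by norm_num)

theorem sn_map {S : Subgroup C} (hS : S.IsSubnormal) (k : ι) :
    Sn (S.map (g k)) (centralizer ({g k (y k)} : Set (H k))) := by
  have h1 : Sn S ⊤ := Sn.of_isSubnormal hS le_top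
  have h2 := h1.map (g k)
  rwa [← MonoidHom.range_eq_map, h.rng k] at h2

theorem cl (k : ι) : Cl (g k (y k)) ((J k).map (g k)) := ⟨h.pr_map (h.pr k) k, h.sn_map (h.sn k) k⟩

theorem cm {i j : ι} (hij : i ≠ j) : ∀ a ∈ J i, ∀ b ∈ J j, a * b = b * a :=
  cm_of_ne h.O1 (fun c => h.yc i c) (fun c => h.yc j c) (fun e => hij (h.yinj e)) (h.pr i) (h.pr j) (h.sn i) (h.sn j)

omit h in
theorem map_comm {S T : Subgroup C} (hc : ∀ a ∈ S, ∀ b ∈ T, a * b = b * a) (k : ι) :
    S.map (g k) ≤ centralizer (T.map (g k) : Set (H k)) := by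
  rintro _ ⟨a, ha, rfl⟩
  rw [mem_centralizer_iff]
  rintro _ ⟨b, hb, rfl⟩
  rw [← map_mul, ← map_mul, hc a ha b hb]

/-- the step and the third member at `k` -/
theorem exists_l (hT : TStmt.{u}) (hA : F23a.{u}) (hB : F23b S7) (k : ι) :
    ∃ l, l ≠ k ∧ IsComponent (DD g J k) ∧ IsPGroup 2 ↥(center ↥(DD g J k)) ∧ (J k).map (g k) ≤ DD g J k ∧
      (J l).map (g k) ≤ DD g J k ∧ ∃ T : Subgroup C, T.IsSubnormal ∧ IsPr T (y k * y l) ∧ T.map (g k) ≤ DD g J k ∧
        ∃ (h1 : g k (y l) ∈ DD g J k) (h2 : g k (y k) ∈ DD g J k),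
        S7 ↥(DD g J k) ⟨_, h1⟩ ⟨_, h2⟩ (((J l).map (g k)).subgroupOf (DD g J k))
          (((J k).map (g k)).subgroupOf (DD g J k)) ((T.map (g k)).subgroupOf (DD g J k)) := by
  obtain ⟨l, hlk, hns⟩ := h.min k
  have hc : (J l).map (g k) ≤ centralizer ((J k).map (g k) : Set (H k)) := map_comm (h.cm hlk) k
  have hprl := h.pr_map (h.pr l) k
  have hsl := h.sn_map (h.sn l) k
  obtain ⟨h1, h2, h3⟩ := (step' hT (h.OH k) (h.cl k) hprl hsl hc).resolve_left hns
  have hz := h.cen l k hlk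
  have hJl := hA (H k) (h.OH k) _ _ _ _ (h.cl k) hprl hsl hc hz h1 h2 h3
  have hJk : (J k).map (g k) ≤ DD g J k := le_pc
  obtain ⟨T, hT1, hT2, hT3, h7⟩ := third hB (h.cl k) hprl hsl hc hz h1 h2 hJk hJl
  have hTr : T ≤ (g k).range := by rw [h.rng k]; exact hT2.1
  have hTm : (T.comap (g k)).map (g k) = T := by
    rw [map_comap_eq]; exact inf_eq_right.2 hTr
  refine ⟨l, hlk, h1, h2, hJk, hJl, T.comap (g k), ?_, ?_, ?_, hJl hprl.mem, hJk (h.cl k).pr.mem, ?_⟩
  · have h4 := hT2.comap (g k)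
    have h5 : (g k).range.comap (g k) = ⊤ := by
      rw [eq_top_iff]; intro c _; exact ⟨c, rfl⟩
    rw [← h.rng k, h5] at h4
    exact h4.isSubnormal IsSubnormal.top
  · have h4 : g k (y k * y l) ∈ T := by rw [map_mul]; exact hT1.mem
    refine ⟨?_, ?_, h4⟩
    · obtain ⟨e⟩ := hT1.iso
      refine ⟨((T.comap (g k)).equivMapOfInjective (g k) (h.inj k)).trans
        ((MulEquiv.subgroupCongr hTm).trans e)⟩
    · rw [← orderOf_injective (g k) (h.inj k), map_mul]
      exact hT1.ord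
  · rw [hTm]; exact hT3
  · rw [hTm]; exact h7

/-- **part 1 of THEOREM X(3)** -/
theorem main [Nonempty ι] (hT : TStmt.{u}) (hA : F23a.{u}) (hB : F23b S7) (hM : AutM3 S7) :
    ∃ k l : ι, k ≠ l ∧ ∃ T : Subgroup C, T.IsSubnormal ∧ IsPr T (y k * y l) ∧
      (IsComponent (DD g J k) ∧ IsPGroup 2 ↥(center ↥(DD g J k)) ∧ (J k).map (g k) ≤ DD g J k ∧
        (J l).map (g k) ≤ DD g J k ∧ T.map (g k) ≤ DD g J k) ∧
      (IsComponent (DD g J l) ∧ IsPGroup 2 ↥(center ↥(DD g J l)) ∧ (J l).map (g l) ≤ DD g J l ∧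
        (J k).map (g l) ≤ DD g J l ∧ T.map (g l) ≤ DD g J l) := by
  obtain ⟨k⟩ := ‹Nonempty ι›
  obtain ⟨l, hlk, c1, c2, c3, c4, T, t1, t2, t3, -⟩ := h.exists_l hT hA hB k
  obtain ⟨m, hml, d1, d2, d3, d4, T', t1', t2', t3', e1, e2, h7⟩ := h.exists_l hT hA hB l
  -- centres
  have ycc : ∀ i j, ∀ c : C, c * (y i * y j) = y i * y j * c := by
    intro i j c
    rw [← mul_assoc, h.yc i c, mul_assoc, h.yc j c, ← mul_assoc]
  have hTl : ∀ a ∈ T, ∀ b ∈ J l, a * b = b * a := by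
    refine cm_of_ne h.O1 (ycc k l) (h.yc l) ?_ t2 (h.pr l) t1 (h.sn l)
    intro e
    exact h.ne_one k (mul_eq_right.1 e)
  have hTm : ∀ a ∈ T, ∀ b ∈ J m, a * b = b * a := by
    refine cm_of_ne h.O1 (ycc k l) (h.yc m) ?_ t2 (h.pr m) t1 (h.sn m)
    intro e
    by_cases hmk : m = k
    · rw [hmk] at e
      exact h.ne_one l (mul_eq_left.1 e)
    · exact h.three k l m hlk.symm (fun e => hmk e.symm) hml.symm e
  -- `T` in `H l`
  have hTpr := h.pr_map t2 l
  have hTsn := h.sn_map t1 l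
  have hin : ∀ a ∈ T.map (g l), a * a = g l (y k * y l) → a ∈ DD g J l := by
    rcases step' hT (h.OH l) (h.cl l) hTpr hTsn (map_comm hTl l) with h3 | h3
    · exfalso
      -- `x_l` centralises `D_l`
      have h4 := comm_component hTpr h3 d1
      have hzk := h.cen k l hlk.symm
      have h5 : DD g J l ≤ centralizer ({g l (y l)} : Set (H l)) := by
        intro b hb
        rw [mem_centralizer_singleton_iff]
        have h6 := h4 _ hTpr.mem b hb
        rw [map_mul] at h6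
        have h7 := mem_center_iff.1 hzk
        have h8 : g l (y k) * (g l (y l) * b) = g l (y k) * (b * g l (y l)) := by
          calc g l (y k) * (g l (y l) * b) = g l (y k) * g l (y l) * b := by group
            _ = b * (g l (y k) * g l (y l)) := h6
            _ = (b * g l (y k)) * g l (y l) := by group
            _ = g l (y k) * (b * g l (y l)) := by rw [h7 b]; group
        exact (mul_left_cancel h8).symm
      have h6 := comm_component (K := ↥(centralizer ({g l (y l)} : Set (H l))))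
        ((h.cl l).pr.subgroupOf (h.cl l).sn.1) (h.cl l).sn.2 (Components.isComponent_subgroupOf h5 d1)
      obtain ⟨a, ha, b, hb, haz, hbz, hab⟩ := (h.cl l).pr.t3.ex4
      apply hab
      exact congrArg Subtype.val (h6 ⟨a, (h.cl l).sn.1 ha⟩ ha ⟨b, (h.cl l).sn.1 hb⟩ (d3 hb))
    · exact h3.2.2
  -- `T = T'`
  have hTT : T = T' ∧ m = k := by
    by_contra hcon
    have hcm : ∀ a ∈ T, ∀ b ∈ T', a * b = b * a := by
      by_cases e : y k * y l = y l * y m
      · have hmk : m = k := by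
          apply h.yinj
          have e2 : y l * y k = y l * y m := by rw [← e, h.yc l (y k)]
          exact (mul_left_cancel e2).symm
        subst hmk
        rw [← e] at t2'
        rcases SLThree.eq_or_cm h.O1 (ycc m l) t2.isSl t2'.isSl t1 t1' with h8 | h8
        · exact absurd ⟨h8, rfl⟩ hcon
        · exact h8
      · exact cm_of_ne h.O1 (ycc k l) (ycc l m) e t2 t2' t1 t1'
    obtain ⟨a, ha, b, hb, haz, hbz, hab⟩ := hTpr.t3.ex4
    apply hab
    have haD := hin a ha haz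
    have hbD := hin b hb hbz
    have key : ∀ S : Subgroup C, (∀ a ∈ T, ∀ b ∈ S, a * b = b * a) →
        ∀ x ∈ (S.map (g l)).subgroupOf (DD g J l), (⟨a, haD⟩ : DD g J l) * x = x * ⟨a, haD⟩ := by
      intro S hS x hx
      apply Subtype.ext
      exact (mem_centralizer_iff.1 (map_comm hS l ha) (x : H l) hx).symm
    have h8 := comm_of_s7 hM h7 (a := ⟨a, haD⟩) (b := ⟨b, hbD⟩) (key _ hTm) (key _ hTl) (key _ hcm) (by
      apply Subtype.ext
      exact mem_centralizer_singleton_iff.1 (hTsn.1 hb))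
    exact congrArg Subtype.val h8
  obtain ⟨e1, e2⟩ := hTT
  subst e1 e2
  exact ⟨m, l, hml, T, t1, t2, ⟨c1, c2, c3, c4, t3⟩, ⟨d1, d2, d3, d4, t3'⟩⟩

end Am

end Cfsg.Agent.OddHalf.NI3
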