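import Cfsg.Agent.OddHalf.NI3.Props
import Cfsg.Agent.KFacts.MulOdd.UThree
import Cfsg.Agent.KFacts.MulOdd.Main
import Cfsg.Agent.KFacts.MulOdd.InstChev
import Cfsg.Agent.KFacts.MulOdd.TypeA
import Cfsg.Agent.S0243
import Cfsg.Agent.S0245
import Cfsg.Agent.S0246
import Cfsg.Agent.S0280
import Cfsg.Agent.S0292
import Cfsg.Agent.S0293
import Cfsg.Agent.S0294
import Cfsg.Agent.S1027
import Cfsg.Agent.S1086
import Cfsg.Agent.S1088
import Cfsg.Agent.ChevalleyStructure.Elts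

/-!
# NI over `F_3`: `81 ∣ |M|`

`card81`: `M` finite and perfect, `M / Z(M)` of Lie type of rank at least 2 over `F_3`, `Z(M)` of even order: then
`81 ∣ |M|`. (`L₃(3)` and `U₃(3)` have no perfect double cover; the other groups have order divisible by 81.)
-/

set_option autoImplicit false

namespace Cfsg.Agent.OddHalf.NI3.Card81

open Subgroup Cfsg Cfsg.Agent.OddHalf.LieOddFam

universe u

theorem dvd_of_mul {a b c : ℕ} (h : a * b = c) (hc : 81 ∣ c) (ha : Nat.Coprime 3 a) : 81 ∣ b := by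
  have h1 : Nat.Coprime 81 a := by
    have : (81 : ℕ) = 3 ^ 4 := by norm_num
    rw [this]
    exact ha.pow_left 4
  rw [← h] at hc
  exact h1.dvd_of_dvd_mul_left hc

theorem dvd_pow {n : ℕ} (h : 4 ≤ n) : 81 ∣ 3 ^ n := by
  have : (81 : ℕ) = 3 ^ 4 := by norm_num
  rw [this]
  exact pow_dvd_pow 3 h

theorem coprime_two : Nat.Coprime 3 2 := by decide

theorem coprime_gcd_two (n : ℕ) : Nat.Coprime 3 (Nat.gcd n 2) :=
  Nat.Coprime.coprime_dvd_right (Nat.gcd_dvd_right n 2) coprime_two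

theorem coprime_gcd_four (n : ℕ) : Nat.Coprime 3 (Nat.gcd 4 n) :=
  Nat.Coprime.coprime_dvd_right (Nat.gcd_dvd_left 4 n) (by decide)

theorem four_le_half {n : ℕ} (h : 4 ≤ n) : 4 ≤ n * (n - 1) / 2 := by
  rw [Nat.le_div_iff_mul_le (by norm_num)]
  obtain ⟨k, rfl⟩ := Nat.exists_eq_add_of_le h
  have : 4 + k - 1 = 3 + k := by omega
  rw [this]
  nlinarith

section Rows

variable {F : Type} [Field F] [Fintype F]

theorem psl (hF : Fintype.card F = 3) {n : ℕ} (hn : 4 ≤ n) :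
    81 ∣ Nat.card (Matrix.ProjectiveSpecialLinearGroup (Fin n) F) := by
  have h1 := Cfsg.Agent.S0243.result hF n (by omega)
  have h2 : 81 ∣ ∏ i : Fin n, (3 ^ n - 3 ^ (i : ℕ)) := by
    have h3 : ∏ i : Fin n, 3 ^ (i : ℕ) ∣ ∏ i : Fin n, (3 ^ n - 3 ^ (i : ℕ)) := by
      refine Finset.prod_dvd_prod_of_dvd _ _ fun i _ => ?_
      exact Nat.dvd_sub (pow_dvd_pow 3 i.2.le) dvd_rfl
    refine dvd_trans ?_ h3
    rw [Finset.prod_pow_eq_pow_sum, Fin.sum_univ_eq_sum_range (fun i => i) n, Finset.sum_range_id]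
    exact dvd_pow (four_le_half hn)
  have h4 := dvd_of_mul h1 h2 (coprime_gcd_two n)
  exact (Nat.Coprime.pow_left 4 coprime_two : Nat.Coprime (3 ^ 4) 2).dvd_of_dvd_mul_left (by simpa using h4)

theorem psu (hF : Fintype.card F = 9) {n : ℕ} (hn : 4 ≤ n) : 81 ∣ Nat.card (PSU n F 3) := by
  have h1 := Cfsg.Agent.S0280.result (q := 3) hF n (by omega)
  have h2 : Nat.Coprime 3 (Nat.gcd n (3 + 1)) := by
    rw [Nat.gcd_comm]
    exact coprime_gcd_four n
  have h3 := dvd_of_mul h1 (Dvd.dvd.mul_right (dvd_pow (four_le_half hn)) _) h2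
  exact (Nat.Coprime.pow_left 4 (by decide : Nat.Coprime 3 4) : Nat.Coprime (3 ^ 4) 4).dvd_of_dvd_mul_left
    (by simpa using h3)

theorem psp (hF : Fintype.card F = 3) {m : ℕ} (hm : 2 ≤ m) : 81 ∣ Nat.card (PSp m F) := by
  have h1 := Cfsg.Agent.S0245.result hF m
  have h2 := Cfsg.Agent.S0246.result hF m (by omega)
  have h3 := (center (Matrix.symplecticGroup (Fin m) F)).card_mul_index
  rw [Subgroup.index_eq_card, h1, h2] at h3
  refine dvd_of_mul h3 (Dvd.dvd.mul_right (dvd_pow ?_) _) (by decide)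
  nlinarith

theorem oOdd (hF : Fintype.card F = 3) {m : ℕ} (hm : 3 ≤ m) : 81 ∣ Nat.card (POmega F (quadFormOdd m F)) := by
  have h1 := Cfsg.Agent.S0292.result hF (by decide) m hm
  refine dvd_of_mul h1 (Dvd.dvd.mul_right (dvd_pow ?_) _) coprime_two
  nlinarith

theorem oPlus (hF : Fintype.card F = 3) {m : ℕ} (hm : 4 ≤ m) :
    81 ∣ Nat.card (POmega F (quadFormPlus m F)) := by
  have h1 := Cfsg.Agent.S0293.result hF m hm
  refine dvd_of_mul h1 (Dvd.dvd.mul_right (Dvd.dvd.mul_right (dvd_pow ?_) _) _) (coprime_gcd_four _)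
  have : 3 ≤ m - 1 := by omega
  nlinarith

theorem oMinus (hF : Fintype.card F = 3) {m : ℕ} (hm : 4 ≤ m) {b c : F}
    (h : ∀ z₁ z₂ : F, z₁ ^ 2 + b * z₁ * z₂ + c * z₂ ^ 2 = 0 → z₁ = 0 ∧ z₂ = 0) :
    81 ∣ Nat.card (POmega F (quadFormMinus (m - 1) F b c)) := by
  have h1 := Cfsg.Agent.S0294.result hF m hm b c h
  refine dvd_of_mul h1 (Dvd.dvd.mul_right (Dvd.dvd.mul_right (dvd_pow ?_) _) _) (coprime_gcd_four _)
  have : 3 ≤ m - 1 := by omega
  nlinarith

theorem chev (hF : Fintype.card F = 3) (D : Lie.ChevalleyDatum)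
    (hD : D ∈ [Lie.chevG2, Lie.chevB2, Lie.chevD4, Lie.chevF4, Lie.chevE6, Lie.chevE7, Lie.chevE8])
    (h4 : 4 ≤ D.nroots / 2) : 81 ∣ Nat.card ↥(D.group F) := by
  have h1 := Cfsg.Agent.S1027.result (F := F) D hD
  have h2 : Nat.card ↥(D.posUnipotent F) ∣ Nat.card ↥(D.group F) :=
    Subgroup.card_dvd_of_le (ChevalleyStructure.Elts.posUnipotent_le_group hD F)
  rw [h1, hF] at h2
  exact (dvd_pow h4).trans h2

theorem twE6 (hF : Fintype.card F = 9) : 81 ∣ Nat.card ↥(Lie.twistedE6 F 3) := by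
  have h1 := Cfsg.Agent.S1086.result (K := F) (q := 3) (Nat.prime_three.isPrimePow) hF
  have h2 := Subgroup.card_dvd_of_le (inf_le_right : Lie.chevE6.posUnipotent F ⊓ Lie.twistedE6 F 3 ≤ _)
  rw [h1] at h2
  exact (dvd_pow (by norm_num)).trans h2

theorem twD4 (hF : Fintype.card F = 27) : 81 ∣ Nat.card ↥(Lie.twistedD4 F 3) := by
  have h1 := Cfsg.Agent.S1088.result (K := F) (q := 3) (Nat.prime_three.isPrimePow) hF
  have h2 := Subgroup.card_dvd_of_le (inf_le_right : Lie.chevD4.posUnipotent F ⊓ Lie.twistedD4 F 3 ≤ _)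
  rw [h1] at h2
  exact (dvd_pow (by norm_num)).trans h2

end Rows

/-- The groups of Lie type of rank at least 2 over `F_3` have order divisible by 81 or no perfect double cover. -/
theorem main {X : Type u} [Group X] (h : Rk X 3) : 81 ∣ Nat.card X ∨ KFacts.MulDef.NoDouble X := by
  rcases h with h | h | h | h | h | h | h | h | h | h | h | h | h
  · obtain ⟨F, _, _, n, hF, hn, ⟨e⟩⟩ := h
    by_cases h3 : n = 3
    · subst h3
      exact Or.inr ((KFacts.MulOdd.TypeA.noDouble_L33 (by rw [Nat.card_eq_fintype_card, hF])).congr e.symm)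
    · exact Or.inl ((Nat.card_congr e.toEquiv) ▸ psl hF (by omega))
  · obtain ⟨F, _, _, m, hF, hm, ⟨e⟩⟩ := h
    exact Or.inl ((Nat.card_congr e.toEquiv) ▸ psp hF hm)
  · obtain ⟨F, _, _, n, hF, hn, ⟨e⟩⟩ := h
    have hF' : Fintype.card F = 9 := by simpa using hF
    by_cases h3 : n = 3
    · subst h3
      exact Or.inr ((KFacts.MulOdd.UThree.noDouble_U33 hF').congr e.symm)
    · exact Or.inl ((Nat.card_congr e.toEquiv) ▸ psu hF' (by omega))
  · obtain ⟨F, _, _, m, hF, hm, ⟨e⟩⟩ := h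
    exact Or.inl ((Nat.card_congr e.toEquiv) ▸ oOdd hF hm)
  · obtain ⟨F, _, _, m, hF, hm, ⟨e⟩⟩ := h
    exact Or.inl ((Nat.card_congr e.toEquiv) ▸ oPlus hF hm)
  · obtain ⟨F, _, _, m, b, c, hF, hm, hbc, ⟨e⟩⟩ := h
    exact Or.inl ((Nat.card_congr e.toEquiv) ▸ oMinus hF hm hbc)
  · obtain ⟨F, _, _, hF, ⟨e⟩⟩ := h
    exact Or.inl ((Nat.card_congr e.toEquiv) ▸ chev hF Lie.chevG2 (by simp) (by decide))
  · obtain ⟨F, _, _, hF, ⟨e⟩⟩ := h
    exact Or.inl ((Nat.card_congr e.toEquiv) ▸ chev hF Lie.chevF4 (by simp) (by decide))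
  · obtain ⟨F, _, _, hF, ⟨e⟩⟩ := h
    exact Or.inl ((Nat.card_congr e.toEquiv) ▸ chev hF Lie.chevE6 (by simp) (by decide))
  · obtain ⟨F, _, _, hF, ⟨e⟩⟩ := h
    exact Or.inl ((Nat.card_congr e.toEquiv) ▸ chev hF Lie.chevE7 (by simp) (by decide))
  · obtain ⟨F, _, _, hF, ⟨e⟩⟩ := h
    exact Or.inl ((Nat.card_congr e.toEquiv) ▸ chev hF Lie.chevE8 (by simp) (by decide))
  · obtain ⟨F, _, _, hF, ⟨e⟩⟩ := h
    exact Or.inl ((Nat.card_congr e.toEquiv) ▸ twE6 (by simpa using hF))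
  · obtain ⟨F, _, _, hF, ⟨e⟩⟩ := h
    exact Or.inl ((Nat.card_congr e.toEquiv) ▸ twD4 (by simpa using hF))

/-- `G₂(3)` has no perfect double cover. -/
theorem noDouble_G2 {X : Type u} [Group X] (h : FG2 X 3) : KFacts.MulDef.NoDouble X := by
  obtain ⟨F, _, _, hF, ⟨e⟩⟩ := h
  haveI : Fact (Nat.Prime 3) := ⟨Nat.prime_three⟩
  haveI : CharP F 3 := charP_of_card_eq_prime_pow (f := 1) (by simpa using hF)
  exact (KFacts.MulOdd.Main.noDouble (KFacts.MulOdd.InstChev.inst_G2 F 3 (by norm_num))).congr e.symm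

theorem false_of_noDouble {M : Type u} [Group M] [Finite M] (hp : commutator M = ⊤)
    (h : KFacts.MulDef.NoDouble (M ⧸ center M)) {y : M} (hy : y ∈ center M) (ho : orderOf y = 2) : False := by
  have h1 := h.odd_card hp (f := QuotientGroup.mk' (center M)) (QuotientGroup.mk'_surjective _)
    (by rw [QuotientGroup.ker_mk'])
  rw [QuotientGroup.ker_mk'] at h1
  have h2 : orderOf (⟨y, hy⟩ : ↥(center M)) ∣ Nat.card ↥(center M) := orderOf_dvd_natCard _
  rw [Subgroup.orderOf_mk, ho] at h2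
  exact (Nat.not_even_iff_odd.mpr h1) (even_iff_two_dvd.mpr h2)

/-- **`81 ∣ |M / Z(M)|`**, and `M / Z(M)` is not `G₂(3)`. -/
theorem card81q {M : Type u} [Group M] [Finite M] (hp : commutator M = ⊤) (hr : Rk (M ⧸ center M) 3) {y : M}
    (hy : y ∈ center M) (ho : orderOf y = 2) : 81 ∣ Nat.card (M ⧸ center M) ∧ ¬ FG2 (M ⧸ center M) 3 :=
  ⟨(main hr).resolve_right fun h => false_of_noDouble hp h hy ho,
    fun h => false_of_noDouble hp (noDouble_G2 h) hy ho⟩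

/-- **`81 ∣ |M|`.** -/
theorem card81 {M : Type u} [Group M] [Finite M] (hp : commutator M = ⊤) (hr : Rk (M ⧸ center M) 3) {y : M}
    (hy : y ∈ center M) (ho : orderOf y = 2) : 81 ∣ Nat.card M :=
  (card81q hp hr hy ho).1.trans ((center M).card_eq_card_quotient_mul_card_subgroup ▸ Dvd.intro _ rfl)

end Cfsg.Agent.OddHalf.NI3.Card81
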