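import Cfsg.Agent.OddHalf.NI3.FrameDef
import Cfsg.Agent.OddHalf.NI.Niv

/-!
# Frames over `F_3`: the involution of a frame is even

`Frame3.even8`: `Frame3 N z`, `z ≠ 1` ⟹ `Even8 z`.
-/

set_option autoImplicit false

namespace Cfsg.Agent.OddHalf.NI3

open Subgroup Cfsg
open scoped commutatorElement

/-- The product of some of the involutions of a frame is even. -/
theorem Frame3.even8 {N : Type*} [Group N] {z : N} (fr : Frame3 N z) (hz : z ≠ 1) : NI.Even8 z := by
  classical
  obtain ⟨m, pos, J, y, iso, mem, ord, le, sub, comm, inj, three, gen⟩ := fr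
  have hF : Odd (Fintype.card (ZMod 3)) := by rw [ZMod.card]; decide
  have hq : ∀ i, ∃ u x : ↥(J i), u * u = ⟨y i, mem i⟩ ∧ x * x = ⟨y i, mem i⟩ ∧ ⁅u, x⁆ = ⟨y i, mem i⟩ := by
    intro i
    obtain ⟨e⟩ := iso i
    exact (NI.Even8.of_sl hF ((Subgroup.topEquiv : (⊤ : Subgroup ↥(J i)) ≃* ↥(J i)).trans e)
      (y := ⟨y i, mem i⟩) (by rw [Subgroup.orderOf_mk]; exact ord i) (mem_top _)).2
  choose u x hu hx hux using hq
  have hcomm : Pairwise fun i j => ∀ (a : ↥(J i)) (b : ↥(J j)), Commute ((J i).subtype a) ((J j).subtype b) :=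
    fun i j hij a b => comm i j hij a a.2 b b.2
  let φ : (∀ i, ↥(J i)) →* N := MonoidHom.noncommPiCoprod (fun i => (J i).subtype) hcomm
  have hφ : ∀ i, φ (Pi.mulSingle i ⟨y i, mem i⟩) = y i := fun i => by
    change MonoidHom.noncommPiCoprod (fun i => (J i).subtype) hcomm _ = _
    rw [MonoidHom.noncommPiCoprod_mulSingle]
    rfl
  have hyy : ∀ i, (⟨y i, mem i⟩ : ↥(J i)) * ⟨y i, mem i⟩ = 1 := fun i => by
    apply Subtype.ext
    change y i * y i = 1
    rw [← pow_two, ← ord i, pow_orderOf_eq_one]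
  -- the elements with components `1`, `y i`
  let E : Subgroup (∀ i, ↥(J i)) :=
    { carrier := {f | ∀ i, f i = 1 ∨ f i = ⟨y i, mem i⟩}
      one_mem' := fun i => Or.inl rfl
      mul_mem' := by
        intro f g hf hg i
        rcases hf i with h1 | h1 <;> rcases hg i with h2 | h2
        · left; rw [Pi.mul_apply, h1, h2, one_mul]
        · right; rw [Pi.mul_apply, h1, h2, one_mul]
        · right; rw [Pi.mul_apply, h1, h2, mul_one]
        · left; rw [Pi.mul_apply, h1, h2, hyy]
      inv_mem' := by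
        intro f hf i
        rcases hf i with h1 | h1
        · left; rw [Pi.inv_apply, h1, inv_one]
        · right; rw [Pi.inv_apply, h1, inv_eq_iff_mul_eq_one, hyy] }
  have hE : closure (Set.range y) ≤ E.map φ := by
    rw [closure_le]
    rintro _ ⟨i, rfl⟩
    refine ⟨Pi.mulSingle i ⟨y i, mem i⟩, fun j => ?_, hφ i⟩
    by_cases hij : j = i
    · subst hij
      right
      rw [Pi.mulSingle_eq_same]
    · left
      rw [Pi.mulSingle_eq_of_ne hij]
  obtain ⟨f, hf, rfl⟩ := hE gen
  refine ⟨?_, φ (fun i => if f i = 1 then 1 else u i), φ (fun i => if f i = 1 then 1 else x i), ?_, ?_, ?_⟩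
  · refine orderOf_eq_prime ?_ hz
    rw [pow_two, ← map_mul]
    have : f * f = 1 := by
      funext i
      rcases hf i with h1 | h1
      · rw [Pi.mul_apply, h1, one_mul]; rfl
      · rw [Pi.mul_apply, h1, hyy]; rfl
    rw [this, map_one]
  · rw [← map_mul]
    congr 1
    funext i
    rw [Pi.mul_apply]
    split_ifs with h
    · rw [h, one_mul]
    · rw [hu, (hf i).resolve_left h]
  · rw [← map_mul]
    congr 1
    funext i
    rw [Pi.mul_apply]
    split_ifs with h
    · rw [h, one_mul]
    · rw [hx, (hf i).resolve_left h]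
  · rw [← map_commutatorElement]
    congr 1
    funext i
    change ⁅if f i = 1 then (1 : ↥(J i)) else u i, if f i = 1 then 1 else x i⁆ = f i
    split_ifs with h
    · rw [h, commutatorElement_one_left]
    · rw [hux, (hf i).resolve_left h]

end Cfsg.Agent.OddHalf.NI3
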