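import Cfsg.Agent.OddHalf.NI3.TC

/-!
# Node NI over `F₃`: the STEP LEMMA

`H` finite, `O(H) = 1`, `(x, J')` a classical pair of `H`, `J ≅ SL₂(3)` subnormal in `C(x)`, `[J, J'] = 1`. Then `J` is
subnormal in `H`, or the piece `D` of `J'` is a component of `H` and contains `O₂(J)` (`step`).
-/

set_option autoImplicit false
set_option linter.style.haveILetI false
set_option linter.unusedSectionVars false

namespace Cfsg.Agent.OddHalf.NI3

open Subgroup Cfsg Cfsg.Agent.Cit Cfsg.Agent.Cit.SolvTwo Cfsg.Agent.SignalizersComponents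

universe u

/-! ### Auxiliary facts -/

section

variable {K : Type*} [Group K] [Finite K]

theorem pPrimeCore_sub_eq_bot (hO : pPrimeCore 2 K = ⊥) {C : Subgroup K} (hC : C.IsSubnormal) :
    pPrimeCore 2 ↥C = ⊥ := by
  have h1 := CompBasic.map_subtype_pPrimeCore_of_subnormal 2 hC
  rw [hO, inf_bot_eq] at h1
  exact (Subgroup.map_eq_bot_iff_of_injective _ C.subtype_injective).1 h1

/-- a subnormal `SL₂(3)` commutes with the components -/
theorem comm_component {J L : Subgroup K} {z : K} (h : IsPr J z) (hJ : J.IsSubnormal) (hL : IsComponent L) :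
    ∀ a ∈ J, ∀ b ∈ L, a * b = b * a := by
  rcases Components.component_le_or_commutator_eq_bot hL hJ with h1 | h1
  · exfalso
    haveI h2 : Group.IsSolvable J := h.solvable
    have h3 : Group.IsSolvable L := Group.isSolvable_of_isSolvable_injective (Subgroup.inclusion_injective h1)
    exact Components.quasisimple_not_isSolvable hL.2 h3
  · intro a ha b hb
    rw [commutator_eq_bot_iff_le_centralizer] at h1
    exact mem_centralizer_iff.1 (h1 hb) a ha

/-- an element of order 3 of a subnormal `SL₂(3)` centralises every subnormal subgroup normalised by `J` which does not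
contain `O₂(J)` -/
theorem comm_subnormal (hO : pPrimeCore 2 K = ⊥) {J C : Subgroup K} {z : K} (h : IsPr J z) (hJ : J.IsSubnormal)
    (hC : C.IsSubnormal) (hn : J ≤ normalizer (C : Set K)) (hne : ¬ ∀ y ∈ J, y * y = z → y ∈ C)
    {v : K} (hv : v ∈ J) (h3 : v * v * v = 1) : ∀ c ∈ C, v * c = c * v := by
  haveI : Fact (Nat.Prime 2) := ⟨Nat.prime_two⟩
  have hOC : pPrimeCore 2 ↥C = ⊥ := pPrimeCore_sub_eq_bot hO hC
  -- components of `C`
  have hcomp : ∀ L : Subgroup C, IsComponent L → ∀ f ∈ L, v * (f : K) = f * v := by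
    intro L hL f hf
    have h1 : IsComponent (L.map C.subtype) := Components.isComponent_map_subtype hC hL
    exact comm_component h hJ h1 v hv _ ⟨f, hf, rfl⟩
  -- `O₂(C)`
  have hcore : ∀ f ∈ pCore 2 ↥C, v * (f : K) = f * v := by
    intro f hf
    have hP : IsPGroup 2 ((pCore 2 ↥C).map C.subtype) := (Lib.Cores.pCore_isPGroup (G := ↥C) 2).map _
    refine T3.comm_of_sn h.t3 (C := ⊤) (P := (pCore 2 ↥C).map C.subtype)
      (Sn.of_isSubnormal hJ le_top) le_top hP ?_ ?_ hv h3 ⟨f, hf, rfl⟩
    · rw [CompBasic.map_subtype_pCore_of_subnormal 2 hC]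
      haveI : (pCore 2 K).Normal := Lib.Cores.pCore_normal 2
      refine (le_inf hn ?_).trans inf_normalizer_le_normalizer_inf
      rw [normalizer_eq_top_iff.2 this]; exact le_top
    · intro h4
      exact hne fun y hy hyz => map_subtype_le _ (h4 y hy hyz)
  intro c hc
  set c' : C := ⟨c, hc⟩
  have haC : v * c * v⁻¹ ∈ C := (mem_normalizer_iff.1 (hn hv) c).1 hc
  set ζ : C := ⟨c⁻¹ * (v * c * v⁻¹), mul_mem (inv_mem hc) haC⟩ with hζ
  have hcomm : ∀ f : C, v * (f : K) = f * v → v * (c * (f : K) * c⁻¹) = (c * (f : K) * c⁻¹) * v →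
      ζ * f = f * ζ := by
    intro f hf hf'
    apply Subtype.ext
    show c⁻¹ * (v * c * v⁻¹) * (f : K) = f * (c⁻¹ * (v * c * v⁻¹))
    have e1 : v⁻¹ * (f : K) = f * v⁻¹ := (show Commute v (f : K) from hf).inv_left.eq
    calc c⁻¹ * (v * c * v⁻¹) * (f : K) = c⁻¹ * v * c * (v⁻¹ * f) := by group
      _ = c⁻¹ * v * c * (f * v⁻¹) := by rw [e1]
      _ = c⁻¹ * (v * (c * (f : K) * c⁻¹)) * c * v⁻¹ := by group
      _ = c⁻¹ * ((c * (f : K) * c⁻¹) * v) * c * v⁻¹ := by rw [hf']
      _ = f * (c⁻¹ * (v * c * v⁻¹)) := by group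
  have h5 : ζ ∈ centralizer (generalizedFittingSubgroup ↥C : Set ↥C) := by
    refine OneComp.mem_centralizer_genFit hOC ?_ ?_
    · intro L hL
      rw [mem_centralizer_iff]
      intro f hf
      refine (hcomm f (hcomp L hL f hf) ?_).symm
      have h6 : IsComponent (Cit.cj c' L) := Comp.isComponent_cj hL c'
      exact hcomp _ h6 (c' * f * c'⁻¹) (conj_mem_cj hf)
    · rw [mem_centralizer_iff]
      intro f hf
      refine (hcomm f (hcore f hf) ?_).symm
      have h6 : c' * f * c'⁻¹ ∈ pCore 2 ↥C := (Lib.Cores.pCore_normal (G := ↥C) 2).conj_mem f hf c'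
      exact hcore _ h6
  have h6 := OneComp.centralizer_genFit_le hOC h5
  have h7 : v * (ζ : K) = ζ * v := hcore ζ h6
  have e2 : v * c * v⁻¹ = c * ζ := by show v * c * v⁻¹ = c * (c⁻¹ * (v * c * v⁻¹)); group
  have e3 : c * ((ζ : K) * ζ * ζ) = c := by
    have e4 : v * (v * (v * c * v⁻¹) * v⁻¹) * v⁻¹ = c := by
      calc v * (v * (v * c * v⁻¹) * v⁻¹) * v⁻¹ = (v * v * v) * c * (v * v * v)⁻¹ := by group
        _ = c := by rw [h3]; group
    have e5 : ∀ w : K, v * (w * ζ) * v⁻¹ = (v * w * v⁻¹) * ζ := by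
      intro w
      calc v * (w * ζ) * v⁻¹ = v * w * v⁻¹ * (v * ζ) * v⁻¹ := by group
        _ = v * w * v⁻¹ * (ζ * v) * v⁻¹ := by rw [h7]
        _ = (v * w * v⁻¹) * ζ := by group
    rw [e2, e5, e2, e5, e5, e2] at e4
    simpa only [mul_assoc] using e4
  have e4 : (ζ : K) * ζ * ζ = 1 := by
    have := mul_left_cancel (a := c) (b := (ζ : K) * ζ * ζ) (c := 1) (by rw [e3, mul_one])
    exact this
  obtain ⟨n, hn2⟩ := (Lib.Cores.pCore_isPGroup (G := ↥C) 2) ⟨ζ, h6⟩
  have h8 : (ζ : K) ^ 2 ^ n = 1 := by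
    have := congrArg (fun w : pCore 2 ↥C => ((w : ↥C) : K)) hn2
    simpa using this
  have h9 : (ζ : K) = 1 := Cit.SLThree.Sl.eq_one_of_cube e4 h8
  rw [h9, mul_one, mul_inv_eq_iff_eq_mul] at e2
  exact e2

end

/-! ### The step lemma -/

section

variable {H : Type u} [Group H] [Finite H]

theorem core_cent_eq_bot (hT : TStmt.{u}) (hO : pPrimeCore 2 H = ⊥) {x : H} {J' : Subgroup H} (h' : Cl x J') :
    pPrimeCore 2 ↥(centralizer ({x} : Set H)) = ⊥ := by
  have h1 := h'.core hT
  rw [hO, le_bot_iff] at h1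
  exact (Subgroup.map_eq_bot_iff_of_injective _ (centralizer ({x} : Set H)).subtype_injective).1 h1

/-- the case of an isolated member -/
theorem step_self (hT : TStmt.{u}) (hO : pPrimeCore 2 H = ⊥) {x z : H} {J' J : Subgroup H} (h' : Cl x J')
    (h : IsPr J z) (hs : Sn J (centralizer ({x} : Set H))) (hD : pc (cls J') J' = J') : J.IsSubnormal := by
  haveI : Fact (Nat.Prime 2) := ⟨Nat.prime_two⟩
  have hOm := h'.hyp' hT hO
  have hcj : ∀ g : H, pc (cls J') (cj g J') = cj g J' := fun g => by
    rw [← cj_pc hOm.conj, hD]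
  -- two conjugates of `x` commute
  have hcx : ∀ g : H, (g * x * g⁻¹) * x = x * (g * x * g⁻¹) := by
    intro g
    have hxg : g * x * g⁻¹ ∈ cj g J' := conj_mem_cj h'.pr.mem
    by_cases he : cj g J' = J'
    · rw [he] at hxg
      have h1 : g * x * g⁻¹ = x := by
        rw [← h'.zz_eq hT hO]
        refine hOm.uniq J' (self_mem_cls _) _ ?_ ?_
        · rw [h'.zz_eq hT hO]; exact hxg
        · rw [h'.zz_eq hT hO]
          have := orderOf_injective (MulAut.conj g).toMonoidHom (MulAut.conj g).injective x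
          rw [← h'.pr.ord, ← this]; rfl
      rw [h1]
    · have h1 : pc (cls J') (cj g J') ≠ pc (cls J') J' := by rw [hcj, hD]; exact he
      have h2 := pc_comm (hOm.conj J' (self_mem_cls _) g) (self_mem_cls _) h1
      rw [hcj, hD] at h2
      exact (mem_centralizer_iff.1 (h2 hxg) x h'.pr.mem).symm
  set W : Subgroup H := normalClosure {x} with hW
  have hWx : W ≤ centralizer ({x} : Set H) := by
    rw [hW, normalClosure, closure_le]
    intro y hy
    rw [Group.mem_conjugatesOfSet_iff] at hy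
    obtain ⟨a, ha, hay⟩ := hy
    rw [Set.mem_singleton_iff] at ha
    subst ha
    obtain ⟨g, rfl⟩ := isConj_iff.1 hay
    exact mem_centralizer_singleton_iff.2 (hcx g)
  have hWn : W.Normal := normalClosure_normal
  have hWW : W ≤ centralizer (W : Set H) := by
    rw [le_centralizer_iff]
    have h1 : (centralizer (W : Set H)).Normal := inferInstance
    rw [hW]
    refine normalClosure_le_normal ?_
    rw [Set.singleton_subset_iff, ← hW]
    rw [SetLike.mem_coe, mem_centralizer_iff]
    intro w hw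
    exact mem_centralizer_singleton_iff.1 (hWx hw)
  have hW2 : IsPGroup 2 W := by
    have h1 : zpowers x ≤ pCore 2 H := by
      refine CompBasic.subnormal_pGroup_le_pCore ?_ ?_
      · have h2 : Sn (zpowers x) W := by
          refine Sn.of_normal (zpowers_le.2 (subset_normalClosure rfl)) ?_
          intro w hw
          refine centralizer_le_normalizer _ ?_
          rw [mem_centralizer_iff]
          rintro _ ⟨n, rfl⟩
          exact ((show Commute w x from mem_centralizer_singleton_iff.1 (hWx hw)).zpow_right n).eq.symm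
        exact h2.isSubnormal hWn.isSubnormal
      · refine IsPGroup.of_card (n := 1) ?_
        rw [Nat.card_zpowers, h'.pr.ord, pow_one]
    refine (Lib.Cores.pCore_isPGroup (G := H) 2).to_le ?_
    rw [hW]
    haveI : (pCore 2 H).Normal := Lib.Cores.pCore_normal 2
    exact normalClosure_le_normal (Set.singleton_subset_iff.2 (h1 (mem_zpowers x)))
  have hJW : J ≤ centralizer (W : Set H) := by
    refine h.le_of_cube fun v hv h3 => ?_
    rw [mem_centralizer_iff]
    intro w hw
    refine (T3.comm_of_sn h.t3 hs hWx hW2 ?_ ?_ hv h3 hw).symm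
    · rw [normalizer_eq_top_iff.2 hWn]; exact le_top
    · intro h4
      obtain ⟨a, ha, b, hb, haz, hbz, hab⟩ := h.t3.ex4
      exact hab (mem_centralizer_iff.1 (hWW (h4 b hb hbz)) a (h4 a ha haz))
  have h5 : Sn J (centralizer (W : Set H)) := by
    refine hs.restrict ?_ hJW
    exact centralizer_le (Set.singleton_subset_iff.2 (subset_normalClosure rfl))
  have h6 : (centralizer (W : Set H)).Normal := inferInstance
  exact h5.isSubnormal h6.isSubnormal

/-- the piece of a classical pair -/
theorem Cl.piece (hT : TStmt.{u}) (hO : pPrimeCore 2 H = ⊥) {x : H} {J' : Subgroup H} (h' : Cl x J') :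
    Piece (cls J') (pc (cls J') J') :=
  (h'.pieces hT hO).piece (h'.hyp' hT hO) (self_mem_cls _)

/-- a quasisimple piece is not a member -/
theorem Cl.pc_notMem {x : H} {J' : Subgroup H} (h' : Cl x J') (hq : IsQuasisimple (pc (cls J') J')) :
    pc (cls J') J' ∉ cls J' := by
  rintro ⟨g, hg⟩
  have h1 : IsPr (pc (cls J') J') (g * x * g⁻¹) := by rw [hg]; exact h'.pr.cj g
  haveI := h1.solvable
  exact Components.quasisimple_not_isSolvable hq inferInstance

/-- **STEP LEMMA** -/
theorem step' (hT : TStmt.{u}) (hO : pPrimeCore 2 H = ⊥) {x z : H} {J' J : Subgroup H} (h' : Cl x J')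
    (h : IsPr J z) (hs : Sn J (centralizer ({x} : Set H))) (hc : J ≤ centralizer (J' : Set H)) :
    J.IsSubnormal ∨ (IsComponent (pc (cls J') J') ∧ IsPGroup 2 (center ↥(pc (cls J') J')) ∧
      ∀ y ∈ J, y * y = z → y ∈ pc (cls J') J') := by
  haveI : Fact (Nat.Prime 2) := ⟨Nat.prime_two⟩
  have hOm := h'.hyp' hT hO
  have hm : J' ∈ cls J' := self_mem_cls _
  rcases (h'.pieces hT hO).eq_or_quasisimple hOm hm with hD | ⟨-, hDq, hD2⟩
  · exact Or.inl (step_self hT hO h' h hs hD)
  set D := pc (cls J') J' with hDdef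
  have hJD : J' ≤ D := le_pc
  have hDc : IsComponent D := by
    refine ⟨?_, hDq⟩
    have h1 : Sn D (sSup (cls J')) :=
      Sn.of_normal (sSup_le fun K hK => le_sSup (chn_mem hm hK)) (sSup_le_normalizer_pc hm)
    have h2 : (sSup (cls J')).Normal := by
      refine ⟨fun n hn g => ?_⟩
      have h3 : cj g (sSup (cls J')) ≤ sSup (cls J') := by
        rw [Cit.cj_le_iff]
        refine sSup_le fun K hK => ?_
        rw [← Cit.cj_le_iff]
        exact le_sSup (hOm.conj K hK g)
      exact h3 (conj_mem_cj hn)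
    exact h1.isSubnormal h2.isSubnormal
  by_cases hne : ∀ y ∈ J, y * y = z → y ∈ D
  · exact Or.inr ⟨hDc, hD2, hne⟩
  left
  have hcore := core_cent_eq_bot hT hO h'
  have hnD : J ≤ normalizer (D : Set H) := by
    intro g hg
    rw [mem_normalizer_iff_cj, hDdef, cj_pc hOm.conj]
    congr 1
    exact mem_normalizer_iff_cj.1 (centralizer_le_normalizer _ (hc hg))
  have hJc : IsPr (J.subgroupOf (centralizer ({x} : Set H))) (⟨z, hs.1 h.mem⟩ : centralizer ({x} : Set H)) :=
    h.subgroupOf hs.1
  have hJD' : J ≤ centralizer (D : Set H) := by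
    refine h.le_of_cube fun v hv h3 => ?_
    rw [mem_centralizer_iff]
    intro d hd
    refine (h'.fix hT hDq hD2 hJD (hnD hv) h3 ?_ d hd).symm
    intro c hcD hcx
    have hcC : c ∈ centralizer ({x} : Set H) := mem_centralizer_singleton_iff.2 hcx
    have h4 := comm_subnormal hcore hJc hs.2 (C := D.subgroupOf (centralizer ({x} : Set H)))
      (hDc.1.comap _) ?_ ?_ (v := ⟨v, hs.1 hv⟩) hv (Subtype.ext h3) ⟨c, hcC⟩ hcD
    · exact congrArg Subtype.val h4
    · intro g hg
      rw [mem_normalizer_iff]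
      intro k
      exact mem_normalizer_iff.1 (hnD hg) k
    · intro h5
      apply hne
      intro y hy hyz
      exact h5 ⟨y, hs.1 hy⟩ hy (Subtype.ext hyz)
  have hxD : x ∈ D := hJD h'.pr.mem
  have hJL : J ≤ centralizer (layer H : Set H) := by
    rw [le_centralizer_iff, Components.layer_le_iff]
    intro L hL
    by_cases hLD : L = D
    · rw [hLD, ← le_centralizer_iff]; exact hJD'
    have h1 := Components.component_le_centralizer_of_ne hL hDc hLD
    have hLx : L ≤ centralizer ({x} : Set H) :=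
      h1.trans (centralizer_le (Set.singleton_subset_iff.2 hxD))
    have h2 := comm_component hJc hs.2 (Components.isComponent_subgroupOf hLx hL)
    intro l hl
    rw [mem_centralizer_iff]
    intro j hj
    exact congrArg Subtype.val (h2 ⟨j, hs.1 hj⟩ hj ⟨l, hLx hl⟩ hl)
  have hn : (centralizer (layer H : Set H)).Normal := by
    haveI := Components.layer_normal (G := H)
    infer_instance
  refine (hs.restrict ?_ hJL).isSubnormal hn.isSubnormal
  exact centralizer_le (Set.singleton_subset_iff.2 (Components.component_le_layer hDc hxD))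

/-- **STEP LEMMA** (form of bb #12072) -/
theorem step (hT : TStmt.{u}) (hO : pPrimeCore 2 H = ⊥) {x z : H} {J' J : Subgroup H}
    (e' : Nonempty (↥J' ≃* SL23)) (hx : orderOf x = 2) (hxJ : x ∈ J') (hs' : Sn J' (centralizer ({x} : Set H)))
    (e : Nonempty (↥J ≃* SL23)) (hz : orderOf z = 2) (hzJ : z ∈ J) (hs : Sn J (centralizer ({x} : Set H)))
    (hc : J ≤ centralizer (J' : Set H)) :
    J.IsSubnormal ∨ (IsComponent (pc (cls J') J') ∧ IsPGroup 2 (center ↥(pc (cls J') J')) ∧
      ∀ y ∈ J, y * y = z → y ∈ pc (cls J') J') :=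
  step' hT hO ⟨⟨e', hx, hxJ⟩, hs'⟩ ⟨e, hz, hzJ⟩ hs hc

end

end Cfsg.Agent.OddHalf.NI3
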