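import Cfsg.Agent.OddHalf.NI3.ThmX
import Cfsg.Agent.OddHalf.NI3.Sol.Final

/-!
# THEOREM X(3) from (F2'_3)

`noFam3_of` : `Ctx G → NoFam3 G` from `F23a` and `F23b S7B3` (and THEOREM T, the odd order theorem).
-/

set_option autoImplicit false

namespace Cfsg.Agent.OddHalf.NI3

open Subgroup Cfsg Cfsg.Agent.Cit
open Cfsg.Agent.OddHalf.NI.PosStd (S7B3)

universe u

theorem autM3 : AutM3.{u} S7B3 := by
  rintro N _ _ c d A B A' ⟨F, _, _, H⟩ α hA hB hA'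
  exact NI.PosStd.aut_eq H α hA hB hA'

theorem sol3 : Sol3.{u} S7B3 := Sol.sol3_of fun _ _ _ _ _ _ _ _ h => h

/-- **THEOREM X(3)** from (F2'_3) -/
theorem noFam3_of (hT : TStmt.{u}) (hA : F23a.{u}) (hB : F23b.{u} S7B3)
    (hft : ∀ (X : Type u) [Group X] [Finite X], Odd (Nat.card X) → Group.IsSolvable X) :
    ∀ (G : Type u) [Group G], Iface.Ctx G → NoFam3 G :=
  noFam3 hT hA hB autM3 sol3 hft

end Cfsg.Agent.OddHalf.NI3
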