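import Cfsg.Agent.OddHalf.NI.FTwo.F2
import Cfsg.Agent.OddHalf.NI.FrameFact
import Cfsg.Agent.OddHalf.NI.Ex.Final
import Cfsg.Agent.OddHalf.NI.Assemble
import Cfsg.Agent.OddHalf.NI3.ThmXOf
import Cfsg.Agent.OddHalf.NI3.FThree.Main
import Cfsg.Agent.OddHalf.NI3.Fr.Final
import Cfsg.Agent.OddHalf.NI3.Niv3b
import Cfsg.Agent.OddHalf.NI3.Ex.Big
import Cfsg.Agent.OddHalf.NI3.K.OrthU
import Cfsg.Agent.OddHalf.NI3.Bad.UseD4

/-!
# Node NI, all odd `q` (3 included): assembly (helper656)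

`Left`: what is not yet a theorem. From it:

* `facts : NI.Assemble.Facts S7Big` (`q > 3`), `noBig`, `niv`;
* `noFam3`, `niv3`, `niv3b`, `noThree`, `noU`;
* `threeEven : U2.Cut.ThreeEven`; `u2 : Iface.U2`;
* `d6Three : SixRows → D6.Cut.Three`; `d4Three` : the hypothesis `h3` of `NI.RowsD4.rowsOdd_of`.
-/

set_option autoImplicit false
set_option linter.style.haveILetI false

namespace Cfsg.Agent.OddHalf.NI3.Assemble

open Subgroup Cfsg Cfsg.Agent.OddHalf.Iface Cfsg.Agent.OddHalf.LieOddFam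
open Cfsg.Agent.Cit (TStmt)
open Cfsg.Agent.OddHalf.NI.FTwo (S7Big ChartB3)
open Cfsg.Agent.OddHalf.NI.PosStd (S7B3)

universe u

/-- What is not yet a theorem (without the facts of `D6`, `D4` on the six small groups). -/
structure Left : Prop where
  /-- THEOREM T -/
  tst : TStmt.{u}
  /-- (F2'₃): the pieces without chart -/
  sf : FThree.SmallFalse.{u}
  p1310 : Stmts.P1310.{u}
  gw : RankOne.GW.{u}
  p1738 : Stmts.P1738.{u}
  d5 : D5cover.{u}
  mult : D9.Cut.Mult.{u}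
  /-- (EX) -/
  xrows : NI.Ex.Final.XRows.{u}
  no44 : NI.Ex.L34.No44.{u}
  /-- (EX3) -/
  rows3 : Ex.Rows3.{u}
  ft : ∀ (X : Type u) [Group X] [Finite X], Odd (Nat.card X) → Group.IsSolvable X
  f13 : F13.{u}
  f13c : F13c.{u}
  nib : Bad.NIB.{u}

variable (L : Left.{u})

include L

theorem hFT : ∀ (G : Type u) [Group G] [Finite G], D3.FT G := fun _ _ _ K hK => L.ft ↥K hK

/-- **THEOREM X(3)** -/
theorem noFam3 : ∀ (G : Type u) [Group G], Ctx G → NoFam3 G := by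
  refine noFam3_of L.tst (FThree.f23a_of L.tst L.sf) ?_ L.ft
  intro N _ _ hN h2 x z J' J h1 h3 h4 h5 h6
  obtain ⟨T, h7, h8, h9⟩ := FThree.f23b_of L.tst L.sf N hN h2 x z J' J h1 h3 h4 h5 h6
  exact ⟨T, h7, h8, ZMod 3, inferInstance, inferInstance, h9⟩

/-- The entrance of NI -/
theorem entrance : NI.NI3.{u} := ni3 Fr.frameFact3 (noFam3 L)

/-- **The facts of node NI, `q > 3`.** -/
theorem facts : NI.Assemble.Facts.{u} S7Big where
  frame := Cfsg.Agent.OddHalf.NI.FrameFact.frameFact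
  f2 := NI.FTwo.f2' L.tst
  autM := by
    rintro N _ _ c d A B A' ⟨F, _, _, -, H⟩ α hA hB hA'
    exact NI.PosStd.aut_sq H α hA hB hA'
  sol := Sol.sol_of fun N _ _ c d A B A' ⟨F, i, j, _, H⟩ => ⟨F, i, j, H⟩
  p1310 := L.p1310
  ex := NI.Ex.Final.ex_of L.gw L.p1738 L.d5 L.mult L.xrows L.no44 (entrance L)
  ni3 := entrance L
  ft := L.ft

/-- **Node NI, `q > 3`.** -/
theorem noBig : NI.NoBig.{u} := NI.Assemble.noBig_of (facts L)

theorem niv : NI.NIV.{u} := NI.Assemble.niv_of (facts L)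

theorem noFam : ∀ (G : Type u) [Group G], Ctx G → NI.NoFam G :=
  NI.noFam (facts L).f2 (facts L).autM (facts L).sol (NI.Assemble.lieCl L.p1310) L.ft

omit L in
theorem ree : ∀ (K : Type u) [Group K], Finite K → IsQuasisimple K → IsPGroup 2 ↥(center K) →
    center K ≠ ⊥ → ¬ Lie.IsoRee (K ⧸ center K) := fun _ _ h1 h2 h3 h4 => U2.MultOf.ree ⟨h1, h2, h3, h4⟩

/-- **NIV3** -/
theorem niv3 : NIV3.{u} :=
  NI3.niv3 (hFT L) (noFam L) (noFam3 L) Cfsg.Agent.OddHalf.NI.FrameFact.frameFact Fr.frameFact3 ree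
    (Ex.ex3 L.gw L.p1738 L.d5 L.mult L.rows3)

/-- **NIV3b** -/
theorem niv3b : NIV3b.{u} :=
  NI3.niv3b (hFT L) (noFam L) (noFam3 L) Cfsg.Agent.OddHalf.NI.FrameFact.frameFact Fr.frameFact3 ree
    (Cfsg.Agent.OddHalf.NI3.Ex.Big.ex3b L.gw L.p1738 L.d5 L.mult)

/-- **The order-free form of NI over `F₃`.** -/
theorem noThree : NoThree.{u} := Final.noThree (niv L) (niv3 L) (niv3b L)

/-- The input of the consumers of NIB -/
theorem given : Bad.Given.{u} where
  ft := hFT L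
  noThree := noThree L
  noBig := noBig L
  f13c := L.f13c
  gw := L.gw
  p1738 := L.p1738
  d5 := L.d5
  mult := L.mult
  rows3 := L.rows3

theorem noU : Bad.NoU.{u} := Bad.noU (given L) L.nib

/-- `U2.Cut.ThreeEven` -/
theorem threeEven : U2.Cut.ThreeEven.{u} := Final.u2_even (noThree L) L.f13c (Bad.rowU43 (noU L))

/-- The row of U2 over `F₃`. -/
theorem u2_three : U2.Cut.Row.{u} (fun X _ => Rk X 3) :=
  Final.u2_three (noThree L) L.f13c (Bad.rowU43 (noU L)) KFacts.MulOdd.ThreeOdd.threeOdd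

/-- **Node U2.** -/
theorem u2 : Iface.U2.{u} := NI.Assemble.u2_of (facts L) (u2_three L)

theorem nodes : Bad.Nodes.{u} where
  noThree := noThree L
  noU := noU L
  f13 := L.f13
  orth := ⟨fun _ _ h => K.OrthU.o7 h, fun _ _ h => K.OrthU.o8p h, fun _ _ h => K.OrthU.o8m h⟩

/-- **The rows of D6 over `F₃`** from the six small rows. -/
theorem d6Three (R : Bad.SixRows.{u}) : D6.Cut.Three.{u} := Bad.three_of (nodes L) R

theorem d6_row (R : Bad.SixRows.{u}) : D6.Cut.Row.{u} (fun X _ => Rk X 3) := Bad.three (nodes L) R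

/-- **The row of D4 over `F₃`** from the row of the six small groups. -/
theorem d4Three (h : D4.Cut.Row1.{u} (fun K _ => Bad.Small6 K)) : D4.Cut.Row1.{u} (fun K _ => Rk K 3) :=
  Bad.d4_three (nodes L) h

end Cfsg.Agent.OddHalf.NI3.Assemble
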