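import Cfsg.Agent.OddHalf.NI.PosStd
import Cfsg.Agent.OddHalf.NI3.Amal

/-!
# `AutM3` for charts of type `B₃` (THEOREM X(3), the input (AutM))

* `autM3_of` : `AutM3 S7` for every `S7` which gives `ChartB3`;
* `autM3` : `AutM3 S7B3`.
-/

set_option autoImplicit false

namespace Cfsg.Agent.OddHalf.NI3.AutMThree

open Subgroup
open Cfsg.Agent.OddHalf.NI.FTwo (ChartB3)

universe w

/-- **`AutM3`** for every `S7` which gives a chart of type `B₃`. -/
theorem autM3_of {S7 : ∀ (N : Type w) [Group N], N → N → Subgroup N → Subgroup N → Subgroup N → Prop}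
    (h : ∀ (N : Type w) [Group N] [Finite N] (c d : N) (A B A' : Subgroup N), S7 N c d A B A' →
      ∃ (F : Type) (_ : Field F) (_ : Fintype F), ChartB3 F N c d A B A') : AutM3.{w} S7 := by
  intro N _ _ c d A B A' h7 α hA hB hA'
  obtain ⟨F, _, _, H⟩ := h N c d A B A' h7
  exact NI.PosStd.aut_eq H α hA hB hA'

theorem autM3 : AutM3.{w} (fun N _ c d A B A' => NI.PosStd.S7B3 N c d A B A') :=
  autM3_of fun _ _ _ _ _ _ _ _ h => h

end Cfsg.Agent.OddHalf.NI3.AutMThree
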