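import Cfsg.Agent.OddHalf.NI3.TC
import Cfsg.Agent.S0093
import Cfsg.Agent.Lib.FrattiniPGroup
import Cfsg.Agent.OddOrderLocal.SelfCentFixed

/-!
# Node NI over `F₃`, bad types: LEMMA P (bb #13585 (2), helper656)

`P` a normal 2-subgroup of the finite group `H`, `t` an involution, `J ≅ SL₂(3)` subnormal in `C_H(t)`, `z` the
involution of `J`, `O₂(J) ≤ P`. Then either `P` normalises `J`, or there is a normal subgroup `Z` of `H` (the centre of
a critical subgroup of `P`), abelian, contained in `P`, and `w ∈ Z`, `w² = 1`, `[w, J] = 1`, `w t w⁻¹ = z t`.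
No hypothesis on `C_H(P)`, no components, no K-facts.
-/

set_option autoImplicit false
set_option linter.style.haveILetI false
set_option linter.unusedSectionVars false

namespace Cfsg.Agent.OddHalf.NI3.LemP

open Subgroup Cfsg Cfsg.Agent.Cit Cfsg.Agent.Cit.SolvTwo Cfsg.Agent.OddHalf.NI3
open scoped commutatorElement

variable {H : Type*} [Group H]

/-- a characteristic subgroup of a normal subgroup, seen in the big group -/
theorem normal_map {X : Subgroup H} [X.Normal] (K : Subgroup X) [K.Characteristic] : (K.map X.subtype).Normal :=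
  inferInstance

/-- Thompson's critical subgroup of a normal 2-subgroup -/
theorem exists_crit [Finite H] {P : Subgroup H} [P.Normal] (hP : IsPGroup 2 P) :
    ∃ Y Z : Subgroup H, Y ≤ P ∧ Y.Normal ∧ Z.Normal ∧ (Y.subgroupOf P).Characteristic ∧
      (Z.subgroupOf P).Characteristic ∧ (∀ x, x ∈ Z ↔ x ∈ Y ∧ ∀ y ∈ Y, x * y = y * x) ∧
      (∀ y ∈ Y, ∀ x ∈ P, x * y * x⁻¹ * y⁻¹ ∈ Z) ∧ (∀ y ∈ Y, y * y ∈ Z) ∧
      (∀ x ∈ P, (∀ y ∈ Y, x * y = y * x) → x ∈ Z) := by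
  haveI : Fact (Nat.Prime 2) := ⟨Nat.prime_two⟩
  obtain ⟨K, h1, h2, h3, h4⟩ := S0093.result hP
  haveI := h1
  have hcent : ∀ x : P, x ∈ centralizer (K : Set P) ↔
      ∀ y ∈ K.map P.subtype, (x : H) * y = y * x := by
    intro x
    rw [mem_centralizer_iff]
    constructor
    · rintro h _ ⟨y, hy, rfl⟩
      exact (congrArg Subtype.val (h y hy)).symm
    · intro h y hy
      exact Subtype.ext (h y ⟨y, hy, rfl⟩).symm
  have hmemY : ∀ {x : P}, (x : H) ∈ K.map P.subtype ↔ x ∈ K := by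
    intro x
    constructor
    · rintro ⟨y, hy, hyx⟩
      have : y = x := Subtype.ext hyx
      rwa [← this]
    · intro hx; exact ⟨x, hx, rfl⟩
  have hmemZ : ∀ x : H, x ∈ (K ⊓ centralizer (K : Set P)).map P.subtype ↔
      x ∈ K.map P.subtype ∧ ∀ y ∈ K.map P.subtype, x * y = y * x := by
    intro x
    constructor
    · rintro ⟨y, hy, rfl⟩
      exact ⟨⟨y, hy.1, rfl⟩, (hcent y).1 hy.2⟩
    · rintro ⟨⟨y, hy, rfl⟩, hx⟩
      exact ⟨y, ⟨hy, (hcent y).2 hx⟩, rfl⟩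
  have hsub : ∀ (L : Subgroup P), (L.map P.subtype).subgroupOf P = L := by
    intro L
    ext x
    rw [mem_subgroupOf]
    constructor
    · rintro ⟨y, hy, hyx⟩
      have : y = x := Subtype.ext hyx
      rwa [← this]
    · intro hx; exact ⟨x, hx, rfl⟩
  refine ⟨K.map P.subtype, (K ⊓ centralizer (K : Set P)).map P.subtype, map_subtype_le K, inferInstance, inferInstance,
    ?_, ?_, hmemZ, ?_, ?_, ?_⟩
  · rw [hsub]; exact h1
  · rw [hsub]; infer_instance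
  · rintro _ ⟨y, hy, rfl⟩ x hx
    have h5 := h3 (commutator_mem_commutator hy (mem_top (⟨x, hx⟩ : P)))
    have h6 : ⁅y, (⟨x, hx⟩ : P)⁆⁻¹ ∈ K ⊓ centralizer (K : Set P) := inv_mem h5
    refine ⟨_, h6, ?_⟩
    simp [commutatorElement_def, mul_assoc]
  · rintro _ ⟨y, hy, rfl⟩
    have h5 := Lib.FrattiniPGroup.pow_mem_frattini (hP.to_subgroup K) ⟨y, hy⟩
    have h6 : (y ^ 2) ∈ centralizer (K : Set P) := h2 ⟨_, h5, rfl⟩
    refine ⟨y ^ 2, ⟨pow_mem hy 2, h6⟩, ?_⟩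
    simp [pow_two]
  · intro x hx hxy
    have h5 : (⟨x, hx⟩ : P) ∈ centralizer (K : Set P) := (hcent ⟨x, hx⟩).2 hxy
    exact ⟨⟨x, hx⟩, ⟨h4 h5, h5⟩, rfl⟩

/-- the setting -/
structure Dat (P Y Z J : Subgroup H) (t z i j d : H) : Prop where
  PN : P.Normal
  P2 : IsPGroup 2 P
  YP : Y ≤ P
  YN : Y.Normal
  ZN : Z.Normal
  Zm : ∀ x, x ∈ Z ↔ x ∈ Y ∧ ∀ y ∈ Y, x * y = y * x
  com : ∀ y ∈ Y, ∀ x ∈ P, x * y * x⁻¹ * y⁻¹ ∈ Z
  sq : ∀ y ∈ Y, y * y ∈ Z
  cen : ∀ x ∈ P, (∀ y ∈ Y, x * y = y * x) → x ∈ Z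
  sl : SLThree.Sl J z i j d
  t3 : T3 J z
  sn : Sn J (centralizer ({t} : Set H))
  tt : t * t = 1
  iP : i ∈ P

namespace Dat

variable [Finite H] {P Y Z J : Subgroup H} {t z i j d : H} (D : Dat P Y Z J t z i j d)

include D

theorem ct {x : H} (hx : x ∈ J) : x * t = t * x := mem_centralizer_singleton_iff.1 (D.sn.1 hx)

theorem dt : d * t = t * d := D.ct D.sl.hd

theorem ZY : Z ≤ Y := fun x hx => ((D.Zm x).1 hx).1

theorem ZP : Z ≤ P := D.ZY.trans D.YP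

theorem zc {m y : H} (hm : m ∈ Z) (hy : y ∈ Y) : m * y = y * m := ((D.Zm m).1 hm).2 y hy

theorem sP {x : H} (hx : x ∈ P) (g : H) : g * x * g⁻¹ ∈ P := D.PN.conj_mem x hx g

theorem jP : j ∈ P := by rw [← D.sl.di]; exact D.sP D.iP d

theorem QP : closure {i, j} ≤ P := by
  rw [closure_le]
  rintro x (rfl | rfl)
  · exact D.iP
  · exact D.jP

/-- `J` normalises `A ⊓ C(t)` for `A` normal -/
theorem le_norm {A : Subgroup H} (hA : A.Normal) : J ≤ normalizer ((A ⊓ centralizer ({t} : Set H) : Subgroup H) : Set H) := by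
  intro g hg
  have h5 : g ∈ centralizer ({t} : Set H) := D.sn.1 hg
  rw [mem_normalizer_iff]
  intro y
  constructor
  · rintro ⟨h3, h4⟩
    exact mem_inf.2 ⟨hA.conj_mem y h3 g, (centralizer ({t} : Set H)).mul_mem ((centralizer ({t} : Set H)).mul_mem h5 h4)
      ((centralizer ({t} : Set H)).inv_mem h5)⟩
  · intro h3
    have h3' := mem_inf.1 h3
    have e : y = g⁻¹ * (g * y * g⁻¹) * g⁻¹⁻¹ := by group
    rw [e]
    exact mem_inf.2 ⟨hA.conj_mem _ h3'.1 g⁻¹, (centralizer ({t} : Set H)).mul_mem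
      ((centralizer ({t} : Set H)).mul_mem ((centralizer ({t} : Set H)).inv_mem h5) h3'.2)
      ((centralizer ({t} : Set H)).inv_mem ((centralizer ({t} : Set H)).inv_mem h5))⟩

/-- the square roots of `z` -/
theorem mem_Q {y : H} (hy : y ∈ J) (hyz : y * y = z) : y ∈ closure ({i, j} : Set H) := by
  have hz1 := D.sl.q.z1
  obtain ⟨q, hq, hx⟩ := D.sl.mem_cases hy
  have hn1 := D.sl.conj_mem hq
  have hn2 := D.sl.conj_mem hn1
  have key : ∀ r ∈ closure ({i, j} : Set H), ∀ e : H, e = d ∨ e = d * d → r * e ≠ z := by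
    intro r hr e he h
    have h1 : e ∈ closure ({i, j} : Set H) := by
      have : e = r⁻¹ * z := by rw [← h]; group
      rw [this]; exact mul_mem (inv_mem hr) D.sl.q.mem_z
    have h2 : d ∈ closure ({i, j} : Set H) := by
      rcases he with rfl | rfl
      · exact h1
      · have : d = (d * d)⁻¹ := by
          rw [eq_inv_iff_mul_eq_one, ← mul_assoc]; exact D.sl.d3
        rw [this]; exact inv_mem h1
    have h3 := D.sl.q.isPGroup.to_le (zpowers_le.2 h2)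
    obtain ⟨n, hn⟩ := D.sl.q.isPGroup ⟨d, h2⟩
    have h4 : d ^ 2 ^ n = 1 := by simpa using congrArg Subtype.val hn
    exact D.sl.d_ne (SLThree.Sl.eq_one_of_cube D.sl.d3 h4)
  rcases hx with rfl | rfl | rfl
  · exact hq
  · exfalso
    have h1 : q * d * (q * d) = (q * (d * q * d⁻¹)) * (d * d) := by group
    exact key _ (mul_mem hq hn1) (d * d) (Or.inr rfl) (h1 ▸ hyz)
  · exfalso
    have h1 : q * (d * d) * (q * (d * d)) = (q * (d * (d * q * d⁻¹) * d⁻¹)) * d * (d * d * d) := by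
      simp only [mul_assoc, inv_mul_cancel_left, inv_mul_cancel, mul_one]
    rw [D.sl.d3, mul_one] at h1
    exact key _ (mul_mem hq hn2) d (Or.inl rfl) (h1 ▸ hyz)

theorem d_odd : Odd (orderOf d) := odd_of_cube D.sl.d3

/-- (A) `d` centralises `Z` -/
theorem dZ {m : H} (hm : m ∈ Z) : d * m = m * d := by
  haveI := D.ZN
  have h1 : zpowers d ≤ centralizer (Z : Set H) := by
    refine le_cent (z := t) D.tt (D.P2.to_le D.ZP) ?_ ?_ ?_
    · rw [Nat.card_zpowers]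
      exact (Nat.coprime_two_right).2 D.d_odd
    · rintro _ ⟨k, rfl⟩
      exact ((show Commute d t from D.dt).zpow_left k).eq
    · intro x hx hxt w hw
      have h2 : d * x = x * d := by
        refine T3.comm_of_sn D.t3 D.sn (P := Z ⊓ centralizer {t}) inf_le_right
          (D.P2.to_le (inf_le_left.trans D.ZP)) ?_ ?_ D.sl.hd D.sl.d3 ⟨hx, mem_centralizer_singleton_iff.2 hxt⟩
        · exact D.le_norm D.ZN
        · intro hall
          have hi := (hall i D.sl.hi D.sl.q.i2).1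
          have hj := (hall j D.sl.hj D.sl.q.j2).1
          exact D.sl.q.not_comm (D.zc hi (D.ZY hj))
      obtain ⟨k, rfl⟩ := hw
      exact ((show Commute x d from h2.symm).zpow_right k).eq
  exact ((mem_centralizer_iff.1 (h1 (mem_zpowers d))) m hm).symm

/-- (B) `O₂(J) ≤ Y` -/
theorem QY : closure {i, j} ≤ Y := by
  by_cases hall : ∀ y ∈ J, y * y = z → y ∈ Y ⊓ centralizer ({t} : Set H)
  · rw [closure_le]
    rintro x (rfl | rfl)
    · exact (hall _ D.sl.hi D.sl.q.i2).1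
    · exact (hall _ D.sl.hj D.sl.q.j2).1
  exfalso
  haveI := D.YN
  have h1 : zpowers d ≤ centralizer (Y : Set H) := by
    refine le_cent (z := t) D.tt (D.P2.to_le D.YP) ?_ ?_ ?_
    · rw [Nat.card_zpowers]
      exact (Nat.coprime_two_right).2 D.d_odd
    · rintro _ ⟨k, rfl⟩
      exact ((show Commute d t from D.dt).zpow_left k).eq
    · intro x hx hxt w hw
      have h2 : d * x = x * d := by
        refine T3.comm_of_sn D.t3 D.sn (P := Y ⊓ centralizer {t}) inf_le_right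
          (D.P2.to_le (inf_le_left.trans D.YP)) ?_ hall D.sl.hd D.sl.d3 ⟨hx, mem_centralizer_singleton_iff.2 hxt⟩
        exact D.le_norm D.YN
      obtain ⟨k, rfl⟩ := hw
      exact ((show Commute x d from h2.symm).zpow_right k).eq
  haveI : Fact (Nat.Prime 2) := ⟨Nat.prime_two⟩
  haveI := D.PN
  have h2 := OddOrderLocal.SelfCentFixed.mem_centralizer_of_inf_le (P := Y) (Q := P) D.P2 D.YP ?_
    (u := d) ((Nat.coprime_two_right).2 D.d_odd) (by rw [normalizer_eq_top]; exact mem_top d) (h1 (mem_zpowers d))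
  · have h3 := mem_centralizer_iff.1 h2 i D.iP
    have h4 : j = i := by rw [← D.sl.di, ← h3]; group
    exact D.sl.q.not_comm (by rw [h4])
  · rintro x ⟨hxP, hxY⟩
    exact D.ZY (D.cen x hxP fun y hy => (mem_centralizer_iff.1 hxY y hy).symm)

theorem dm {m : H} (hm : m ∈ Z) : d * m * d⁻¹ = m := by rw [D.dZ hm]; group

/-- (C) -/
theorem fixt {x : H} (hx : x ∈ P) (hxt : x * t = t * x) : x⁻¹ * d * x ∈ J := by
  refine mem_of_sup (P := P ⊓ centralizer {t}) (D.sn.restrict (sup_le D.sn.1 inf_le_right) le_sup_left)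
    (D.P2.to_le inf_le_left) ?_ ?_ ?_
  · exact D.le_norm D.PN
  · have h1 : x ∈ P ⊓ centralizer ({t} : Set H) := ⟨hx, mem_centralizer_singleton_iff.2 hxt⟩
    exact mul_mem (mul_mem (mem_sup_right (inv_mem h1)) (mem_sup_left D.sl.hd)) (mem_sup_right h1)
  · have h4 : orderOf (x⁻¹ * d * x) = orderOf d := by
      have := orderOf_injective (MulAut.conj x⁻¹).toMonoidHom (MulAut.conj x⁻¹).injective d
      simpa using this
    rw [h4]; exact D.d_odd

/-- elements of `J` in `P` -/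
theorem JP {y : H} (hy : y ∈ J) (hyP : y ∈ P) : y ∈ closure ({i, j} : Set H) := by
  obtain ⟨n, hn2⟩ := D.P2 ⟨y, hyP⟩
  have hx2 : y ^ 2 ^ n = 1 := by simpa using congrArg Subtype.val hn2
  rcases D.t3.cases y hy with h1 | h1 | h1 | h1 | h1
  · exact D.mem_Q hy h1
  · rw [h1]; exact one_mem _
  · rw [h1]; exact D.sl.q.mem_z
  · rw [SLThree.Sl.eq_one_of_cube h1 hx2]; exact one_mem _
  · have h2 : (y * y) * (y * y) * (y * y) = 1 := by
      calc (y * y) * (y * y) * (y * y) = (y * y * y) * (y * y * y) := by group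
        _ = 1 := by rw [h1, D.sl.q.z2]
    have h3 : y * y = 1 := by
      refine SLThree.Sl.eq_one_of_cube h2 (n := n) ?_
      rw [← pow_two, ← pow_mul, mul_comm, pow_mul, hx2, one_pow]
    have : y = z := by rw [← h1, h3, one_mul]
    rw [this]; exact D.sl.q.mem_z

end Dat

/-- `[P, d]` -/
def U (P : Subgroup H) (d : H) : Subgroup H := closure {u | ∃ x ∈ P, u = x⁻¹ * (d * x * d⁻¹)}

namespace Dat

variable [Finite H] {P Y Z J : Subgroup H} {t z i j d : H} (D : Dat P Y Z J t z i j d)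

include D

theorem ddd (x : H) : d * (d * (d * x * d⁻¹) * d⁻¹) * d⁻¹ = x := by
  have h1 : d * (d * (d * x * d⁻¹) * d⁻¹) * d⁻¹ = (d * d * d) * x * (d * d * d)⁻¹ := by group
  rw [h1, D.sl.d3]; group

theorem mem_U {x : H} (hx : x ∈ P) : x⁻¹ * (d * x * d⁻¹) ∈ U P d := subset_closure ⟨x, hx, rfl⟩

theorem U_le : U P d ≤ P := by
  unfold U
  rw [closure_le]
  rintro _ ⟨x, hx, rfl⟩
  exact mul_mem (inv_mem hx) (D.sP hx d)

theorem conj_d {u : H} (hu : u ∈ U P d) : d * u * d⁻¹ ∈ U P d := by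
  have h1 : U P d ≤ (U P d).comap (MulAut.conj d).toMonoidHom := by
    conv_lhs => unfold U
    rw [closure_le]
    rintro _ ⟨x, hx, rfl⟩
    show d * (x⁻¹ * (d * x * d⁻¹)) * d⁻¹ ∈ U P d
    have e : d * (x⁻¹ * (d * x * d⁻¹)) * d⁻¹ = (d * x * d⁻¹)⁻¹ * (d * (d * x * d⁻¹) * d⁻¹) := by group
    rw [e]
    exact D.mem_U (D.sP hx d)
  exact h1 hu

theorem t_inv : t⁻¹ = t := inv_eq_of_mul_eq_one_right D.tt

theorem tP {x : H} (hx : x ∈ P) : t * x * t ∈ P := by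
  have h1 := D.sP hx t
  rwa [D.t_inv] at h1

theorem conj_t {u : H} (hu : u ∈ U P d) : t * u * t ∈ U P d := by
  have h1 : U P d ≤ (U P d).comap (MulAut.conj t).toMonoidHom := by
    conv_lhs => unfold U
    rw [closure_le]
    rintro _ ⟨x, hx, rfl⟩
    show t * (x⁻¹ * (d * x * d⁻¹)) * t⁻¹ ∈ U P d
    have hd : d * t = t * d := D.dt
    have hd' : t * d⁻¹ = d⁻¹ * t := ((show Commute t d from hd.symm).inv_right).eq
    have e : t * (x⁻¹ * (d * x * d⁻¹)) * t⁻¹ = (t * x * t⁻¹)⁻¹ * (d * (t * x * t⁻¹) * d⁻¹) := by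
      calc t * (x⁻¹ * (d * x * d⁻¹)) * t⁻¹ = t * x⁻¹ * d * x * (d⁻¹ * t⁻¹) := by group
        _ = t * x⁻¹ * d * x * (t⁻¹ * d⁻¹) := by
          rw [D.t_inv, ← hd']
        _ = (t * x * t⁻¹)⁻¹ * (t * d) * x * t⁻¹ * d⁻¹ := by group
        _ = (t * x * t⁻¹)⁻¹ * (d * (t * x * t⁻¹) * d⁻¹) := by rw [← hd]; group
    rw [e]
    exact D.mem_U (D.sP hx t)
  have h2 := h1 hu
  have h3 : t * u * t⁻¹ ∈ U P d := h2
  rwa [D.t_inv] at h3

/-- (D) -/
theorem comm_U {c u : H} (hc : c ∈ Y) (hdc : d * c * d⁻¹ = c) (hu : u ∈ U P d) : c * u = u * c := by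
  have h1 : U P d ≤ centralizer ({c} : Set H) := by
    unfold U
    rw [closure_le]
    rintro _ ⟨x, hx, rfl⟩
    refine mem_centralizer_singleton_iff.2 ?_
    -- `x c x⁻¹ = m c`
    set m := x * c * x⁻¹ * c⁻¹ with hm
    have hmZ : m ∈ Z := D.com c hc x hx
    have e1 : x * c * x⁻¹ = m * c := by rw [hm]; group
    have e2 : (d * x * d⁻¹) * c * (d * x * d⁻¹)⁻¹ = m * c := by
      calc (d * x * d⁻¹) * c * (d * x * d⁻¹)⁻¹ = d * (x * (d⁻¹ * c * d) * x⁻¹) * d⁻¹ := by group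
        _ = d * (x * c * x⁻¹) * d⁻¹ := by
          have : d⁻¹ * c * d = c := by nth_rw 1 [← hdc]; group
          rw [this]
        _ = (d * m * d⁻¹) * (d * c * d⁻¹) := by rw [e1]; group
        _ = m * c := by rw [D.dm hmZ, hdc]
    have e3 : (d * x * d⁻¹) * c * (d * x * d⁻¹)⁻¹ = x * c * x⁻¹ := by rw [e1, e2]
    calc x⁻¹ * (d * x * d⁻¹) * c = x⁻¹ * ((d * x * d⁻¹) * c * (d * x * d⁻¹)⁻¹) * (d * x * d⁻¹) := by group
      _ = c * (x⁻¹ * (d * x * d⁻¹)) := by rw [e3]; group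
  exact (mem_centralizer_singleton_iff.1 (h1 hu)).symm

theorem zU {m u : H} (hm : m ∈ Z) (hu : u ∈ U P d) : m * u = u * m := D.comm_U (D.ZY hm) (D.dm hm) hu

theorem beta {y u : H} (hy : y ∈ Y) (hu : u ∈ U P d) : ∃ m ∈ Z, u * y * u⁻¹ = m * y :=
  ⟨_, D.com y hy u (D.U_le hu), by group⟩

/-- (E) -/
theorem sqU {u : H} (hu : u ∈ U P d) : u * u ∈ Z := by
  refine D.cen _ (mul_mem (D.U_le hu) (D.U_le hu)) ?_
  intro y hy
  obtain ⟨m, hm, e⟩ := D.beta hy hu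
  have h1 := D.zU hm hu
  have h2 := D.zc hm hy
  have h3 := D.zU (D.sq y hy) hu
  have h4 : m * m = 1 := by
    have h5 : (m * y) * (m * y) = y * y := by
      rw [← e]
      calc (u * y * u⁻¹) * (u * y * u⁻¹) = u * (y * y) * u⁻¹ := by group
        _ = y * y := by rw [← h3]; group
    have h6 : (m * y) * (m * y) = (m * m) * (y * y) := by
      calc (m * y) * (m * y) = m * (y * m) * y := by group
        _ = (m * m) * (y * y) := by rw [← h2]; group
    rw [h6] at h5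
    exact mul_eq_right.1 h5
  calc u * u * y = u * (u * y * u⁻¹) * u := by group
    _ = (u * m) * y * u := by rw [e]; group
    _ = m * (u * y * u⁻¹) * u * u := by rw [← h1]; group
    _ = (m * m) * y * u * u := by rw [e]; group
    _ = y * (u * u) := by rw [h4]; group

theorem comU {u v : H} (hu : u ∈ U P d) (hv : v ∈ U P d) : u * v * u⁻¹ * v⁻¹ ∈ Z := by
  refine D.cen _ ?_ ?_
  · exact mul_mem (mul_mem (mul_mem (D.U_le hu) (D.U_le hv)) (inv_mem (D.U_le hu))) (inv_mem (D.U_le hv))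
  intro y hy
  obtain ⟨m, hm, e⟩ := D.beta hy hu
  obtain ⟨n, hn, f⟩ := D.beta hy hv
  have h1 := D.zU hm hv
  have h2 := D.zU hn hu
  have h3 : m * n = n * m := D.zc hm (D.ZY hn)
  have e1 : (u * v) * y * (u * v)⁻¹ = n * m * y := by
    calc (u * v) * y * (u * v)⁻¹ = u * (v * y * v⁻¹) * u⁻¹ := by group
      _ = (u * n) * y * u⁻¹ := by rw [f]; group
      _ = n * (u * y * u⁻¹) := by rw [← h2]; group
      _ = n * m * y := by rw [e]; group
  have e2 : (v * u) * y * (v * u)⁻¹ = m * n * y := by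
    calc (v * u) * y * (v * u)⁻¹ = v * (u * y * u⁻¹) * v⁻¹ := by group
      _ = (v * m) * y * v⁻¹ := by rw [e]; group
      _ = m * (v * y * v⁻¹) := by rw [← h1]; group
      _ = m * n * y := by rw [f]; group
  have e3 : (u * v) * y * (u * v)⁻¹ = (v * u) * y * (v * u)⁻¹ := by rw [e1, e2, h3]
  -- conjugation by `(v u)⁻¹ (u v)` fixes `y`; we need it for `(u v)(v u)⁻¹`
  have key : ∀ y ∈ Y, (u * v) * y * (u * v)⁻¹ = (v * u) * y * (v * u)⁻¹ := by
    intro y hy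
    obtain ⟨m, hm, e⟩ := D.beta hy hu
    obtain ⟨n, hn, f⟩ := D.beta hy hv
    have h1 := D.zU hm hv
    have h2 := D.zU hn hu
    have h3 : m * n = n * m := D.zc hm (D.ZY hn)
    calc (u * v) * y * (u * v)⁻¹ = u * (v * y * v⁻¹) * u⁻¹ := by group
      _ = (u * n) * y * u⁻¹ := by rw [f]; group
      _ = n * (u * y * u⁻¹) := by rw [← h2]; group
      _ = n * m * y := by rw [e]; group
      _ = m * n * y := by rw [h3]
      _ = m * (v * y * v⁻¹) := by rw [f]; group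
      _ = (m * v) * y * v⁻¹ := by group
      _ = v * (m * y) * v⁻¹ := by rw [h1]; group
      _ = v * (u * y * u⁻¹) * v⁻¹ := by rw [e]
      _ = (v * u) * y * (v * u)⁻¹ := by group
  have h5 := key ((v * u)⁻¹ * y * (v * u)⁻¹⁻¹) (D.YN.conj_mem y hy _)
  have h6 : (v * u) * ((v * u)⁻¹ * y * (v * u)⁻¹⁻¹) * (v * u)⁻¹ = y := by group
  rw [h6] at h5
  have h7 : (u * v) * ((v * u)⁻¹ * y * (v * u)⁻¹⁻¹) * (u * v)⁻¹ =
      (u * v * u⁻¹ * v⁻¹) * y * (u * v * u⁻¹ * v⁻¹)⁻¹ := by group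
  rw [h7] at h5
  rw [← mul_inv_eq_iff_eq_mul]; exact h5

/-- the projection to `H / Z` -/
theorem pi_eq (hZ : Z.Normal) {x : H} : (QuotientGroup.mk' Z) x = 1 ↔ x ∈ Z := QuotientGroup.eq_one_iff x

theorem pi_comm (hZ : Z.Normal) {u v : H} (hu : u ∈ U P d) (hv : v ∈ U P d) :
    (QuotientGroup.mk' Z) u * (QuotientGroup.mk' Z) v = (QuotientGroup.mk' Z) v * (QuotientGroup.mk' Z) u := by
  have h1 := (D.pi_eq hZ).2 (D.comU hu hv)
  rw [map_mul, map_mul, map_mul, map_inv, map_inv, mul_inv_eq_one, mul_inv_eq_iff_eq_mul] at h1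
  exact h1

theorem pi_sq (hZ : Z.Normal) {u : H} (hu : u ∈ U P d) :
    (QuotientGroup.mk' Z) u * (QuotientGroup.mk' Z) u = 1 := by
  rw [← map_mul]; exact (D.pi_eq hZ).2 (D.sqU hu)

/-- (F) the norm of `d` on `U` is trivial modulo `Z` -/
theorem nrm (hZ : Z.Normal) {u : H} (hu : u ∈ U P d) :
    (QuotientGroup.mk' Z) u * (QuotientGroup.mk' Z) (d * u * d⁻¹) *
      (QuotientGroup.mk' Z) (d * (d * u * d⁻¹) * d⁻¹) = 1 := by
  set π := QuotientGroup.mk' Z with hπ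
  have hu' : u ∈ closure {u | ∃ x ∈ P, u = x⁻¹ * (d * x * d⁻¹)} := hu
  induction hu' using Subgroup.closure_induction with
  | mem x hx =>
    obtain ⟨y, hy, rfl⟩ := hx
    rw [← map_mul, ← map_mul]
    have e : y⁻¹ * (d * y * d⁻¹) * (d * (y⁻¹ * (d * y * d⁻¹)) * d⁻¹) *
        (d * (d * (y⁻¹ * (d * y * d⁻¹)) * d⁻¹) * d⁻¹) = y⁻¹ * (d * (d * (d * y * d⁻¹) * d⁻¹) * d⁻¹) := by group
    rw [e, D.ddd]
    simp
  | one => simp
  | mul a b ha hb iha ihb =>
    have ha' : a ∈ U P d := ha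
    have hb' : b ∈ U P d := hb
    have ia := iha ha'
    have ib := ihb hb'
    have sa := D.conj_d ha'
    have ssa := D.conj_d sa
    have sb := D.conj_d hb'
    have ssb := D.conj_d sb
    have e1 : d * (a * b) * d⁻¹ = (d * a * d⁻¹) * (d * b * d⁻¹) := by group
    have e2 : d * ((d * a * d⁻¹) * (d * b * d⁻¹)) * d⁻¹ = (d * (d * a * d⁻¹) * d⁻¹) * (d * (d * b * d⁻¹) * d⁻¹) := by
      group
    rw [e1, e2]
    generalize d * a * d⁻¹ = a1 at *
    generalize d * b * d⁻¹ = b1 at *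
    generalize d * a1 * d⁻¹ = a2 at *
    generalize d * b1 * d⁻¹ = b2 at *
    simp only [map_mul]
    have c1 := D.pi_comm hZ hb' sa
    have c2 := D.pi_comm hZ sb ssa
    have c3 := D.pi_comm hZ hb' ssa
    rw [← hπ] at c1 c2 c3
    calc π a * π b * (π a1 * π b1) * (π a2 * π b2) = π a * (π b * π a1) * (π b1 * π a2) * π b2 := by group
      _ = π a * π a1 * (π b * π a2) * π b1 * π b2 := by rw [c1, c2]; group
      _ = (π a * π a1 * π a2) * (π b * π b1 * π b2) := by rw [c3]; group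
      _ = 1 := by rw [ia, ib, one_mul]
  | inv a ha iha =>
    have ha' : a ∈ U P d := ha
    have ia := iha ha'
    have sa := D.conj_d ha'
    have ssa := D.conj_d sa
    have e1 : d * a⁻¹ * d⁻¹ = (d * a * d⁻¹)⁻¹ := by group
    have e2 : d * (d * a * d⁻¹)⁻¹ * d⁻¹ = (d * (d * a * d⁻¹) * d⁻¹)⁻¹ := by
      simp only [mul_inv_rev, inv_inv, mul_assoc]
    rw [e1, e2]
    generalize d * a * d⁻¹ = a1 at *
    generalize d * a1 * d⁻¹ = a2 at *
    simp only [map_inv]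
    have c1 := D.pi_comm hZ ha' sa
    have c2 := D.pi_comm hZ ha' ssa
    have c3 := D.pi_comm hZ sa ssa
    rw [← hπ] at c1 c2 c3
    calc (π a)⁻¹ * (π a1)⁻¹ * (π a2)⁻¹ = (π a2 * (π a1 * π a))⁻¹ := by group
      _ = (π a2 * (π a * π a1))⁻¹ := by rw [← c1]
      _ = ((π a2 * π a) * π a1)⁻¹ := by group
      _ = (π a * (π a2 * π a1))⁻¹ := by rw [← c2]; group
      _ = (π a * π a1 * π a2)⁻¹ := by rw [← c3]; group
      _ = 1 := by rw [ia, inv_one]

/-- (G) elements of `U` fixed by `t` modulo `Z` -/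
theorem dich {u : H} (hu : u ∈ U P d) (hut : u⁻¹ * (t * u * t) ∈ Z) :
    ∃ q ∈ closure ({i, j} : Set H), ∃ m ∈ Z, u = q * m := by
  have hZ := D.ZN
  set m := u⁻¹ * (t * u * t) with hm
  have e1 : t * u * t = u * m := by rw [hm]; group
  have su := D.conj_d hu
  have ssu := D.conj_d su
  have hdt : d * t = t * d := D.dt
  have hdt' : t * d⁻¹ = d⁻¹ * t := ((show Commute t d from hdt.symm).inv_right).eq
  have e2 : t * (d * u * d⁻¹) * t = (d * u * d⁻¹) * m := by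
    calc t * (d * u * d⁻¹) * t = (t * d) * u * (d⁻¹ * t) := by group
      _ = d * (t * u * t) * d⁻¹ := by rw [← hdt, ← hdt']; group
      _ = (d * u * d⁻¹) * (d * m * d⁻¹) := by rw [e1]; group
      _ = (d * u * d⁻¹) * m := by rw [D.dm hut]
  have e3 : t * u⁻¹ * t = m⁻¹ * u⁻¹ := by
    have : t * u⁻¹ * t = (t⁻¹ * u * t⁻¹)⁻¹ := by group
    rw [this, D.t_inv, e1]; group
  set w := u⁻¹ * (d * u * d⁻¹) with hw
  have hwU : w ∈ U P d := mul_mem (inv_mem hu) su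
  have e4 : t * w * t = w := by
    calc t * w * t = (t * u⁻¹ * t) * (t * (d * u * d⁻¹) * t) := by
          rw [hw]
          calc t * (u⁻¹ * (d * u * d⁻¹)) * t = t * u⁻¹ * 1 * (d * u * d⁻¹) * t := by group
            _ = t * u⁻¹ * (t * t) * (d * u * d⁻¹) * t := by rw [D.tt]
            _ = _ := by group
      _ = m⁻¹ * (w * m) := by rw [e3, e2, hw]; group
      _ = w := by rw [← D.zU hut hwU]; group
  have e5 : w * t = t * w := by
    calc w * t = (t * w * t) * t := by rw [e4]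
      _ = t * w * (t * t) := by group
      _ = t * w := by rw [D.tt, mul_one]
  have h1 := D.fixt (D.U_le hwU) e5
  set y := w⁻¹ * (d * w * d⁻¹) with hy
  have hyJ : y ∈ J := by
    have : y = (w⁻¹ * d * w) * d⁻¹ := by rw [hy]; group
    rw [this]; exact mul_mem h1 (inv_mem D.sl.hd)
  have hyP : y ∈ P := mul_mem (inv_mem (D.U_le hwU)) (D.sP (D.U_le hwU) d)
  have hyQ := D.JP hyJ hyP
  -- modulo `Z`
  have hyd : (QuotientGroup.mk' Z) y = (QuotientGroup.mk' Z) (d * u * d⁻¹) := by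
    have n1 := D.nrm hZ hu
    have c1 := D.pi_comm hZ hu su
    have c2 := D.pi_comm hZ hu ssu
    have c3 := D.pi_comm hZ su ssu
    have s1 := D.pi_sq hZ hu
    have s2 := D.pi_sq hZ su
    have e6 : y = (d * u * d⁻¹)⁻¹ * u * ((d * u * d⁻¹)⁻¹ * (d * (d * u * d⁻¹) * d⁻¹)) := by
      rw [hy, hw]; group
    rw [e6]
    generalize d * u * d⁻¹ = u1 at *
    generalize d * u1 * d⁻¹ = u2 at *
    generalize QuotientGroup.mk' Z = π at *
    simp only [map_mul, map_inv]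
    have i1 : (π u1)⁻¹ = π u1 := inv_eq_of_mul_eq_one_right s2
    rw [i1]
    calc π u1 * π u * (π u1 * π u2) = (π u * π u1) * (π u1 * π u2) := by rw [c1]
      _ = π u * (π u1 * π u1) * π u2 := by group
      _ = π u * π u2 := by rw [s2, mul_one]
      _ = π u1 := by
        have : π u * π u2 * π u1 = 1 := by rw [mul_assoc, ← c3, ← mul_assoc]; exact n1
        rw [mul_eq_one_iff_eq_inv.1 this, i1]
  have hm' : y⁻¹ * (d * u * d⁻¹) ∈ Z := by
    rw [← D.pi_eq hZ, map_mul, map_inv, hyd, inv_mul_cancel]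
  set m' := y⁻¹ * (d * u * d⁻¹) with hm'd
  refine ⟨d * (d * y * d⁻¹) * d⁻¹, D.sl.conj_mem (D.sl.conj_mem hyQ), m', hm', ?_⟩
  have e7 : d * u * d⁻¹ = y * m' := by rw [hm'd]; group
  have e8 := D.ddd u
  rw [e7] at e8
  rw [← e8]
  have e9 : d * (d * (y * m') * d⁻¹) * d⁻¹ = (d * (d * y * d⁻¹) * d⁻¹) * (d * (d * m' * d⁻¹) * d⁻¹) := by group
  rw [e9, D.dm hm', D.dm hm']

/-- (H) -/
theorem diff {u : H} (hu : u ∈ U P d) :
    ∃ q ∈ closure ({i, j} : Set H), ∃ m ∈ Z, u⁻¹ * (t * u * t) = q * m := by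
  have hZ := D.ZN
  have h1 : u⁻¹ * (t * u * t) ∈ U P d := mul_mem (inv_mem hu) (D.conj_t hu)
  refine D.dich h1 ?_
  have e1 : t * (u⁻¹ * (t * u * t)) * t = (u⁻¹ * (t * u * t))⁻¹ := by
    calc t * (u⁻¹ * (t * u * t)) * t = t * u⁻¹ * t * u * (t * t) := by group
      _ = t⁻¹ * u⁻¹ * t⁻¹ * u := by rw [D.tt, mul_one, D.t_inv]
      _ = (u⁻¹ * (t * u * t))⁻¹ := by group
  rw [e1, ← mul_inv_rev]
  exact inv_mem (D.sqU h1)

/-- case 1 -/
theorem le_normalizer_of (hall : ∀ u ∈ U P d, u⁻¹ * (t * u * t) ∈ Z) : P ≤ normalizer (J : Set H) := by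
  -- `[P, d] ≤ Q`
  have h1 : ∀ x ∈ P, x⁻¹ * (d * x * d⁻¹) ∈ closure ({i, j} : Set H) := by
    intro x hx
    obtain ⟨q, hq, m, hm, e⟩ := D.dich (D.mem_U hx) (hall _ (D.mem_U hx))
    have hq1 := D.sl.conj_mem hq
    have hq2 := D.sl.conj_mem hq1
    have e1 : (x⁻¹ * (d * x * d⁻¹)) * (d * (x⁻¹ * (d * x * d⁻¹)) * d⁻¹) *
        (d * (d * (x⁻¹ * (d * x * d⁻¹)) * d⁻¹) * d⁻¹) = 1 := by
      have e : (x⁻¹ * (d * x * d⁻¹)) * (d * (x⁻¹ * (d * x * d⁻¹)) * d⁻¹) *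
        (d * (d * (x⁻¹ * (d * x * d⁻¹)) * d⁻¹) * d⁻¹) = x⁻¹ * (d * (d * (d * x * d⁻¹) * d⁻¹) * d⁻¹) := by group
      rw [e, D.ddd]; group
    rw [e] at e1 ⊢
    have e2 : d * (q * m) * d⁻¹ = (d * q * d⁻¹) * m := by
      have : d * (q * m) * d⁻¹ = (d * q * d⁻¹) * (d * m * d⁻¹) := by group
      rw [this, D.dm hm]
    have e3 : d * ((d * q * d⁻¹) * m) * d⁻¹ = (d * (d * q * d⁻¹) * d⁻¹) * m := by
      have : d * ((d * q * d⁻¹) * m) * d⁻¹ = (d * (d * q * d⁻¹) * d⁻¹) * (d * m * d⁻¹) := by group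
      rw [this, D.dm hm]
    rw [e2, e3] at e1
    generalize d * q * d⁻¹ = q1 at *
    generalize d * q1 * d⁻¹ = q2 at *
    have c1 := D.zc hm (D.QY hq1)
    have c2 := D.zc hm (D.QY hq2)
    have e4 : (q * q1 * q2) * (m * m * m) = 1 := by
      rw [← e1]
      calc (q * q1 * q2) * (m * m * m) = q * q1 * (q2 * m) * m * m := by group
        _ = q * q1 * (m * q2) * m * m := by rw [c2]
        _ = q * (q1 * m) * (q2 * m) * m := by group
        _ = q * (m * q1) * (m * q2) * m := by rw [c1, c2]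
        _ = q * m * (q1 * m) * (q2 * m) := by group
    have hm3 : m ^ 3 ∈ closure ({i, j} : Set H) := by
      have : m ^ 3 = (q * q1 * q2)⁻¹ := by
        rw [pow_succ, pow_succ, pow_one]; exact (mul_eq_one_iff_inv_eq.1 e4).symm
      rw [this]; exact inv_mem (mul_mem (mul_mem hq hq1) hq2)
    obtain ⟨n, hn⟩ := D.P2 ⟨m, D.ZP hm⟩
    have hm2 : m ^ 2 ^ n = 1 := by simpa using congrArg Subtype.val hn
    have hmQ : m ∈ closure ({i, j} : Set H) := by
      have hcop : Int.gcd (3 : ℤ) ((2 ^ n : ℕ) : ℤ) = 1 := by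
        have h3 : Nat.Coprime 3 (2 ^ n) := Nat.Coprime.pow_right n (by decide)
        exact_mod_cast h3
      have hb := Int.gcd_eq_gcd_ab (3 : ℤ) ((2 ^ n : ℕ) : ℤ)
      rw [hcop] at hb
      have e5 : m = (m ^ 3) ^ (Int.gcdA 3 ((2 ^ n : ℕ) : ℤ)) * (m ^ 2 ^ n) ^ (Int.gcdB 3 ((2 ^ n : ℕ) : ℤ)) := by
        have : m ^ (1 : ℤ) = m ^ ((3 : ℤ) * (Int.gcdA 3 ((2 ^ n : ℕ) : ℤ)) +
            ((2 ^ n : ℕ) : ℤ) * (Int.gcdB 3 ((2 ^ n : ℕ) : ℤ))) := by
          rw [← hb]; norm_num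
        rw [zpow_one, zpow_add, zpow_mul, zpow_mul] at this
        exact_mod_cast this
      rw [e5, hm2, one_zpow, mul_one]
      exact zpow_mem hm3 _
    exact mul_mem hq hmQ
  have h2 : ∀ x ∈ P, x⁻¹ * d * x ∈ J := by
    intro x hx
    have : x⁻¹ * d * x = (x⁻¹ * (d * x * d⁻¹)) * d := by group
    rw [this]
    exact mul_mem (D.sl.Qle (h1 x hx)) D.sl.hd
  -- the elements of `J` with all conjugates in `J`
  let S : Subgroup H :=
    { carrier := {g | g ∈ J ∧ ∀ x ∈ P, x⁻¹ * g * x ∈ J}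
      one_mem' := ⟨one_mem _, fun x _ => by simpa using one_mem J⟩
      mul_mem' := by
        rintro a b ⟨ha, ha'⟩ ⟨hb, hb'⟩
        refine ⟨mul_mem ha hb, fun x hx => ?_⟩
        have : x⁻¹ * (a * b) * x = (x⁻¹ * a * x) * (x⁻¹ * b * x) := by group
        rw [this]; exact mul_mem (ha' x hx) (hb' x hx)
      inv_mem' := by
        rintro a ⟨ha, ha'⟩
        refine ⟨inv_mem ha, fun x hx => ?_⟩
        have : x⁻¹ * a⁻¹ * x = (x⁻¹ * a * x)⁻¹ := by group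
        rw [this]; exact inv_mem (ha' x hx) }
  have hSc : ∀ g ∈ J, ∀ a ∈ S, g * a * g⁻¹ ∈ S := by
    rintro g hg a ⟨ha, ha'⟩
    refine ⟨mul_mem (mul_mem hg ha) (inv_mem hg), fun x hx => ?_⟩
    have h3 := ha' (g⁻¹ * x * g⁻¹⁻¹) (D.sP hx g⁻¹)
    have : x⁻¹ * (g * a * g⁻¹) * x = g * ((g⁻¹ * x * g⁻¹⁻¹)⁻¹ * a * (g⁻¹ * x * g⁻¹⁻¹)) * g⁻¹ := by group
    rw [this]
    exact mul_mem (mul_mem hg h3) (inv_mem hg)
  have hdS : d ∈ S := ⟨D.sl.hd, h2⟩
  have hJS : J ≤ S := by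
    have h3 : d * (i * d⁻¹ * i⁻¹) ∈ S := mul_mem hdS (hSc i D.sl.hi _ (inv_mem hdS))
    have h4 : d * (i * d⁻¹ * i⁻¹) = i * j := by
      have h5 : d * (i * d⁻¹ * i⁻¹) = (d * i * d⁻¹) * i⁻¹ := by group
      rw [h5, D.sl.di, D.sl.q.i_inv, ← mul_assoc, D.sl.q.jz, mul_assoc, D.sl.q.ji, ← mul_assoc, D.sl.q.z2, one_mul]
    rw [h4] at h3
    have h6 : i ∈ S := by
      have h7 := mul_mem (mul_mem hdS h3) (inv_mem hdS)
      rwa [D.sl.dij] at h7
    intro x hx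
    rw [D.sl.gen] at hx
    have h8 : closure ({i, d} : Set H) ≤ S := by
      rw [closure_le]
      rintro y (rfl | rfl)
      · exact h6
      · exact hdS
    exact h8 hx
  intro x hx
  rw [mem_normalizer_iff]
  intro g
  constructor
  · intro hg
    have := (hJS hg).2 x⁻¹ (inv_mem hx)
    simp only [inv_inv] at this
    exact this
  · intro hg
    have := (hJS hg).2 x hx
    have e : x⁻¹ * (x * g * x⁻¹) * x = g := by group
    rwa [e] at this

/-- elements of `J` in `Z` -/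
theorem JZ {y : H} (hy : y ∈ J) (hyZ : y ∈ Z) : y = 1 ∨ y = z := by
  have h1 := D.JP hy (D.ZP hyZ)
  exact D.sl.q.central h1 (D.zc hyZ (D.QY (SLThree.Qt.mem_i z i j))) (D.zc hyZ (D.QY (SLThree.Qt.mem_j z i j)))

theorem QU : closure {i, j} ≤ U P d := by
  -- `z i j ∈ U`
  have h1 := D.mem_U D.iP
  rw [D.sl.di, D.sl.q.i_inv] at h1
  have h2 := D.conj_d h1
  have e2 : d * (z * i * j) * d⁻¹ = z * i := by
    have : d * (z * i * j) * d⁻¹ = (d * z * d⁻¹) * (d * (i * j) * d⁻¹) := by group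
    rw [this, D.sl.dij, D.sl.dz]; group
  rw [e2] at h2
  have hz : z ∈ U P d := by
    have h3 := mul_mem h2 h2
    have e3 : z * i * (z * i) = z := by
      calc z * i * (z * i) = z * (i * z) * i := by group
        _ = (z * z) * (i * i) := by rw [D.sl.q.iz]; group
        _ = z := by rw [D.sl.q.z2, D.sl.q.i2, one_mul]
    rwa [e3] at h3
  have hi : i ∈ U P d := by
    have h4 := mul_mem hz h2
    rwa [← mul_assoc, D.sl.q.z2, one_mul] at h4
  rw [closure_le]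
  rintro x (rfl | rfl)
  · exact hi
  · have := D.conj_d hi
    rwa [D.sl.di] at this

theorem zZ : z ∈ Z := by
  rw [← D.sl.q.i2]
  exact D.sqU (D.QU (SLThree.Qt.mem_i z i j))

/-- `κ(x, y) = x y x⁻¹ y⁻¹` on `U` is central, bilinear, of exponent 2 -/
theorem kap_mul {x x' y : H} (hx : x ∈ U P d) (hx' : x' ∈ U P d) (hy : y ∈ U P d) :
    (x * x') * y * (x * x')⁻¹ * y⁻¹ = (x * y * x⁻¹ * y⁻¹) * (x' * y * x'⁻¹ * y⁻¹) := by
  have h1 := D.comU hx' hy
  have h2 := D.zU h1 hx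
  calc (x * x') * y * (x * x')⁻¹ * y⁻¹ = x * (x' * y * x'⁻¹ * y⁻¹) * y * x⁻¹ * y⁻¹ := by group
    _ = (x' * y * x'⁻¹ * y⁻¹) * (x * y * x⁻¹ * y⁻¹) := by rw [← h2]; group
    _ = (x * y * x⁻¹ * y⁻¹) * (x' * y * x'⁻¹ * y⁻¹) := D.zc h1 (D.ZY (D.comU hx hy))

theorem kap_sq {x y : H} (hx : x ∈ U P d) (hy : y ∈ U P d) :
    (x * y * x⁻¹ * y⁻¹) * (x * y * x⁻¹ * y⁻¹) = 1 := by
  rw [← D.kap_mul hx hx hy]
  have h1 := D.zU (D.sqU hx) hy
  rw [h1]; group

theorem kap_inv {x y : H} (hx : x ∈ U P d) (hy : y ∈ U P d) :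
    x⁻¹ * y * x⁻¹⁻¹ * y⁻¹ = x * y * x⁻¹ * y⁻¹ := by
  have h1 := D.kap_mul (inv_mem hx) hx hy
  have h2 : (x⁻¹ * x) * y * (x⁻¹ * x)⁻¹ * y⁻¹ = 1 := by group
  rw [h2] at h1
  have h3 := D.kap_sq hx hy
  have h4 : (x⁻¹ * y * x⁻¹⁻¹ * y⁻¹) * (x * y * x⁻¹ * y⁻¹) = (x * y * x⁻¹ * y⁻¹) * (x * y * x⁻¹ * y⁻¹) := by
    rw [h3, ← h1]
  exact mul_right_cancel h4

theorem kap_swap {x y : H} (hx : x ∈ U P d) (hy : y ∈ U P d) :
    y * x * y⁻¹ * x⁻¹ = x * y * x⁻¹ * y⁻¹ := by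
  have h3 := D.kap_sq hx hy
  have h4 : (y * x * y⁻¹ * x⁻¹) * (x * y * x⁻¹ * y⁻¹) = (x * y * x⁻¹ * y⁻¹) * (x * y * x⁻¹ * y⁻¹) := by
    rw [h3]; group
  exact mul_right_cancel h4

theorem kap_mul_right {x y y' : H} (hx : x ∈ U P d) (hy : y ∈ U P d) (hy' : y' ∈ U P d) :
    x * (y * y') * x⁻¹ * (y * y')⁻¹ = (x * y * x⁻¹ * y⁻¹) * (x * y' * x⁻¹ * y'⁻¹) := by
  rw [← D.kap_swap hx (mul_mem hy hy'), D.kap_mul hy hy' hx, D.kap_swap hx hy, D.kap_swap hx hy']

theorem kap_inv_right {x y : H} (hx : x ∈ U P d) (hy : y ∈ U P d) :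
    x * y⁻¹ * x⁻¹ * y⁻¹⁻¹ = x * y * x⁻¹ * y⁻¹ := by
  rw [← D.kap_swap hx (inv_mem hy), D.kap_inv hy hx, D.kap_swap hx hy]

/-- an element of `O₂(J)` and its conjugate under `d` -/
theorem kap_Q {q : H} (hq : q ∈ closure ({i, j} : Set H)) (hqZ : q ∉ Z) :
    q * (d * q * d⁻¹) * q⁻¹ * (d * q * d⁻¹)⁻¹ = z := by
  haveI := D.ZN
  have hq1 := D.sl.conj_mem hq
  have hqJ := D.sl.Qle hq
  have h1 := D.comU (D.QU hq) (D.QU hq1)
  rcases D.JZ (mul_mem (mul_mem (mul_mem hqJ (D.sl.Qle hq1)) (inv_mem hqJ)) (inv_mem (D.sl.Qle hq1))) h1 with h2 | h2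
  · exfalso
    rw [mul_inv_eq_one, mul_inv_eq_iff_eq_mul] at h2
    have hqq : q * q = z := by
      rcases D.sl.q.sq hq with h3 | h3
      · exfalso
        rcases D.sl.q.sq_cases hq h3 with rfl | rfl
        · exact hqZ (one_mem _)
        · exact hqZ D.zZ
      · exact h3
    have hqq1 : (d * q * d⁻¹) * (d * q * d⁻¹) = z := by
      have : (d * q * d⁻¹) * (d * q * d⁻¹) = d * (q * q) * d⁻¹ := by group
      rw [this, hqq, D.sl.dz]; group
    rcases D.sl.q.eq_or hq hq1 hqq hqq1 h2 with h3 | h3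
    · -- `d` centralises `q`
      have h4 : q ∈ Z := by
        have h5 := D.nrm D.ZN (D.QU hq)
        rw [h3, h3] at h5
        have h6 := D.pi_sq D.ZN (D.QU hq)
        rw [h6, one_mul] at h5
        exact (D.pi_eq D.ZN).1 h5
      exact hqZ h4
    · have h4 : q ∈ Z := by
        have h5 := D.nrm D.ZN (D.QU hq)
        have h7 : d * (z * q) * d⁻¹ = q := by
          have : d * (z * q) * d⁻¹ = (d * z * d⁻¹) * (d * q * d⁻¹) := by group
          rw [this, h3, D.sl.dz]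
          calc z * d * d⁻¹ * (z * q) = (z * z) * q := by group
            _ = q := by rw [D.sl.q.z2, one_mul]
        rw [h3, h7] at h5
        have h6 := D.pi_sq D.ZN (D.QU hq)
        have h8 := (D.pi_eq D.ZN).2 D.zZ
        rw [map_mul, h8, one_mul, h6, one_mul] at h5
        exact (D.pi_eq D.ZN).1 h5
      exact hqZ h4
  · exact h2

/-- case 2 -/
theorem exists_w {u : H} (hu : u ∈ U P d) (hut : u⁻¹ * (t * u * t) ∉ Z) :
    ∃ w ∈ Z, w * w = 1 ∧ w * t * w⁻¹ = z * t := by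
  obtain ⟨q, hq, m, hm, e⟩ := D.diff hu
  have hqZ : q ∉ Z := by
    intro h
    exact hut (e ▸ mul_mem h hm)
  have hk := D.kap_Q hq hqZ
  have hqU := D.QU hq
  have hq1 := D.sl.conj_mem hq
  have hq1U := D.QU hq1
  have su := D.conj_d hu
  have tu := D.conj_t hu
  have tsu := D.conj_t su
  have hdt : d * t = t * d := D.dt
  have hdt' : t * d⁻¹ = d⁻¹ * t := ((show Commute t d from hdt.symm).inv_right).eq
  -- the second difference
  have e' : (d * u * d⁻¹)⁻¹ * (t * (d * u * d⁻¹) * t) = (d * q * d⁻¹) * m := by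
    calc (d * u * d⁻¹)⁻¹ * (t * (d * u * d⁻¹) * t) = (d * u * d⁻¹)⁻¹ * ((t * d) * u * (d⁻¹ * t)) := by group
      _ = d * (u⁻¹ * (t * u * t)) * d⁻¹ := by rw [← hdt, ← hdt']; group
      _ = (d * q * d⁻¹) * (d * m * d⁻¹) := by rw [e]; group
      _ = (d * q * d⁻¹) * m := by rw [D.dm hm]
  generalize d * u * d⁻¹ = v at *
  generalize hqd : d * q * d⁻¹ = q1 at *
  set ut := t * u * t with hut'
  set vt := t * v * t with hvt'
  -- `κ(a, a') = κ(q, q1) = z`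
  have k1 : (u⁻¹ * ut) * (v⁻¹ * vt) * (u⁻¹ * ut)⁻¹ * (v⁻¹ * vt)⁻¹ = z := by
    rw [e, e', ← hk]
    have c1 := D.zU hm hqU
    have c2 := D.zU hm hq1U
    calc q * m * (q1 * m) * (q * m)⁻¹ * (q1 * m)⁻¹ = q * (m * q1) * q⁻¹ * (q1 * m)⁻¹ := by group
      _ = q * q1 * (m * q⁻¹) * m⁻¹ * q1⁻¹ := by rw [c2]; group
      _ = q * q1 * q⁻¹ * q1⁻¹ := by
        have : m * q⁻¹ = q⁻¹ * m := ((show Commute m q from c1).inv_right).eq
        rw [this]; group
  have k2 : (u⁻¹ * ut) * (v⁻¹ * vt) * (u⁻¹ * ut)⁻¹ * (v⁻¹ * vt)⁻¹ =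
      ((u * v * u⁻¹ * v⁻¹) * (u * vt * u⁻¹ * vt⁻¹)) * ((ut * v * ut⁻¹ * v⁻¹) * (ut * vt * ut⁻¹ * vt⁻¹)) := by
    rw [D.kap_mul (inv_mem hu) tu (mul_mem (inv_mem su) tsu), D.kap_mul_right (inv_mem hu) (inv_mem su) tsu,
      D.kap_mul_right tu (inv_mem su) tsu, D.kap_inv_right (inv_mem hu) su, D.kap_inv_right tu su,
      D.kap_inv hu su, D.kap_inv hu tsu]
  rw [k1] at k2
  set r := u * v * u⁻¹ * v⁻¹ with hr
  set r' := u * vt * u⁻¹ * vt⁻¹ with hr'
  have hrZ : r ∈ Z := D.comU hu su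
  have hrZ' : r' ∈ Z := D.comU hu tsu
  have tt := D.tt
  have ti := D.t_inv
  have e1 : t * r * t = ut * vt * ut⁻¹ * vt⁻¹ := by
    have h1 : (t * u * t)⁻¹ = t * u⁻¹ * t := by rw [mul_inv_rev, mul_inv_rev, ti, mul_assoc]
    have h2 : (t * v * t)⁻¹ = t * v⁻¹ * t := by rw [mul_inv_rev, mul_inv_rev, ti, mul_assoc]
    rw [hut', hvt', h1, h2, hr]
    calc t * (u * v * u⁻¹ * v⁻¹) * t = t * u * 1 * v * 1 * u⁻¹ * 1 * v⁻¹ * t := by group
      _ = t * u * (t * t) * v * (t * t) * u⁻¹ * (t * t) * v⁻¹ * t := by rw [tt]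
      _ = _ := by group
  have e2 : t * r' * t = ut * v * ut⁻¹ * v⁻¹ := by
    have h1 : (t * u * t)⁻¹ = t * u⁻¹ * t := by rw [mul_inv_rev, mul_inv_rev, ti, mul_assoc]
    have h2 : (t * v * t)⁻¹ = t * v⁻¹ * t := by rw [mul_inv_rev, mul_inv_rev, ti, mul_assoc]
    rw [hr', hut', hvt', h1, h2]
    calc t * (u * (t * v * t) * u⁻¹ * (t * v⁻¹ * t)) * t = t * u * t * v * t * u⁻¹ * t * v⁻¹ * (t * t) := by group
      _ = t * u * t * v * (t * u⁻¹ * t) * v⁻¹ := by rw [tt]; group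
      _ = _ := by group
  have hw2 : (r * r') * (r * r') = 1 := by
    have c1 := D.zc hrZ (D.ZY hrZ')
    have s1 : r * r = 1 := D.kap_sq hu su
    have s2 : r' * r' = 1 := D.kap_sq hu tsu
    calc (r * r') * (r * r') = r * (r' * r) * r' := by group
      _ = (r * r) * (r' * r') := by rw [← c1]; group
      _ = 1 := by rw [s1, s2, one_mul]
  refine ⟨r * r', mul_mem hrZ hrZ', hw2, ?_⟩
  have e3 : z = (r * r') * (t * (r * r') * t) := by
    rw [k2, ← e1, ← e2]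
    have c2 : (t * r' * t) * (t * r * t) = t * (r * r') * t := by
      calc (t * r' * t) * (t * r * t) = t * r' * (t * t) * r * t := by group
        _ = t * (r' * r) * t := by rw [tt]; group
        _ = t * (r * r') * t := by rw [D.zc hrZ (D.ZY hrZ')]
    rw [c2]
  have e4 : (r * r')⁻¹ = r * r' := inv_eq_of_mul_eq_one_right hw2
  rw [e4, e3]
  calc (r * r') * t * (r * r') = (r * r') * t * (r * r') * 1 := by group
    _ = (r * r') * t * (r * r') * (t * t) := by rw [tt]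
    _ = _ := by group

/-- elements of `Z` commute with `J` -/
theorem ZJ {w y : H} (hw : w ∈ Z) (hy : y ∈ J) : w * y = y * w := by
  have h1 : J ≤ centralizer ({w} : Set H) := by
    rw [D.sl.gen, closure_le]
    rintro x (rfl | rfl)
    · exact mem_centralizer_singleton_iff.2 (D.zc hw (D.QY (SLThree.Qt.mem_i z _ j))).symm
    · exact mem_centralizer_singleton_iff.2 (D.dZ hw)
  exact (mem_centralizer_singleton_iff.1 (h1 hy)).symm

end Dat

/-- **LEMMA P** -/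
theorem main [Finite H] {P J : Subgroup H} {t z : H} [P.Normal] (hP : IsPGroup 2 P) (hJ : IsPr J z)
    (hs : Sn J (centralizer ({t} : Set H))) (ht : t * t = 1) (hQ : ∀ y ∈ J, y * y = z → y ∈ P) :
    P ≤ normalizer (J : Set H) ∨
    ∃ Z : Subgroup H, Z.Normal ∧ Z ≤ P ∧ (Z.subgroupOf P).Characteristic ∧ (∀ x ∈ Z, ∀ y ∈ Z, x * y = y * x) ∧
      (∀ x ∈ Z, ∀ y ∈ J, x * y = y * x) ∧ z ∈ Z ∧ ∃ w ∈ Z, w * w = 1 ∧ w * t * w⁻¹ = z * t := by
  obtain ⟨Y, Z, h1, h2, h3, -, h4, h5, h6, h7, h8⟩ := exists_crit hP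
  obtain ⟨i, j, d, hl⟩ := hJ.sl
  have D : Dat P Y Z J t z i j d :=
    ⟨inferInstance, hP, h1, h2, h3, h5, h6, h7, h8, hl, hJ.t3, hs, ht, hQ i hl.hi hl.q.i2⟩
  by_cases hall : ∀ u ∈ U P d, u⁻¹ * (t * u * t) ∈ Z
  · exact Or.inl (D.le_normalizer_of hall)
  · right
    push Not at hall
    obtain ⟨u, hu, hu'⟩ := hall
    obtain ⟨w, hw, hw1, hw2⟩ := D.exists_w hu hu'
    exact ⟨Z, h3, D.ZP, h4, fun x hx y hy => D.zc hx (D.ZY hy), fun x hx y hy => D.ZJ hx hy, D.zZ, w, hw, hw1, hw2⟩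

end Cfsg.Agent.OddHalf.NI3.LemP
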