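import Cfsg.Agent.OddHalf.NI3.Step

/-!
# THEOREM X(3): subnormal `SL₂(3)`'s; THEOREM T modulo `O(C(x))`

* `cm_of_ne` : subnormal `SL₂(3)`'s with distinct central involutions commute, if `O(X) = 1`;
* `core_mod` : `O(C(x)) ≤ O(X)`, if `x ∈ J ≅ SL₂(3)` and `J O(C(x))` is subnormal in `C(x)`.
-/

set_option autoImplicit false
set_option linter.style.haveILetI false
set_option linter.unusedSectionVars false

namespace Cfsg.Agent.OddHalf.NI3

open Subgroup Cfsg Cfsg.Agent.Cit Cfsg.Agent.Cit.SolvTwo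

universe u

section

variable {X : Type*} [Group X]

theorem Sn.sup_normal {J C N : Subgroup X} (hs : Sn J C) (hN : N ≤ C) (hn : C ≤ normalizer (N : Set X)) :
    Sn (J ⊔ N) C := by
  refine ⟨sup_le hs.1 hN, ?_⟩
  haveI : (N.subgroupOf C).Normal := (normal_subgroupOf_iff_le_normalizer hN).2 hn
  have h1 := (hs.2.map (QuotientGroup.mk'_surjective (N.subgroupOf C))).comap (QuotientGroup.mk' (N.subgroupOf C))
  rw [comap_map_eq, QuotientGroup.ker_mk'] at h1
  rwa [subgroupOf_sup hs.1 hN]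

/-- the involution of `J` -/
theorem IsPr.inv_eq {J : Subgroup X} {z : X} (h : IsPr J z) {y : X} (hy : y ∈ J) (h2 : y * y = 1) :
    y = 1 ∨ y = z := by
  rcases h.t3.cases y hy with h5 | h5 | h5 | h5 | h5
  · exact absurd (h5.symm.trans h2) h.t3.z_ne
  · exact Or.inl h5
  · exact Or.inr h5
  · left; rwa [h2, one_mul] at h5
  · right; rwa [h2, one_mul] at h5

theorem IsPr.isSl {J : Subgroup X} {z : X} (h : IsPr J z) : SLThree.IsSl J z := h.sl

variable [Finite X]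

/-- the elements of order 4 of a subnormal `SL₂(3)` lie in `O₂(X)` -/
theorem IsPr.mem_pCore {J : Subgroup X} {z : X} (h : IsPr J z) (s : J.IsSubnormal) {y : X} (hy : y ∈ J)
    (hyz : y * y = z) : y ∈ pCore 2 X := by
  obtain ⟨i, j, d, hl⟩ := h.sl
  haveI : (pCore 2 X).Normal := Lib.Cores.pCore_normal 2
  have h1 : i ∈ pCore 2 X := hl.Q_le_pCore s (subset_closure (by simp))
  obtain ⟨g, hg, hgy⟩ := h.t3.conj i hl.hi y hy hl.q.i2 hyz
  rw [← hgy]
  exact this.conj_mem i h1 g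

/-- `O₂(X)` normalises a subnormal `SL₂(3)` -/
theorem IsPr.conj_mem {J : Subgroup X} {z : X} (h : IsPr J z) (s : J.IsSubnormal) {w : X} (hw : w ∈ pCore 2 X)
    {g : X} (hg : g ∈ J) : w * g * w⁻¹ ∈ J := by
  have hn : (pCore 2 X).Normal := Lib.Cores.pCore_normal 2
  have h1 : J ≤ J.comap (MulAut.conj w).toMonoidHom := by
    refine h.le_of_cube fun v hv h3 => ?_
    show w * v * w⁻¹ ∈ J
    refine mem_of_sup (J := J) (P := pCore 2 X) (Sn.of_isSubnormal s le_sup_left) (Lib.Cores.pCore_isPGroup 2)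
      (by rw [normalizer_eq_top_iff.2 hn]; exact le_top) ?_ ?_
    · exact mul_mem (mul_mem (mem_sup_right hw) (mem_sup_left hv)) (inv_mem (mem_sup_right hw))
    · have h4 : orderOf (w * v * w⁻¹) = orderOf v := by
        have := orderOf_injective (MulAut.conj w).toMonoidHom (MulAut.conj w).injective v
        simpa using this
      rw [h4]; exact odd_of_cube h3
  exact h1 hg

/-- subnormal `SL₂(3)`'s with distinct central involutions commute -/
theorem cm_of_ne (hO : pPrimeCore 2 X = ⊥) {z₁ z₂ : X} (hz₁ : ∀ x : X, x * z₁ = z₁ * x)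
    (hz₂ : ∀ x : X, x * z₂ = z₂ * x) (hne : z₁ ≠ z₂) {J₁ J₂ : Subgroup X} (h₁ : IsPr J₁ z₁) (h₂ : IsPr J₂ z₂)
    (s₁ : J₁.IsSubnormal) (s₂ : J₂.IsSubnormal) : ∀ a ∈ J₁, ∀ b ∈ J₂, a * b = b * a := by
  have hn : (pCore 2 X).Normal := Lib.Cores.pCore_normal 2
  have hJ : J₁ ≤ normalizer (J₂ : Set X) := by
    intro g hg
    rw [mem_normalizer_iff_cj]
    have h2 : SLThree.IsSl (Cit.cj g J₂) z₂ := by
      have h3 := h₂.isSl.cj g
      rwa [hz₂ g, mul_inv_cancel_right] at h3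
    have s2 : (Cit.cj g J₂).IsSubnormal := s₂.map (f := (MulAut.conj g).toMonoidHom) (MulAut.conj g).surjective
    rcases SLThree.eq_or_cm hO hz₂ h₂.isSl h2 s₂ s2 with h3 | h3
    · exact h3.symm
    exfalso
    obtain ⟨a, ha, b, hb, haz, hbz, hab⟩ := h₂.t3.ex4
    have ha' : g * a * g⁻¹ ∈ Cit.cj g J₂ := conj_mem_cj ha
    have e1 : a * (g * a * g⁻¹) = (g * a * g⁻¹) * a := h3 a ha _ ha'
    have e2 : b * (g * a * g⁻¹) = (g * a * g⁻¹) * b := h3 b hb _ ha'
    have haP : a ∈ pCore 2 X := h₂.mem_pCore s₂ ha haz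
    set c := g * a * g⁻¹ * a⁻¹ with hc
    have hcJ : c ∈ J₁ := by
      have h4 := h₁.conj_mem s₁ haP (inv_mem hg)
      have h5 := mul_mem hg h4
      have e : g * (a * g⁻¹ * a⁻¹) = c := by rw [hc]; group
      rwa [e] at h5
    have hc2 : c * c = 1 := by
      have h4 : (g * a * g⁻¹) * (g * a * g⁻¹) = z₂ := by
        calc (g * a * g⁻¹) * (g * a * g⁻¹) = g * (a * a) * g⁻¹ := by group
          _ = z₂ := by rw [haz, hz₂ g, mul_inv_cancel_right]
      have h5 : a⁻¹ * (g * a * g⁻¹) = (g * a * g⁻¹) * a⁻¹ := (show Commute a (g * a * g⁻¹) from e1).inv_left.eq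
      calc c * c = (g * a * g⁻¹) * (a⁻¹ * (g * a * g⁻¹)) * a⁻¹ := by rw [hc]; group
        _ = ((g * a * g⁻¹) * (g * a * g⁻¹)) * (a * a)⁻¹ := by rw [h5]; group
        _ = 1 := by rw [h4, haz, mul_inv_cancel]
    have hcc : ∀ x : X, x * c = c * x := by
      rcases h₁.inv_eq hcJ hc2 with h4 | h4
      · rw [h4]; intro x; simp
      · rw [h4]; exact hz₁
    apply hab
    have h6 : g * a * g⁻¹ = c * a := by rw [hc]; group
    rw [h6] at e2
    have h7 : c * (a * b) = c * (b * a) := by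
      calc c * (a * b) = c * a * b := by group
        _ = b * (c * a) := e2.symm
        _ = (b * c) * a := by group
        _ = c * (b * a) := by rw [hcc b]; group
    exact mul_left_cancel h7
  have hcen : J₁ ≤ centralizer (J₂ : Set X) := by
    refine h₁.le_of_cube fun v hv h3 => ?_
    rw [mem_centralizer_iff]
    intro b hb
    refine (comm_subnormal hO h₁ s₁ s₂ hJ ?_ hv h3 b hb).symm
    intro h4
    obtain ⟨a, ha, b', hb', haz, hbz, hab⟩ := h₁.t3.ex4
    have h5 : z₁ ∈ J₂ := by rw [← haz]; exact mul_mem (h4 a ha haz) (h4 a ha haz)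
    rcases h₂.inv_eq h5 h₁.t3.z_sq with h6 | h6
    · exact h₁.t3.z_ne h6
    · exact hne h6
  intro a ha b hb
  exact (mem_centralizer_iff.1 (hcen ha) b hb).symm

end

/-! ### THEOREM T modulo `O(C(x))` -/

section

variable {X : Type u} [Group X] [Finite X] {x : X} {J : Subgroup X}

theorem isPr_quot {J : Subgroup X} (h : IsPr J x) {J₁ : Subgroup X} (hJ : J ≤ J₁)
    (h1 : J₁ ≤ J ⊔ OO J₁) : Nonempty ((↥J₁ ⧸ oddCore ↥J₁) ≃* SL23) := by
  haveI : (oddCore ↥J₁).Normal := Lib.Cores.pPrimeCore_normal 2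
  have h2 := h.subgroupOf hJ
  have hz : (QuotientGroup.mk' (oddCore ↥J₁)) ⟨x, hJ h.mem⟩ ≠ 1 := by
    intro h1
    have h2 : (⟨x, hJ h.mem⟩ : J₁) ∈ oddCore ↥J₁ := (QuotientGroup.eq_one_iff _).1 h1
    have h3 : orderOf (⟨x, hJ h.mem⟩ : J₁) ∣ Nat.card (oddCore ↥J₁) := by
      have h4 := _root_.orderOf_dvd_natCard (⟨⟨x, hJ h.mem⟩, h2⟩ : oddCore ↥J₁)
      rwa [Subgroup.orderOf_mk] at h4
    rw [Subgroup.orderOf_mk, h.ord] at h3
    exact not_two_dvd_oddCore ↥J₁ h3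
  have h3 := h2.map _ hz
  have h4 : (J.subgroupOf J₁).map (QuotientGroup.mk' (oddCore ↥J₁)) = ⊤ := by
    rw [eq_top_iff]
    rintro y -
    obtain ⟨g, rfl⟩ := QuotientGroup.mk'_surjective _ y
    have hg : (g : X) ∈ J ⊔ OO J₁ := h1 g.2
    have hgn : J ≤ normalizer (OO J₁ : Set X) := hJ.trans (le_normalizer_OO J₁)
    rw [← SetLike.mem_coe, Subgroup.coe_mul_of_left_le_normalizer_right _ _ hgn, Set.mem_mul] at hg
    obtain ⟨a, ha, o, ho, hao⟩ := hg
    obtain ⟨o', ho', rfl⟩ := ho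
    refine ⟨⟨a, hJ ha⟩, ha, ?_⟩
    have e : g = ⟨a, hJ ha⟩ * o' := Subtype.ext hao.symm
    rw [e, map_mul]
    have : (QuotientGroup.mk' (oddCore ↥J₁)) o' = 1 := (QuotientGroup.eq_one_iff _).2 ho'
    rw [this, mul_one]
  rw [h4] at h3
  obtain ⟨e⟩ := h3.iso
  exact ⟨Subgroup.topEquiv.symm.trans e⟩

/-- (TC) modulo `O(C(x))` -/
theorem core_mod (hT : TStmt.{u}) (h : IsPr J x)
    (hs : Sn (J ⊔ OO (centralizer ({x} : Set X))) (centralizer ({x} : Set X))) :
    OO (centralizer ({x} : Set X)) ≤ pPrimeCore 2 X := by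
  set C := centralizer ({x} : Set X) with hC
  set J₁ := J ⊔ OO C with hJ₁
  have hO1 : OO C ≤ OO J₁ := le_OO le_sup_right (hs.1.trans (le_normalizer_OO _)) (odd_OO _)
  have hq : Nonempty ((↥J₁ ⧸ oddCore ↥J₁) ≃* SL23) :=
    isPr_quot h le_sup_left (sup_le le_sup_left (hO1.trans le_sup_right))
  obtain ⟨h1, h2, h3⟩ := SLThreeMain.exists_hyp (F := ZMod 3) x h.ord J₁ hs.1 (mem_sup_left h.mem) hs.2
    (by simp [ZMod.card]) hq
  have hJJ : J₁ ⊔ OO C = J₁ := sup_eq_left.2 le_sup_right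
  rw [← hC, hJJ] at h1 h2 h3
  have hty : ∀ K ∈ cls J₁, Ty K := by
    rintro K ⟨g, rfl⟩
    exact Or.inl ((RdOm.isT_cj g).2 h3)
  have h4 : TT (cls J₁) := hT X _ h1 hty (uni_cls _)
  haveI : (pPrimeCore 2 X).Normal := Lib.Cores.pPrimeCore_normal 2
  have h5 := h4.core _ ⟨J₁, self_mem_cls _, rfl⟩
  have h6 : (OO J₁).map (QuotientGroup.mk' (pPrimeCore 2 X)) = ⊥ := by
    rw [eq_bot_iff, ← h5]; exact map_OO_le _ _
  have h7 := (Subgroup.map_eq_bot_iff _).1 h6
  rw [QuotientGroup.ker_mk'] at h7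
  exact hO1.trans h7

end

end Cfsg.Agent.OddHalf.NI3
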