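import Cfsg.Agent.OddHalf.NI3.Sn
import Cfsg.Agent.LieClassical.Order72
import Cfsg.Agent.Cit.RdOm

/-!
# Node NI over `F₃`: THEOREM T for a classical pair `(x, J)`, `J ≅ SL₂(3)`, of an arbitrary finite group

`IsPr J z` : `J ≅ SL₂(3)` with involution `z`. `Cl x J` : `(x, J)` is a classical pair (`J` subnormal in `C(x)`).
* `Cl.core` : `O(C(x)) ≤ O(X)`;
* `Cl.pieces` : if `O(X) = 1`, the class of `J` has pieces, `Hyp (cls J)`;
* `Cl.fix` : (F) an odd element normalising the quasisimple group `D ≥ J` and centralising `C_D(x)` centralises `D`.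
-/

set_option autoImplicit false
set_option linter.style.haveILetI false
set_option linter.unusedSectionVars false

namespace Cfsg.Agent.OddHalf.NI3

open Subgroup Cfsg Cfsg.Agent.Cit Cfsg.Agent.Cit.SolvTwo

universe u

section

variable {G G' : Type*} [Group G] [Group G']

/-- `J ≅ SL₂(3)` with involution `z` -/
structure IsPr (J : Subgroup G) (z : G) : Prop where
  iso : Nonempty (↥J ≃* SL23)
  ord : orderOf z = 2
  mem : z ∈ J

theorem zX_eq : (zX : SolvTwo.X) = -1 := by decide +kernel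

theorem IsPr.t3 {J : Subgroup G} {z : G} (h : IsPr J z) : T3 J z := by
  obtain ⟨e⟩ := h.iso
  have h1 := T3.of_equiv e
  have h2 : z * z = 1 := by rw [← pow_two, ← h.ord, pow_orderOf_eq_one]
  have h3 : z ≠ 1 := by rintro rfl; have := h.ord; rw [orderOf_one] at this; omega
  have h4 : z = ((e.symm zX : J) : G) := by
    rcases h1.cases z h.mem with h5 | h5 | h5 | h5 | h5
    · exact absurd (h5.symm.trans h2) h1.z_ne
    · exact absurd h5 h3
    · exact h5
    · rw [h2, one_mul] at h5; exact absurd h5 h3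
    · rw [h2, one_mul] at h5; exact h5
  rw [h4]; exact h1

theorem IsPr.sl {J : Subgroup G} {z : G} (h : IsPr J z) : ∃ i j d, SLThree.Sl J z i j d := by
  obtain ⟨e⟩ := h.iso
  let φ : SL23 →* G := J.subtype.comp e.symm.toMonoidHom
  have hφ : Function.Injective φ := J.subtype_injective.comp e.symm.injective
  have hneg : φ (-1) ≠ 1 := by
    intro h1
    have : (-1 : SL23) = 1 := hφ (by rw [h1, map_one])
    revert this; decide +kernel
  have h1 := SLThreeMain.sl_top.map φ hneg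
  have hr : (⊤ : Subgroup SL23).map φ = J := by
    rw [← MonoidHom.range_eq_map]
    ext y
    constructor
    · rintro ⟨x, rfl⟩; exact (e.symm x).2
    · intro hy
      refine ⟨e ⟨y, hy⟩, ?_⟩
      show ((e.symm (e ⟨y, hy⟩) : J) : G) = y
      rw [e.symm_apply_apply]
  rw [hr] at h1
  have hz : φ (-1) = z := by
    have h2 : z * z = 1 := by rw [← pow_two, ← h.ord, pow_orderOf_eq_one]
    have h3 : z ≠ 1 := by rintro rfl; have := h.ord; rw [orderOf_one] at this; omega
    have h4 : (e ⟨z, h.mem⟩) * (e ⟨z, h.mem⟩) = 1 := by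
      rw [← map_mul, ← map_one e]; congr 1; exact Subtype.ext h2
    rcases SLThreeMain.sq_sl23 _ h4 with h5 | h5
    · exfalso; apply h3
      have h6 : (⟨z, h.mem⟩ : J) = 1 := e.injective (by rw [h5, map_one])
      exact congrArg Subtype.val h6
    · show ((e.symm (-1) : J) : G) = z
      rw [← h5, e.symm_apply_apply]
  rw [hz] at h1
  exact ⟨_, _, _, h1⟩

set_option maxRecDepth 100000 in
theorem X_comm : ∀ a : SolvTwo.X, a * a * a = 1 → a ≠ 1 → ∃ y : SolvTwo.X,
    (y * a * y⁻¹ * a⁻¹) * (y * a * y⁻¹ * a⁻¹) = -1 := by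
  decide +kernel

theorem IsPr.comm {J : Subgroup G} {z : G} (h : IsPr J z) {a : G} (ha : a ∈ J) (h3 : a * a * a = 1) (h1 : a ≠ 1) :
    ∃ y ∈ J, (y * a * y⁻¹ * a⁻¹) * (y * a * y⁻¹ * a⁻¹) = z := by
  obtain ⟨e⟩ := h.iso
  have hz : e ⟨z, h.mem⟩ = -1 := by
    have h2 : z * z = 1 := by rw [← pow_two, ← h.ord, pow_orderOf_eq_one]
    have h3 : z ≠ 1 := by rintro rfl; have := h.ord; rw [orderOf_one] at this; omega
    have h4 : (e ⟨z, h.mem⟩) * (e ⟨z, h.mem⟩) = 1 := by
      rw [← map_mul, ← map_one e]; congr 1; exact Subtype.ext h2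
    rcases SLThreeMain.sq_sl23 _ h4 with h5 | h5
    · exfalso; apply h3
      have h6 : (⟨z, h.mem⟩ : J) = 1 := e.injective (by rw [h5, map_one])
      exact congrArg Subtype.val h6
    · exact h5
  obtain ⟨y, hy⟩ := X_comm (e ⟨a, ha⟩) (by
      rw [← map_mul, ← map_mul, ← map_one e]; congr 1; exact Subtype.ext h3) (by
      intro h4
      apply h1
      have h6 : (⟨a, ha⟩ : J) = 1 := e.injective (by rw [h4, map_one])
      exact congrArg Subtype.val h6)
  refine ⟨(e.symm y : J), (e.symm y).2, ?_⟩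
  have h5 : (e.symm y * ⟨a, ha⟩ * (e.symm y)⁻¹ * (⟨a, ha⟩ : J)⁻¹) *
      (e.symm y * ⟨a, ha⟩ * (e.symm y)⁻¹ * (⟨a, ha⟩ : J)⁻¹) = ⟨z, h.mem⟩ := by
    apply e.injective
    simp only [map_mul, map_inv, e.apply_symm_apply]
    rw [hy, hz]
  exact congrArg Subtype.val h5

/-- a homomorphism which does not kill the involution is injective on `J` -/
theorem IsPr.inj {J : Subgroup G} {z : G} (h : IsPr J z) (f : G →* G') (hf : f z ≠ 1) {a : G} (ha : a ∈ J)
    (ha' : f a = 1) : a = 1 := by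
  have h3 := h.t3
  rcases h3.cases a ha with h5 | h5 | h5 | h5 | h5
  · exfalso; apply hf; rw [← h5, map_mul, ha', one_mul]
  · exact h5
  · exfalso; apply hf; rw [← h5]; exact ha'
  · by_contra hne
    obtain ⟨y, hy, hyz⟩ := h.comm ha h5 hne
    apply hf
    rw [← hyz]
    simp [ha']
  · exfalso; apply hf; rw [← h5, map_mul, map_mul, ha']; simp

theorem IsPr.map {J : Subgroup G} {z : G} (h : IsPr J z) (f : G →* G') (hf : f z ≠ 1) :
    IsPr (J.map f) (f z) := by
  have hinj : Function.Injective (f.subgroupMap J) := by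
    rw [injective_iff_map_eq_one]
    intro a ha
    exact Subtype.ext (h.inj f hf a.2 (congrArg Subtype.val ha))
  refine ⟨?_, ?_, ⟨z, h.mem, rfl⟩⟩
  · obtain ⟨e⟩ := h.iso
    exact ⟨(MulEquiv.ofBijective (f.subgroupMap J) ⟨hinj, f.subgroupMap_surjective J⟩).symm.trans e⟩
  · refine orderOf_eq_prime ?_ hf
    rw [← map_pow, ← h.ord, pow_orderOf_eq_one, map_one]

theorem IsPr.cj {J : Subgroup G} {z : G} (h : IsPr J z) (g : G) : IsPr (Cit.cj g J) (g * z * g⁻¹) := by
  refine h.map (MulAut.conj g).toMonoidHom ?_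
  intro h1
  have h2 : z = 1 := (MulAut.conj g).injective (by simpa using h1)
  have := h.ord
  rw [h2, orderOf_one] at this; omega

theorem IsPr.subgroupOf {J H : Subgroup G} {z : G} (h : IsPr J z) (hJ : J ≤ H) :
    IsPr (J.subgroupOf H) ⟨z, hJ h.mem⟩ := by
  obtain ⟨e⟩ := h.iso
  refine ⟨⟨(subgroupOfEquivOfLe hJ).trans e⟩, ?_, h.mem⟩
  rw [Subgroup.orderOf_mk]; exact h.ord

/-- the elements of order 3 generate `J` -/
theorem IsPr.le_of_cube {J S : Subgroup G} {z : G} (h : IsPr J z) (hS : ∀ v ∈ J, v * v * v = 1 → v ∈ S) : J ≤ S := by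
  obtain ⟨i, j, d, hl⟩ := h.sl
  have hd : d ∈ S := hS d hl.hd hl.d3
  have hdi : i * d⁻¹ * i⁻¹ ∈ S := by
    refine hS _ (mul_mem (mul_mem hl.hi (inv_mem hl.hd)) (inv_mem hl.hi)) ?_
    calc (i * d⁻¹ * i⁻¹) * (i * d⁻¹ * i⁻¹) * (i * d⁻¹ * i⁻¹) = i * (d * d * d)⁻¹ * i⁻¹ := by group
      _ = 1 := by rw [hl.d3]; group
  have h1 : d * (i * d⁻¹ * i⁻¹) = i * j := by
    have h2 : d * (i * d⁻¹ * i⁻¹) = (d * i * d⁻¹) * i⁻¹ := by group
    rw [h2, hl.di, hl.q.i_inv, ← mul_assoc, hl.q.jz, mul_assoc, hl.q.ji, ← mul_assoc, hl.q.z2, one_mul]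
  have h2 : i ∈ S := by
    have h3 := mul_mem (mul_mem hd (mul_mem hd hdi)) (inv_mem hd)
    rw [h1, hl.dij] at h3
    exact h3
  rw [hl.gen, closure_le]
  rintro x (rfl | rfl)
  · exact h2
  · exact hd

theorem IsPr.comm_z {J : Subgroup G} {z : G} (h : IsPr J z) {y : G} (hy : y ∈ J) : y * z = z * y := by
  obtain ⟨i, j, d, hl⟩ := h.sl
  exact hl.comm_z hy

theorem IsPr.solvable [Finite G] {J : Subgroup G} {z : G} (h : IsPr J z) : Group.IsSolvable ↥J := by
  obtain ⟨i, j, d, hl⟩ := h.sl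
  refine LieClassical.Order72.isSolvable_of_card_dvd ?_
  rw [hl.card]; norm_num

theorem IsPr.oddCore_eq_bot [Finite G] {J : Subgroup G} {z : G} (h : IsPr J z) : oddCore ↥J = ⊥ := by
  haveI : (oddCore ↥J).Normal := Lib.Cores.pPrimeCore_normal 2
  have hz : (QuotientGroup.mk' (oddCore ↥J)) ⟨z, h.mem⟩ ≠ 1 := by
    intro h1
    have h2 : (⟨z, h.mem⟩ : J) ∈ oddCore ↥J := (QuotientGroup.eq_one_iff _).1 h1
    have h3 : orderOf (⟨z, h.mem⟩ : J) ∣ Nat.card (oddCore ↥J) := by
      have h4 := _root_.orderOf_dvd_natCard (⟨⟨z, h.mem⟩, h2⟩ : oddCore ↥J)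
      rwa [Subgroup.orderOf_mk] at h4
    rw [Subgroup.orderOf_mk, h.ord] at h3
    exact not_two_dvd_oddCore ↥J h3
  have h' : IsPr (⊤ : Subgroup J) ⟨z, h.mem⟩ := by
    obtain ⟨e⟩ := h.iso
    refine ⟨⟨Subgroup.topEquiv.trans e⟩, ?_, mem_top _⟩
    rw [Subgroup.orderOf_mk]; exact h.ord
  rw [eq_bot_iff]
  intro a ha
  rw [mem_bot]
  exact h'.inj (QuotientGroup.mk' (oddCore ↥J)) hz (mem_top a) ((QuotientGroup.eq_one_iff a).2 ha)

theorem IsPr.quot [Finite G] {J : Subgroup G} {z : G} (h : IsPr J z) : Nonempty ((↥J ⧸ oddCore ↥J) ≃* SL23) := by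
  obtain ⟨e⟩ := h.iso
  exact ⟨(QuotientGroup.quotientMulEquivOfEq h.oddCore_eq_bot).trans (QuotientGroup.quotientBot.trans e)⟩

end

/-! ### Classical pairs -/

/-- `(x, J)` is a classical pair: `x ∈ J ≅ SL₂(3)`, `J` subnormal in `C(x)` -/
structure Cl {X : Type*} [Group X] (x : X) (J : Subgroup X) : Prop where
  pr : IsPr J x
  sn : Sn J (centralizer ({x} : Set X))

namespace Cl

section

variable {X : Type*} [Group X] [Finite X] {x : X} {J : Subgroup X}

/-- `J O(C(x))` -/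
def M (x : X) (J : Subgroup X) : Subgroup X := J ⊔ OO (centralizer ({x} : Set X))

theorem facts (h : Cl x J) : Hyp (cls (M x J)) ∧ zz (M x J) = x ∧ SolvTwo.IsT (M x J) := by
  obtain ⟨h1, h2, h3⟩ := SLThreeMain.exists_hyp (F := ZMod 3) x h.pr.ord J h.sn.1 h.pr.mem h.sn.2 (by simp [ZMod.card])
    h.pr.quot
  exact ⟨h1, h2, h3⟩

theorem hyp (h : Cl x J) : Hyp (cls (M x J)) := h.facts.1

theorem ty (h : Cl x J) : ∀ K ∈ cls (M x J), Ty K := by
  rintro K ⟨g, rfl⟩
  exact Or.inl ((RdOm.isT_cj g).2 h.facts.2.2)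

theorem M_le (h : Cl x J) : M x J ≤ centralizer ({x} : Set X) := sup_le h.sn.1 (OO_le _)

theorem O_le_OO (h : Cl x J) : OO (centralizer ({x} : Set X)) ≤ OO (M x J) :=
  le_OO le_sup_right (h.M_le.trans (le_normalizer_OO _)) (odd_OO _)

end

section

variable {X : Type u} [Group X] [Finite X] {x : X} {J : Subgroup X}

/-- (TC): `O(C(x)) ≤ O(X)` -/
theorem core (hT : TStmt.{u}) (h : Cl x J) : OO (centralizer ({x} : Set X)) ≤ pPrimeCore 2 X := by
  have h1 : TT (cls (M x J)) := hT X _ h.hyp h.ty (Cfsg.Agent.Cit.uni_cls _)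
  haveI : (pPrimeCore 2 X).Normal := Lib.Cores.pPrimeCore_normal 2
  have h2 := h1.core _ ⟨M x J, self_mem_cls _, rfl⟩
  have h3 : (OO (M x J)).map (QuotientGroup.mk' (pPrimeCore 2 X)) = ⊥ := by
    rw [eq_bot_iff, ← h2]; exact map_OO_le _ _
  have h4 := (Subgroup.map_eq_bot_iff _).1 h3
  rw [QuotientGroup.ker_mk'] at h4
  exact h.O_le_OO.trans h4

theorem M_eq (hT : TStmt.{u}) (hO : pPrimeCore 2 X = ⊥) (h : Cl x J) : M x J = J := by
  have h1 := h.core hT
  rw [hO, le_bot_iff] at h1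
  rw [M, h1, sup_bot_eq]

theorem hyp' (hT : TStmt.{u}) (hO : pPrimeCore 2 X = ⊥) (h : Cl x J) : Hyp (cls J) := by
  have h1 := h.hyp
  rwa [h.M_eq hT hO] at h1

theorem zz_eq (hT : TStmt.{u}) (hO : pPrimeCore 2 X = ⊥) (h : Cl x J) : zz J = x := by
  have h1 := h.facts.2.1
  rwa [h.M_eq hT hO] at h1

/-- (TC): the pieces -/
theorem pieces (hT : TStmt.{u}) (hO : pPrimeCore 2 X = ⊥) (h : Cl x J) : HasPieces (cls J) := by
  have h1 : TT (cls (M x J)) := hT X _ h.hyp h.ty (Cfsg.Agent.Cit.uni_cls _)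
  rw [h.M_eq hT hO] at h1
  exact (tt_iff_hasPieces (h.hyp' hT hO) hO).1 h1

end

end Cl

/-! ### The odd core and quasisimple normal subgroups -/

section

variable {X : Type*} [Group X] [Finite X]

/-- an odd normal subgroup centralises a normal quasisimple subgroup of even order with centre a 2-group -/
theorem comm_of_odd {D : Subgroup X} (hD : IsQuasisimple D) (h2 : IsPGroup 2 (center D)) {x : X}
    (hx : orderOf x = 2) (hxD : x ∈ D) {N : Subgroup X} (hN : N.Normal) (ho : ¬ 2 ∣ Nat.card N)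
    (hDn : N ≤ normalizer (D : Set X)) {o d : X} (ho' : o ∈ N) (hd : d ∈ D) : o * d = d * o := by
  haveI : Fact (Nat.Prime 2) := ⟨Nat.prime_two⟩
  have hN' : (N.subgroupOf D).Normal := inferInstance
  have hodd : ¬ 2 ∣ Nat.card (N.subgroupOf D) := by
    intro h
    apply ho
    have h1 : Nat.card (N.subgroupOf D) = Nat.card ((N.subgroupOf D).map D.subtype) :=
      (card_map_of_injective D.subtype_injective).symm
    rw [h1, subgroupOf_map_subtype] at h
    exact h.trans (card_dvd_of_le inf_le_left)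
  have key : N.subgroupOf D = ⊥ := by
    rcases SignalizersComponents.LayerBasic.quasisimple_normal hD _ hN' with h | h
    · exfalso
      apply hodd
      rw [h, card_top]
      have h1 := _root_.orderOf_dvd_natCard (⟨x, hxD⟩ : D)
      rwa [Subgroup.orderOf_mk, hx] at h1
    · rw [eq_bot_iff]
      intro a ha
      obtain ⟨n, hn⟩ := h2 ⟨a, h ha⟩
      have h3 : orderOf a ∣ 2 ^ n := orderOf_dvd_of_pow_eq_one (by simpa using congrArg Subtype.val hn)
      have h4 : orderOf a ∣ Nat.card (N.subgroupOf D) := by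
        have h5 := _root_.orderOf_dvd_natCard (⟨a, ha⟩ : N.subgroupOf D)
        rwa [Subgroup.orderOf_mk] at h5
      have h5 : Nat.Coprime (2 ^ n) (Nat.card (N.subgroupOf D)) :=
        Nat.Coprime.pow_left n ((Nat.Prime.coprime_iff_not_dvd Nat.prime_two).2 hodd)
      have h6 := Nat.dvd_gcd h3 h4
      rw [h5, Nat.dvd_one, orderOf_eq_one_iff] at h6
      rw [mem_bot]; exact h6
  have h1 : o * d * o⁻¹ * d⁻¹ ∈ D := mul_mem ((mem_normalizer_iff.1 (hDn ho') d).1 hd) (inv_mem hd)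
  have h2 : o * d * o⁻¹ * d⁻¹ ∈ N := by
    have h3 := mul_mem ho' (hN.conj_mem _ (inv_mem ho') d)
    have h4 : o * d * o⁻¹ * d⁻¹ = o * (d * o⁻¹ * d⁻¹) := by group
    rwa [h4]
  have h3 : (⟨_, h1⟩ : D) ∈ N.subgroupOf D := h2
  rw [key, mem_bot] at h3
  have h4 : o * d * o⁻¹ * d⁻¹ = 1 := congrArg Subtype.val h3
  rw [mul_inv_eq_one, mul_inv_eq_iff_eq_mul] at h4
  exact h4

theorem centralizer_subgroupOf {Y : Subgroup X} {x : X} (hx : x ∈ Y) :
    (centralizer ({x} : Set X)).subgroupOf Y = centralizer ({(⟨x, hx⟩ : Y)} : Set Y) := by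
  ext y
  rw [mem_subgroupOf, mem_centralizer_singleton_iff, mem_centralizer_singleton_iff]
  exact ⟨fun h => Subtype.ext h, fun h => congrArg Subtype.val h⟩

theorem Cl.subgroupOf {x : X} {J Y : Subgroup X} (h : Cl x J) (hJ : J ≤ Y) :
    Cl (⟨x, hJ h.pr.mem⟩ : Y) (J.subgroupOf Y) := by
  refine ⟨h.pr.subgroupOf hJ, ?_⟩
  rw [← centralizer_subgroupOf]
  exact h.sn.comap Y.subtype

end

theorem mem_sup_zpowers {X : Type*} [Group X] {D : Subgroup X} {v : X} (hv : v ∈ normalizer (D : Set X)) {y : X}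
    (hy : y ∈ D ⊔ zpowers v) : ∃ d ∈ D, ∃ n : ℤ, y = d * v ^ n := by
  have hconj : ∀ (n : ℤ) (d : X), d ∈ D → v ^ n * d * (v ^ n)⁻¹ ∈ D := fun n d hd =>
    (mem_normalizer_iff.1 (zpow_mem hv n) d).1 hd
  let S : Subgroup X :=
    { carrier := {y | ∃ d ∈ D, ∃ n : ℤ, y = d * v ^ n}
      one_mem' := ⟨1, one_mem _, 0, by simp⟩
      mul_mem' := by
        rintro _ _ ⟨d, hd, n, rfl⟩ ⟨e, he, m, rfl⟩
        refine ⟨d * (v ^ n * e * (v ^ n)⁻¹), mul_mem hd (hconj n e he), n + m, ?_⟩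
        rw [zpow_add]; group
      inv_mem' := by
        rintro _ ⟨d, hd, n, rfl⟩
        refine ⟨v ^ (-n) * d⁻¹ * (v ^ (-n))⁻¹, hconj _ _ (inv_mem hd), -n, ?_⟩
        group }
  have h1 : D ⊔ zpowers v ≤ S := by
    refine sup_le (fun d hd => ⟨d, hd, 0, by simp⟩) ?_
    rw [zpowers_le]
    exact ⟨1, one_mem _, 1, by simp⟩
  exact h1 hy

section

variable {X : Type u} [Group X] [Finite X] {x : X} {J : Subgroup X}

/-- **(F)** -/
theorem Cl.fix (hT : TStmt.{u}) (h : Cl x J) {D : Subgroup X} (hD : IsQuasisimple D) (h2 : IsPGroup 2 (center D))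
    (hJD : J ≤ D) {v : X} (hv : v ∈ normalizer (D : Set X)) (h3 : v * v * v = 1)
    (hc : ∀ c ∈ D, c * x = x * c → v * c = c * v) : ∀ d ∈ D, v * d = d * v := by
  haveI : Fact (Nat.Prime 2) := ⟨Nat.prime_two⟩
  set Y : Subgroup X := D ⊔ zpowers v with hY
  have hDY : D ≤ Y := le_sup_left
  have hvY : v ∈ Y := (le_sup_right : zpowers v ≤ Y) (mem_zpowers v)
  have hnY : Y ≤ normalizer (D : Set X) := sup_le le_normalizer (zpowers_le.2 hv)
  have hJY : J ≤ Y := hJD.trans hDY
  have hxD : x ∈ D := hJD h.pr.mem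
  have hcl := h.subgroupOf hJY
  have h4 := hcl.core hT
  set x' : Y := ⟨x, hJY h.pr.mem⟩
  set v' : Y := ⟨v, hvY⟩
  -- every element of `C_Y(x)` commutes with `v`
  have hcen : ∀ y : Y, y * x' = x' * y → v' * y = y * v' := by
    intro y hy
    obtain ⟨d, hd, n, hdn⟩ := mem_sup_zpowers hv y.2
    have hvx : v * x = x * v := hc x hxD rfl
    have hvn : v ^ n * x = x * v ^ n := (show Commute v x from hvx).zpow_left n
    have hyx : (y : X) * x = x * y := congrArg Subtype.val hy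
    have hdx : d * x = x * d := by
      have h6 : d * x * v ^ n = x * d * v ^ n := by
        calc d * x * v ^ n = d * (x * v ^ n) := by group
          _ = d * v ^ n * x := by rw [← hvn]; group
          _ = x * (d * v ^ n) := by rw [← hdn]; exact hyx
          _ = x * d * v ^ n := by group
      exact mul_right_cancel h6
    have h6 := hc d hd hdx
    apply Subtype.ext
    show v * (y : X) = y * v
    rw [hdn]
    calc v * (d * v ^ n) = (v * d) * v ^ n := by group
      _ = d * (v * v ^ n) := by rw [h6]; group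
      _ = d * (v ^ n * v) := by rw [(Commute.self_zpow v n).eq]
      _ = d * v ^ n * v := by group
  have hvx : v' * x' = x' * v' := Subtype.ext (hc x hxD rfl)
  have hvO : v' ∈ OO (centralizer ({x'} : Set Y)) := by
    have h5 : zpowers v' ≤ OO (centralizer ({x'} : Set Y)) := by
      refine le_OO ?_ ?_ ?_
      · rw [zpowers_le, mem_centralizer_singleton_iff]; exact hvx
      · intro y hy
        have h6 := hcen y (mem_centralizer_singleton_iff.1 hy)
        refine centralizer_le_normalizer _ ?_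
        rw [mem_centralizer_iff]
        rintro _ ⟨n, rfl⟩
        exact (Commute.zpow_left h6 n)
      · rw [Nat.card_zpowers]
        have h7 : Odd (orderOf v') := odd_of_cube (Subtype.ext h3)
        exact h7.not_two_dvd_nat
    exact h5 (mem_zpowers v')
  have hvC := h4 hvO
  intro d hd
  have hDq : IsQuasisimple ↥(D.subgroupOf Y) :=
    SignalizersComponents.LayerBasic.quasisimple_congr (subgroupOfEquivOfLe hDY).symm hD
  have h5 := comm_of_odd (X := Y) (D := D.subgroupOf Y) hDq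
    (isPGroup_center_congr (subgroupOfEquivOfLe hDY).symm h2) (x := x') hcl.pr.ord hxD (N := pPrimeCore 2 Y)
    (Lib.Cores.pPrimeCore_normal 2) (not_two_dvd_oddCore Y) ?_ hvC (d := ⟨d, hDY hd⟩) hd
  · exact congrArg Subtype.val h5
  · have h6 : (D.subgroupOf Y).Normal := (normal_subgroupOf_iff_le_normalizer hDY).2 hnY
    rw [normalizer_eq_top_iff.2 h6]
    exact le_top

end

end Cfsg.Agent.OddHalf.NI3
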