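import Cfsg.Agent.OddHalf.NI3.Props
import Cfsg.Agent.OddHalf.NI.Niv
import Cfsg.Agent.OddHalf.NI.NotBigOf

/-!
# NI over `F_3`: frames of a component of `C(y)`, and the entrance `NI3` of NI (`q > 3`)

* `frame3_false`: a component `D ∋ y` of `C(y)` has no frame with members `SL₂(3)` for `y`;
* `ni3`: the hypothesis `NI.NI3` of `NI.notBig` from `FrameFact3` and THEOREM X(3).
-/

set_option autoImplicit false

namespace Cfsg.Agent.OddHalf.NI3

open Subgroup Cfsg Cfsg.Agent.OddHalf.Iface Cfsg.Agent.SignalizersComponents Cfsg.Agent.OddHalf.LieOddFam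
open Cfsg.Agent.OddHalf.D3 (cj Comp mem_cs)
open Cfsg.Agent.OddHalf.NI (CompIn Even8 IsSL)

universe u

/-- **Transport of a frame of a component `D` of `C(y)`, `y ∈ D`, to `G`.** -/
theorem frame3_false {G : Type*} [Group G] (hX : NoFam3 G) {y : G} {D : Subgroup G} (hD : Comp y D) (hyD : y ∈ D)
    (fr : Frame3 ↥D ⟨y, hyD⟩) : False := by
  obtain ⟨m, pos, J, Y, hiso, hmem, hord, hle, hsub, hcomm, hinj, hthree, hgen⟩ := fr
  let Y' : Fin m → G := fun i => (Y i : G)
  let J' : Fin m → Subgroup G := fun i => (J i).map D.subtype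
  have e : ∀ i, ↥(J' i) ≃* ↥(J i) := fun i =>
    ((J i).equivMapOfInjective D.subtype (Subgroup.subtype_injective D)).symm
  -- the centralizer of the involutions lies in `C(y)`
  have hCy : centralizer (Set.range Y') ≤ centralizer ({y} : Set G) := by
    have h1 : y ∈ closure (Set.range Y') := by
      have h2 : (⟨y, hyD⟩ : ↥D) ∈ (closure (Set.range Y')).comap D.subtype := by
        refine (closure_le _).mpr ?_ hgen
        rintro _ ⟨i, rfl⟩
        exact Subgroup.subset_closure ⟨i, rfl⟩
      exact h2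
    rw [← centralizer_closure]
    exact centralizer_le (Set.singleton_subset_iff.mpr h1)
  have hJC : ∀ i, J' i ≤ centralizer (Set.range Y') := by
    rintro i _ ⟨a, ha, rfl⟩
    rw [mem_centralizer_iff]
    rintro _ ⟨j, rfl⟩
    by_cases hij : i = j
    · subst hij
      exact congrArg Subtype.val (mem_centralizer_iff.mp (hle i ha) (Y i) rfl)
    · exact (congrArg Subtype.val (hcomm i j hij a ha (Y j) (hmem j))).symm
  refine hX m J' Y' pos (fun i => ?_) (fun i => ⟨Y i, hmem i, rfl⟩) (fun i => ?_) hJC (fun i => ?_) ?_ ?_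
  · obtain ⟨f⟩ := hiso i
    exact ⟨(e i).trans f⟩
  · rw [Subgroup.orderOf_coe]
    exact hord i
  · -- subnormality
    set C := centralizer (Set.range Y') with hC
    have hJD : J' i ≤ D ⊓ C := le_inf (map_subtype_le _) (hJC i)
    have h1 : ((J' i).subgroupOf C) ≤ (D ⊓ C).subgroupOf C := fun x hx => hJD hx
    refine Subgroup.IsSubnormal.trans h1 ?_ ?_
    · let ι : ((D ⊓ C).subgroupOf C) →* centralizer ({Y i} : Set ↥D) :=
        MonoidHom.codRestrict
          (MonoidHom.codRestrict (C.subtype.comp ((D ⊓ C).subgroupOf C).subtype) D (fun x => (mem_subgroupOf.mp x.2).1))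
          _ (by
            intro x
            rw [mem_centralizer_singleton_iff]
            apply Subtype.ext
            have h2 : ((x : ↥C) : G) ∈ centralizer (Set.range Y') := (x : ↥C).2
            exact (mem_centralizer_iff.mp h2 (Y' i) ⟨i, rfl⟩).symm)
      have h2 : ((J' i).subgroupOf C).subgroupOf ((D ⊓ C).subgroupOf C) =
          ((J i).subgroupOf (centralizer ({Y i} : Set ↥D))).comap ι := by
        ext x
        rw [mem_subgroupOf, mem_subgroupOf, mem_comap, mem_subgroupOf]
        constructor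
        · rintro ⟨a, ha, hax⟩
          have h3 : ((ι x : centralizer ({Y i} : Set ↥D)) : ↥D) = a := Subtype.ext hax.symm
          rw [h3]
          exact ha
        · intro hx
          exact ⟨_, hx, rfl⟩
      rw [h2]
      exact (hsub i).comap ι
    · have h3 : (D ⊓ C).subgroupOf C =
          (D.subgroupOf (centralizer ({y} : Set G))).comap (Subgroup.inclusion hCy) := by
        ext ⟨x, hx⟩
        simp only [mem_subgroupOf, mem_inf, mem_comap]
        exact ⟨fun h => h.1, fun h => ⟨h, hx⟩⟩
      rw [h3]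
      exact hD.comp.1.comap _
  · intro i j hij
    exact hinj (Subtype.ext hij)
  · intro a b c hab hac hbc h
    exact hthree a b c hab hac hbc (Subtype.ext h)

/-- A component `N ∋ y` of `C(y)`, `y` even in `N`, is not of Lie type of rank at least 2 over `F_3`. -/
theorem comp_rk3_false (hT : FrameFact3.{u}) {G : Type u} [Group G] (C : Ctx G) (hX : NoFam3 G) {y : G}
    (hy : orderOf y = 2) {N : Subgroup G} (hN : Comp y N) (hyN : y ∈ N) (he : Even8 (⟨y, hyN⟩ : ↥N))
    (hr : Rk (↥N ⧸ center ↥N) 3) : False := by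
  have := C.fin
  have hz : (⟨y, hyN⟩ : ↥N) ∈ center ↥N := by
    rw [mem_center_iff]
    intro g
    exact Subtype.ext (mem_cs.mp (hN.le g.2))
  obtain ⟨fr⟩ := hT ↥N hN.quasi (Soft.CompOf.center_isPGroup (C.bal y hy) ⟨hN.le, hN.comp⟩) hr _ hz he
  exact frame3_false hX hN hyN fr

/-- **The entrance `NI3` of NI.** -/
theorem ni3 (hT : FrameFact3.{u}) (hX : ∀ (G : Type u) [Group G], Ctx G → NoFam3 G) : NI.NI3.{u} := by
  intro G _ C t y J N ht hy hty hcomm hJ hyJ hSL hN hlt hcj hr
  obtain ⟨F, i1, i2, hF, h3, ⟨e⟩⟩ := hSL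
  have hyN : y ∈ N := hlt.le hyJ
  refine comp_rk3_false hT C (hX G C) hy hN hyN ?_ hr
  have e' : ↥(J.subgroupOf N) ≃* Matrix.SpecialLinearGroup (Fin 2) F :=
    (subgroupOfEquivOfLe hlt.le).trans e
  exact NI.Even8.of_sl hF e' (by rw [Subgroup.orderOf_mk]; exact hy) (mem_subgroupOf.mpr hyJ)

end Cfsg.Agent.OddHalf.NI3
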