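import Cfsg.Agent.OddHalf.NI3.Amal

/-!
# THEOREM X(3), part 2: the glueing

* `third_uniq` : the uniqueness of the third member;
* `side` : the predicate `S7` for a component `L` of `C(u)` containing `Ju`, `Jv`, `Jw`;
* `glue_false` : `C(u) ≅ H k`, `C(v) ≅ H l` is impossible.
-/

set_option autoImplicit false
set_option linter.style.haveILetI false
set_option linter.unusedSectionVars false

namespace Cfsg.Agent.OddHalf.NI3

open Subgroup Cfsg Cfsg.Agent.Cit Cfsg.Agent.Cit.SolvTwo Cfsg.Agent.SignalizersComponents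

universe u

variable {S7 : ∀ (N : Type u) [Group N], N → N → Subgroup N → Subgroup N → Subgroup N → Prop}

theorem core_eq_bot_of_quasi {N : Type*} [Group N] [Finite N] (hN : IsQuasisimple N) (hc : IsPGroup 2 (center N)) {t : N}
    (ht : orderOf t = 2) : pPrimeCore 2 N = ⊥ := by
  have hn : (pPrimeCore 2 N).Normal := Lib.Cores.pPrimeCore_normal 2
  have hodd : ¬ 2 ∣ Nat.card (pPrimeCore 2 N) := Cit.not_two_dvd_oddCore N
  rcases LayerBasic.quasisimple_normal hN _ hn with h1 | h1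
  · exfalso
    apply hodd
    rw [h1, Subgroup.card_top, ← ht]
    exact orderOf_dvd_natCard t
  · haveI : Fact (Nat.Prime 2) := ⟨Nat.prime_two⟩
    obtain ⟨k, hk⟩ := IsPGroup.iff_card.1 (hc.to_le h1)
    rcases Nat.eq_zero_or_pos k with h0 | h0
    · rw [h0, pow_zero] at hk
      exact Subgroup.eq_bot_of_card_eq _ hk
    · exact absurd (by rw [hk]; exact dvd_pow_self 2 (by omega)) hodd

/-- **uniqueness of the third member** -/
theorem third_uniq (hT : TStmt.{u}) (hM : AutM3 S7) {N : Type u} [Group N] [Finite N] (hO : pPrimeCore 2 N = ⊥)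
    {x z : N} {J' J T S : Subgroup N} (h' : Cl x J') (h : IsPr J z) (hs : Sn J (centralizer ({x} : Set N)))
    (hz : z ∈ center N) (hxz : x ≠ z) (hT1 : IsPr T (x * z)) (hT2 : Sn T (centralizer ({x} : Set N)))
    (hS1 : IsPr S (x * z)) (hS2 : Sn S (centralizer ({x} : Set N))) (h7 : S7 N z x J J' T) : S = T := by
  set K := centralizer ({x} : Set N) with hK
  have hOK : pPrimeCore 2 ↥K = ⊥ := core_cent_eq_bot hT hO h'
  have hx1 : x ≠ 1 := by
    intro e; have := h'.pr.ord; rw [e, orderOf_one] at this; omega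
  have hz1 : z ≠ 1 := by
    intro e; have := h.ord; rw [e, orderOf_one] at this; omega
  -- centre of `K`
  have cx : ∀ c : K, c * ⟨x, h'.sn.1 h'.pr.mem⟩ = ⟨x, h'.sn.1 h'.pr.mem⟩ * c := fun c =>
    Subtype.ext (mem_centralizer_singleton_iff.1 c.2)
  have cz : ∀ c : K, c * ⟨z, hs.1 h.mem⟩ = ⟨z, hs.1 h.mem⟩ * c := fun c =>
    Subtype.ext (mem_center_iff.1 hz c)
  have cxz : ∀ w : K, (w : N) = x * z → ∀ c : K, c * w = w * c := fun w hw c => by
    apply Subtype.ext
    show (c : N) * w = w * c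
    rw [hw]
    calc (c : N) * (x * z) = (c * x) * z := by group
      _ = x * (c * z) := by rw [mem_centralizer_singleton_iff.1 c.2]; group
      _ = x * z * c := by rw [mem_center_iff.1 hz c]; group
  have key : ∀ {A B : Subgroup N} {a b : N} (pA : IsPr A a) (pB : IsPr B b) (hA : Sn A K) (hB : Sn B K), a ≠ b →
      (∀ c : K, c * ⟨a, hA.1 pA.mem⟩ = ⟨a, hA.1 pA.mem⟩ * c) →
      (∀ c : K, c * ⟨b, hB.1 pB.mem⟩ = ⟨b, hB.1 pB.mem⟩ * c) →
      ∀ s ∈ A, ∀ t ∈ B, s * t = t * s := by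
    intro A B a b pA pB hA hB hab ca cb s hs t ht
    have h1 := cm_of_ne hOK ca cb (fun e => hab (congrArg Subtype.val e)) (pA.subgroupOf hA.1) (pB.subgroupOf hB.1)
      hA.2 hB.2 ⟨s, hA.1 hs⟩ hs ⟨t, hB.1 ht⟩ ht
    exact congrArg Subtype.val h1
  have n1 : x * z ≠ x := fun e => hz1 (mul_eq_left.1 e)
  have n2 : x * z ≠ z := fun e => hx1 (mul_eq_right.1 e)
  have a1 := key hS1 h'.pr hS2 h'.sn n1 (cxz _ rfl) cx
  have a2 := key hS1 h hS2 hs n2 (cxz _ rfl) cz
  by_contra hne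
  have a3 : ∀ s ∈ S, ∀ t ∈ T, s * t = t * s := by
    have e1 := (hS1.subgroupOf hS2.1).isSl
    have e2 := (hT1.subgroupOf hT2.1).isSl
    rcases SLThree.eq_or_cm hOK (cxz _ rfl) e1 e2 hS2.2 hT2.2 with h8 | h8
    · exfalso
      apply hne
      have h9 := congrArg (Subgroup.map K.subtype) h8
      rwa [map_subgroupOf_eq_of_le hS2.1, map_subgroupOf_eq_of_le hT2.1] at h9
    · intro s hs t ht
      exact congrArg Subtype.val (h8 ⟨s, hS2.1 hs⟩ hs ⟨t, hT2.1 ht⟩ ht)
  obtain ⟨a, ha, b, hb, haz, hbz, hab⟩ := hS1.t3.ex4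
  exact hab (comm_of_s7 hM h7 (a := a) (b := b) (a2 a ha) (a1 a ha) (a3 a ha)
    (mem_centralizer_singleton_iff.1 (hS2.1 hb)))

/-- **one side** of Solomon's configuration -/
theorem side (hT : TStmt.{u}) (hB : F23b S7) (hM : AutM3 S7) {X : Type u} [Group X] [Finite X] {u v : X}
    {L Ju Jv Jw : Subgroup X} (hL : D3.Comp u L) (h2 : IsPGroup 2 ↥(center ↥L)) (pu : IsPr Ju u) (pv : IsPr Jv v)
    (pw : IsPr Jw (u * v)) (su : Sn Ju (centralizer ({u} : Set X) ⊓ centralizer ({v} : Set X)))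
    (sv : Sn Jv (centralizer ({u} : Set X) ⊓ centralizer ({v} : Set X)))
    (sw : Sn Jw (centralizer ({u} : Set X) ⊓ centralizer ({v} : Set X))) (lu : Ju ≤ L) (lv : Jv ≤ L) (lw : Jw ≤ L)
    (huv : u ≠ v) (hc : ∀ a ∈ Ju, ∀ b ∈ Jv, a * b = b * a) (hu : u ∈ L) (hv : v ∈ L) :
    S7 ↥L ⟨u, hu⟩ ⟨v, hv⟩ (Ju.subgroupOf L) (Jv.subgroupOf L) (Jw.subgroupOf L) := by
  have hcomm : u * v = v * u := hc u pu.mem v pv.mem
  have hOL : pPrimeCore 2 ↥L = ⊥ := core_eq_bot_of_quasi hL.quasi h2 (t := ⟨u, hu⟩)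
    (by rw [Subgroup.orderOf_mk]; exact pu.ord)
  have key : ∀ {S : Subgroup X}, Sn S (centralizer ({u} : Set X) ⊓ centralizer ({v} : Set X)) → S ≤ L →
      Sn (S.subgroupOf L) (centralizer ({(⟨v, hv⟩ : L)} : Set L)) := by
    intro S hS hSL
    rw [← centralizer_subgroupOf hv]
    have h1 : Sn S (L ⊓ centralizer ({v} : Set X)) :=
      hS.restrict (inf_le_inf_right _ hL.le) (le_inf hSL (hS.1.trans inf_le_right))
    have h2 := h1.comap L.subtype
    have h3 : (L ⊓ centralizer ({v} : Set X)).comap L.subtype = (centralizer ({v} : Set X)).subgroupOf L := by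
      ext y
      simp only [mem_comap, mem_inf, mem_subgroupOf]
      exact ⟨fun h => h.2, fun h => ⟨y.2, h⟩⟩
    rwa [h3] at h2
  have hz : (⟨u, hu⟩ : L) ∈ center L := by
    rw [mem_center_iff]
    intro g
    exact Subtype.ext (mem_centralizer_singleton_iff.1 (hL.le g.2))
  have hcl : Cl (⟨v, hv⟩ : L) (Jv.subgroupOf L) := ⟨pv.subgroupOf lv, key sv lv⟩
  have hne : (⟨v, hv⟩ : L) ≠ ⟨u, hu⟩ := fun e => huv (congrArg Subtype.val e).symm
  have hcen : Ju.subgroupOf L ≤ centralizer (Jv.subgroupOf L : Set L) := by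
    intro a ha
    rw [mem_centralizer_iff]
    intro b hb
    exact Subtype.ext (hc a ha b hb).symm
  obtain ⟨T, t1, t2, h7⟩ := hB ↥L hL.quasi h2 ⟨v, hv⟩ ⟨u, hu⟩ (Jv.subgroupOf L) (Ju.subgroupOf L) hcl
    (pu.subgroupOf lu) (key su lu) hcen hz
  have pw' : IsPr (Jw.subgroupOf L) (⟨v, hv⟩ * ⟨u, hu⟩ : L) := by
    have h1 := pw.subgroupOf lw
    have e : (⟨u * v, lw pw.mem⟩ : L) = ⟨v, hv⟩ * ⟨u, hu⟩ := Subtype.ext hcomm
    rwa [e] at h1
  have h8 := third_uniq hT hM hOL hcl (pu.subgroupOf lu) (key su lu) hz hne t1 t2 pw' (key sw lw) h7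
  rw [h8]
  exact h7

section Glue

variable {C Hk X : Type u} [Group C] [Group Hk] [Group X]

theorem isPGroup_center_map {f : Hk →* X} (hf : Function.Injective f) {D : Subgroup Hk} (h : IsPGroup 2 ↥(center ↥D)) :
    IsPGroup 2 ↥(center ↥(D.map f)) :=
  h.of_equiv (centerCongr (D.equivMapOfInjective f hf))

theorem comp_map {f : Hk →* X} (hf : Function.Injective f) {u : X} (hr : f.range = centralizer ({u} : Set X))
    {D : Subgroup Hk} (hD : IsComponent D) : D3.Comp u (D.map f) := by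
  have h1 : Sn D ⊤ := Sn.of_isSubnormal hD.1 le_top
  have h2 := h1.map f
  rw [← MonoidHom.range_eq_map, hr] at h2
  refine ⟨h2.1, h2.2, ?_⟩
  exact Components.isQuasisimple_of_mulEquiv
    ((D.equivMapOfInjective f hf).trans (subgroupOfEquivOfLe h2.1).symm) hD.2

theorem range_comp {g : C →* Hk} {f : Hk →* X} (hf : Function.Injective f) {u : X} {x : Hk}
    (hr : f.range = centralizer ({u} : Set X)) (hg : g.range = centralizer ({x} : Set Hk)) :
    (f.comp g).range = centralizer ({u} : Set X) ⊓ centralizer ({f x} : Set X) := by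
  ext w
  constructor
  · rintro ⟨c, rfl⟩
    refine ⟨?_, ?_⟩
    · rw [← hr]; exact ⟨g c, rfl⟩
    · have h1 : g c ∈ centralizer ({x} : Set Hk) := by rw [← hg]; exact ⟨c, rfl⟩
      rw [mem_centralizer_singleton_iff] at h1
      refine mem_centralizer_singleton_iff.2 ?_
      show f (g c) * f x = f x * f (g c)
      rw [← map_mul, h1, map_mul]
  · rintro ⟨h1, h2⟩
    rw [← hr] at h1
    obtain ⟨a, rfl⟩ := h1
    have h3 : a ∈ centralizer ({x} : Set Hk) := by
      rw [mem_centralizer_singleton_iff]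
      apply hf
      rw [map_mul, map_mul]
      exact mem_centralizer_singleton_iff.1 h2
    rw [← hg] at h3
    obtain ⟨c, rfl⟩ := h3
    exact ⟨c, rfl⟩

variable {Hl : Type u} [Group Hl] [Finite X] [Finite C]

/-- **part 2 of THEOREM X(3)** -/
theorem glue_false (hT : TStmt.{u}) (hB : F23b S7) (hM : AutM3 S7) (hSol : Sol3 S7) (gk : C →* Hk) (gl : C →* Hl)
    (ik : Hk →* X) (il : Hl →* X) (hik : Function.Injective ik) (hil : Function.Injective il)
    (hgk : Function.Injective gk) (hc : ik.comp gk = il.comp gl) {yk yl : C} (hne : yk ≠ yl)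
    {Jk Jl T : Subgroup C} (pk : IsPr Jk yk) (pl : IsPr Jl yl) (pT : IsPr T (yk * yl)) (sk : Jk.IsSubnormal)
    (sl : Jl.IsSubnormal) (sT : T.IsSubnormal) (cm : ∀ a ∈ Jk, ∀ b ∈ Jl, a * b = b * a)
    (rgk : gk.range = centralizer ({gk yk} : Set Hk))
    (rk : ik.range = centralizer ({ik (gk yl)} : Set X)) (rl : il.range = centralizer ({il (gl yk)} : Set X))
    {Dk : Subgroup Hk} {Dl : Subgroup Hl} (dk : IsComponent Dk) (dl : IsComponent Dl)
    (zk : IsPGroup 2 ↥(center ↥Dk)) (zl : IsPGroup 2 ↥(center ↥Dl)) (k1 : Jk.map gk ≤ Dk) (k2 : Jl.map gk ≤ Dk)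
    (k3 : T.map gk ≤ Dk) (l1 : Jk.map gl ≤ Dl) (l2 : Jl.map gl ≤ Dl) (l3 : T.map gl ≤ Dl) : False := by
  set e := ik.comp gk with he
  have hei : Function.Injective e := hik.comp hgk
  set u := e yl with hu
  set v := e yk with hv
  have huv : u ≠ v := fun h => hne (hei h).symm
  have hv' : il (gl yk) = v := by
    show (il.comp gl) yk = v
    rw [← hc]
  have hr : e.range = centralizer ({u} : Set X) ⊓ centralizer ({v} : Set X) := range_comp hik rk rgk
  have pr : ∀ {S : Subgroup C} {z : C}, IsPr S z → IsPr (S.map e) (e z) := by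
    intro S z hS
    refine hS.map e ?_
    intro h1
    have h2 : z = 1 := hei (by rw [h1, map_one])
    have h3 := hS.ord
    rw [h2, orderOf_one] at h3
    exact absurd h3 (by norm_num)
  have sn : ∀ {S : Subgroup C}, S.IsSubnormal → Sn (S.map e) (centralizer ({u} : Set X) ⊓ centralizer ({v} : Set X)) := by
    intro S hS
    have h1 : Sn S ⊤ := Sn.of_isSubnormal hS le_top
    have h2 := h1.map e
    rwa [← MonoidHom.range_eq_map, hr] at h2
  have le1 : ∀ {S : Subgroup C}, S.map gk ≤ Dk → S.map e ≤ Dk.map ik := by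
    intro S hS
    rw [he, ← Subgroup.map_map]
    exact Subgroup.map_mono hS
  have le2 : ∀ {S : Subgroup C}, S.map gl ≤ Dl → S.map e ≤ Dl.map il := by
    intro S hS
    rw [hc, ← Subgroup.map_map]
    exact Subgroup.map_mono hS
  have Cu : D3.Comp u (Dk.map ik) := comp_map hik rk dk
  have Cv : D3.Comp v (Dl.map il) := comp_map hil (by rw [rl, hv']) dl
  have cmuv : ∀ a ∈ Jl.map e, ∀ b ∈ Jk.map e, a * b = b * a := by
    rintro _ ⟨a, ha, rfl⟩ _ ⟨b, hb, rfl⟩
    rw [← map_mul, ← map_mul, cm b hb a ha]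
  have pT1 : IsPr (T.map e) (v * u) := by
    have h1 := pr pT
    rwa [map_mul] at h1
  have huvc : u * v = v * u := cmuv u (pr pl).mem v (pr pk).mem
  have pT2 : IsPr (T.map e) (u * v) := by rw [huvc]; exact pT1
  refine hSol X u v (Dk.map ik) (Dl.map il) (Jl.map e) (Jk.map e) (T.map e) (pr pl).ord (pr pk).ord huv huvc Cu Cv
    (pr pl).mem (pr pk).mem pT2.mem (pr pl).iso (pr pk).iso (le1 k2) (le1 k1) (le1 k3) (le2 l2) (le2 l1) (le2 l3)
    (fun h1 h2 => ?_) (fun h1 h2 => ?_)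
  · exact side hT hB hM Cu (isPGroup_center_map hik zk) (pr pl) (pr pk) pT2 (sn sl) (sn sk) (sn sT) (le1 k2) (le1 k1)
      (le1 k3) huv cmuv h1 h2
  · have sn' : ∀ {S : Subgroup C}, S.IsSubnormal →
        Sn (S.map e) (centralizer ({v} : Set X) ⊓ centralizer ({u} : Set X)) := by
      intro S hS
      rw [inf_comm]
      exact sn hS
    exact side hT hB hM Cv (isPGroup_center_map hil zl) (pr pk) (pr pl) pT1 (sn' sk) (sn' sl) (sn' sT) (le2 l1) (le2 l2)
      (le2 l3) huv.symm (fun a ha b hb => (cmuv b hb a ha).symm) h2 h1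

end Glue

end Cfsg.Agent.OddHalf.NI3
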