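import Cfsg.Agent.OddHalf.NI3.Niv3Lib
import Cfsg.Agent.OddHalf.NI3.Entrance

/-!
# The node theorem over the field with three elements

`niv3` : `NIV3` from THEOREM X and THEOREM X(3) (`NoFam`, `NoFam3`), the type facts (T') and (T'_3) (`FrameFact`,
`FrameFact3`), (EX3) and 'the Ree groups have no perfect 2-covers'.

`M` is a component of `C(t) ∩ C(y)`, `y ∈ M` even. The pump-up of `M` in `C(y)` is

* `M` itself: `comp_rk3_false`;
* diagonal, `M = {d d^t : d ∈ D}`: `diag3_false`;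
* vertical, `M < N`: `N / Z(N)` is not of Lie type in odd characteristic (EX3), `L₂(q)` (then `N ≃ SL₂(q)` is
  classical), a Ree group (no even centre), `Rk q` with `q ≥ 5` (THEOREM X) or `Rk 3` (`comp_rk3_false`).
-/

set_option autoImplicit false
set_option linter.style.haveILetI false

namespace Cfsg.Agent.OddHalf.NI3

open Subgroup Cfsg Cfsg.Agent.OddHalf.Iface Cfsg.Agent.SignalizersComponents Cfsg.Agent.OddHalf.LieOddFam
open Cfsg.Agent.OddHalf.D3 (cj Comp FT mem_cs)
open Cfsg.Agent.OddHalf.NI (CompIn Even8 NoFam FrameFact pump2 bl_core)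

universe u

/-- **NIV3.** -/
theorem niv3 (hFT : ∀ (G : Type u) [Group G] [Finite G], FT G) (hX : ∀ (G : Type u) [Group G], Ctx G → NoFam G)
    (hX3 : ∀ (G : Type u) [Group G], Ctx G → NoFam3 G) (hT : FrameFact.{u}) (hT3 : FrameFact3.{u})
    (hRee : ∀ (K : Type u) [Group K], Finite K → IsQuasisimple K → IsPGroup 2 ↥(center K) →
      center K ≠ ⊥ → ¬ Lie.IsoRee (K ⧸ center K)) (hE : EX3.{u}) : NIV3.{u} := by
  intro G _ C t y M hyM ht hy hcomm hM hr he
  haveI := C.fin
  by_cases hty : t = y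
  · -- `M` is a component of `C(y)`
    subst hty
    rw [inf_idem] at hM
    exact comp_rk3_false hT3 C (hX3 G C) hy hM.toComp hyM he hr
  have hM' : CompIn (centralizer ({y} : Set G) ⊓ centralizer ({t} : Set G)) M := by rwa [inf_comm]
  obtain ⟨D, hD, h | ⟨hlt, hcj⟩ | h⟩ := pump2 (hFT G) (bl_core (hFT G) C.bal) hy ht hcomm.symm hM'
  · subst h
    exact comp_rk3_false hT3 C (hX3 G C) hy hD hyM he hr
  · -- vertical
    have hyD : y ∈ D := hlt.le hyM
    have hy1 : (⟨y, hyD⟩ : ↥D) ≠ 1 := by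
      intro h
      have h1 : y = 1 := congrArg Subtype.val h
      rw [h1, orderOf_one] at hy
      exact absurd hy (by decide)
    have heD : Even8 (⟨y, hyD⟩ : ↥D) := he.map (Subgroup.inclusion hlt.le) hy1
    have hyZ : (⟨y, hyD⟩ : ↥D) ∈ center ↥D := by
      rw [mem_center_iff]
      intro g
      exact Subtype.ext (mem_cs.mp (hD.le g.2))
    have hZ2 := Soft.CompOf.center_isPGroup (C.bal y hy) ⟨hD.le, hD.comp⟩
    by_cases hL : LieOdd (↥D ⧸ center ↥D)
    swap
    · exact hE G C t y M D hyM ht hy hty hcomm hM hr he hD hlt hcj hL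
    rcases NI.lieOdd_split hL with ⟨F, _, _, hF, ⟨e⟩⟩ | h | ⟨q, hq, h⟩
    · obtain ⟨f⟩ := NI.CovTwo.equiv_sl hF hD.quasi.1.commutator_eq_top hZ2 e hyZ hy1
      exact NI.classical_false C hy hD hyD hF f
    · refine hRee ↥D inferInstance hD.quasi hZ2 ?_ h
      intro hbot
      rw [hbot, mem_bot] at hyZ
      exact hy1 hyZ
    · by_cases hq3 : q = 3
      · subst hq3
        exact comp_rk3_false hT3 C (hX3 G C) hy hD hyD heD h
      · obtain ⟨fr⟩ := hT ↥D hD.quasi hZ2 (NI.Rows.lieBig_of_rk hq (hq.ne_four hq3) h) _ hyZ heD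
        exact NI.frame_false (hX G C) hD hyD fr
  · -- diagonal
    have hZD : IsPGroup 2 ↥(center ↥D) := Soft.CompOf.center_isPGroup (C.bal y hy) ⟨hD.le, hD.comp⟩
    have hyZ : (⟨y, hyM⟩ : ↥M) ∈ center ↥M := by
      rw [mem_center_iff]
      intro g
      exact Subtype.ext (mem_cs.mp (hM.le g.2).2)
    obtain ⟨fr⟩ := hT3 ↥M hM.quasi (center_two_of_dg h hZD) hr _ hyZ he
    exact diag3_false (hX3 G C) hM.quasi hD hZD h hyM fr

end Cfsg.Agent.OddHalf.NI3
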