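import Cfsg.Agent.OddHalf.NI3.Glue
import Cfsg.Agent.OddHalf.NI.PumpW

/-!
# THEOREM X(3), part 3: the set-up

`Su CA P y J` : the involutions `y k ∈ J k ≅ SL₂(3)`, `J k O(CA)` subnormal in `CA = C(y k) ⊓ P k`; then
`CA / O(CA)` and the groups `P k / O(P k)` form an amalgam (`Su.am`), and this is impossible (`Su.false`).
-/

set_option autoImplicit false
set_option linter.style.haveILetI false
set_option linter.unusedSectionVars false

namespace Cfsg.Agent.OddHalf.NI3

open Subgroup Cfsg Cfsg.Agent.Cit Cfsg.Agent.Cit.SolvTwo Cfsg.Agent.SignalizersComponents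
open Cfsg.Agent.OddHalf.D3 (FT)

universe u

variable {G : Type u} [Group G]

/-! ### Quotients of subgroups -/

theorem qmap_injective {A B : Type*} [Group A] [Group B] {N : Subgroup A} [N.Normal] {N' : Subgroup B} [N'.Normal]
    (φ : A →* B) (h : N = N'.comap φ) : Function.Injective (QuotientGroup.map N N' φ h.le) := by
  rw [injective_iff_map_eq_one]
  intro a ha
  obtain ⟨x, rfl⟩ := QuotientGroup.mk'_surjective N a
  have h1 : (QuotientGroup.mk' N') (φ x) = 1 := ha
  have h2 : φ x ∈ N' := (QuotientGroup.eq_one_iff _).1 h1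
  exact (QuotientGroup.eq_one_iff _).2 (by rw [h]; exact h2)

theorem qmap_range [Finite G] {A B : Subgroup G} (hAB : A ≤ B) {N : Subgroup ↥A} [N.Normal] {N' : Subgroup ↥B}
    [N'.Normal] (h : N ≤ N'.comap (inclusion hAB)) {z : G} (hzB : z ∈ B) (hz : z * z = 1)
    (hA : A = B ⊓ centralizer ({z} : Set G)) (ho : ¬ 2 ∣ Nat.card N') :
    (QuotientGroup.map N N' (inclusion hAB) h).range =
      centralizer ({QuotientGroup.mk' N' ⟨z, hzB⟩} : Set (↥B ⧸ N')) := by
  rw [← centralizer_map (QuotientGroup.mk'_surjective N') (by rwa [QuotientGroup.ker_mk'])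
    (z := (⟨z, hzB⟩ : B)) (Subtype.ext hz)]
  ext w
  constructor
  · rintro ⟨a, rfl⟩
    obtain ⟨a, rfl⟩ := QuotientGroup.mk'_surjective N a
    refine ⟨inclusion hAB a, ?_, rfl⟩
    have h1 : (a : G) ∈ B ⊓ centralizer ({z} : Set G) := by rw [← hA]; exact a.2
    refine mem_centralizer_singleton_iff.2 (Subtype.ext ?_)
    exact mem_centralizer_singleton_iff.1 h1.2
  · rintro ⟨b, hb, rfl⟩
    have h1 : (b : G) ∈ A := by
      rw [hA]
      refine ⟨b.2, mem_centralizer_singleton_iff.2 ?_⟩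
      exact congrArg Subtype.val (mem_centralizer_singleton_iff.1 hb)
    exact ⟨QuotientGroup.mk' N ⟨b, h1⟩, rfl⟩

theorem OO_subgroupOf (B : Subgroup G) : (OO B).subgroupOf B = pPrimeCore 2 ↥B := by
  rw [OO, subgroupOf, comap_map_eq_self_of_injective B.subtype_injective]

/-- `O(A) = A ∩ O(B)` -/
theorem core_comap [Finite G] {A B : Subgroup G} (hAB : A ≤ B) (h : OO A ≤ OO B) :
    pPrimeCore 2 ↥A = (pPrimeCore 2 ↥B).comap (inclusion hAB) := by
  apply le_antisymm
  · intro a ha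
    have h1 : (a : G) ∈ OO B := h ⟨a, ha, rfl⟩
    rw [← OO_subgroupOf B]
    exact h1
  · refine Lib.Cores.le_pPrimeCore inferInstance ?_
    rw [Nat.coprime_comm]
    refine (Nat.Prime.coprime_iff_not_dvd Nat.prime_two).2 fun h2 => not_two_dvd_oddCore ↥B ?_
    refine h2.trans ?_
    refine Subgroup.card_comap_dvd_of_injective _ _ ?_
    exact inclusion_injective hAB

/-- an involution whose image lies in a component of `X / O(X)` centralises `O(X)`, if `L_{2'}(X) = E(X)` -/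
theorem cent_core {X : Type*} [Group X] [Finite X] (hFT : FT X) (hX : pLayer 2 X = layer X)
    {D : Subgroup (X ⧸ pPrimeCore 2 X)} (hD : IsComponent D) {x : X} (hx : x * x = 1)
    (hxD : QuotientGroup.mk' (pPrimeCore 2 X) x ∈ D) {o : X} (ho : o ∈ pPrimeCore 2 X) : x * o = o * x := by
  haveI : Fact (Nat.Prime 2) := ⟨Nat.prime_two⟩
  have hn : (pPrimeCore 2 X).Normal := Lib.Cores.pPrimeCore_normal 2
  have hodd : ¬ 2 ∣ Nat.card (pPrimeCore 2 X) := Cit.not_two_dvd_oddCore X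
  obtain ⟨K, hK, hKD⟩ := PConstrained.exists_isPComponent_map_eq 2 hD
  have h1 : K ≤ layer X := by rw [← hX]; exact le_sSup hK
  have h4 : layer X ≤ centralizer (pPrimeCore 2 X : Set X) := by
    rw [Components.layer_le_iff]
    intro L hL
    rw [← commutator_eq_bot_iff_le_centralizer]
    rcases Components.component_le_or_commutator_eq_bot_of_le_normalizer hL
      (H := pPrimeCore 2 X) (by rw [normalizer_eq_top_iff.mpr hn]; exact le_top) with h | h
    · exfalso
      exact hodd ((hFT.even hL.2).trans (Subgroup.card_dvd_of_le h))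
    · exact h
  have h5 : ∀ k ∈ K, ∀ a ∈ pPrimeCore 2 X, k * a = a * k := fun k hk a ha =>
    (mem_centralizer_iff.1 (h4 (h1 hk)) a ha).symm
  rw [← hKD] at hxD
  obtain ⟨k, hk, hkx⟩ := hxD
  have h6 : k⁻¹ * x ∈ pPrimeCore 2 X := QuotientGroup.eq.1 hkx
  set a := k⁻¹ * x with ha
  have hxa : x = k * a := by rw [ha]; group
  obtain ⟨n, hn2⟩ := Cit.odd_orderOf hodd h6
  have hcom : Commute k a := h5 k hk a h6
  have h7 : x ^ (orderOf a) = x := by
    rw [hn2, pow_add, pow_mul, pow_two, hx, one_pow, one_mul, pow_one]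
  have h8 : x = k ^ (orderOf a) := by
    rw [← h7]
    conv_lhs => rw [hxa]
    rw [hcom.mul_pow, pow_orderOf_eq_one, mul_one]
  rw [h8]
  exact h5 _ (pow_mem hk _) o ho

/-! ### The set-up -/

/-- The set-up. -/
structure Su {ι : Type} (CA : Subgroup G) (P : ι → Subgroup G) (y : ι → G) (J : ι → Subgroup G) : Prop where
  inf : ∀ k, CA = P k ⊓ centralizer ({y k} : Set G)
  pr : ∀ k, IsPr (J k) (y k)
  le : ∀ k, J k ≤ CA
  sn : ∀ k, Sn (J k ⊔ OO CA) CA
  cen : ∀ i k, i ≠ k → P k ≤ centralizer ({y i} : Set G)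
  yinj : Function.Injective y
  three : ∀ a b c, a ≠ b → a ≠ c → b ≠ c → y a * y b ≠ y c
  min : ∀ k, ∃ i, i ≠ k ∧ ¬ Sn (J i ⊔ OO (P k)) (P k)

namespace Su

variable {ι : Type} {CA : Subgroup G} {P : ι → Subgroup G} {y : ι → G} {J : ι → Subgroup G} (h : Su CA P y J)

include h

theorem leP (k : ι) : CA ≤ P k := by rw [h.inf k]; exact inf_le_left

theorem mem (i : ι) : y i ∈ CA := h.le i (h.pr i).mem

theorem memP (i k : ι) : y i ∈ P k := h.leP k (h.mem i)

theorem sq (i : ι) : y i * y i = 1 := (h.pr i).t3.z_sq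

theorem comm (i : ι) {c : G} (hc : c ∈ CA) : c * y i = y i * c := by
  rw [h.inf i] at hc
  exact mem_centralizer_singleton_iff.1 hc.2

variable [Finite G]

/-- the image of `J i` in `P k / O(P k)` -/
theorem pr_f (i k : ι) : IsPr (((J i).subgroupOf (P k)).map (QuotientGroup.mk' (pPrimeCore 2 ↥(P k))))
    (QuotientGroup.mk' (pPrimeCore 2 ↥(P k)) ⟨y i, h.memP i k⟩) := by
  refine ((h.pr i).subgroupOf ((h.le i).trans (h.leP k))).map _ ?_
  intro h1
  have h2 : (⟨y i, h.memP i k⟩ : P k) ∈ pPrimeCore 2 ↥(P k) := (QuotientGroup.eq_one_iff _).1 h1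
  have h3 := Cit.eq_one_of_odd (not_two_dvd_oddCore ↥(P k)) h2 (a := 1) (Subtype.ext (by
    rw [pow_one, pow_two]; exact h.sq i))
  have h4 : y i = 1 := congrArg Subtype.val h3
  have h5 := (h.pr i).ord
  rw [h4, orderOf_one] at h5
  exact absurd h5 (by norm_num)

theorem cent_f (k : ι) : (CA.subgroupOf (P k)).map (QuotientGroup.mk' (pPrimeCore 2 ↥(P k))) =
    centralizer ({QuotientGroup.mk' (pPrimeCore 2 ↥(P k)) ⟨y k, h.memP k k⟩} : Set _) := by
  rw [← centralizer_map (QuotientGroup.mk'_surjective _) (by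
    rw [QuotientGroup.ker_mk']; exact not_two_dvd_oddCore ↥(P k)) (z := (⟨y k, h.memP k k⟩ : P k))
    (Subtype.ext (h.sq k)), ← centralizer_subgroupOf]
  congr 1
  ext w
  rw [mem_subgroupOf, mem_subgroupOf, h.inf k]
  exact ⟨fun h => h.2, fun h => ⟨w.2, h⟩⟩

/-- `O(CA) ≤ O(P k)` -/
theorem core_le (hT : TStmt.{u}) (k : ι) : OO CA ≤ OO (P k) := by
  set f := QuotientGroup.mk' (pPrimeCore 2 ↥(P k)) with hf
  set x := f ⟨y k, h.memP k k⟩ with hx
  set C := centralizer ({x} : Set (↥(P k) ⧸ pPrimeCore 2 ↥(P k))) with hC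
  have hCf : (CA.subgroupOf (P k)).map f = C := h.cent_f k
  have hlk : J k ≤ P k := (h.le k).trans (h.leP k)
  have hol : OO CA ≤ P k := (OO_le _).trans (h.leP k)
  -- the image of `O(CA)`
  have hN : ((OO CA).subgroupOf (P k)).map f ≤ OO C := by
    refine le_OO ?_ ?_ ?_
    · rw [← hCf]
      exact Subgroup.map_mono (fun w hw => OO_le CA (mem_subgroupOf.1 hw))
    · rw [← hCf]
      refine (Subgroup.map_mono ?_).trans (le_normalizer_map _)
      intro w hw
      rw [mem_normalizer_iff]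
      intro v
      exact mem_normalizer_iff.1 (le_normalizer_OO CA hw) v
    · intro h2
      apply odd_OO CA
      refine h2.trans ((Subgroup.card_map_dvd _ _).trans ?_)
      rw [Nat.card_congr (subgroupOfEquivOfLe hol).toEquiv]
  have hs : Sn (((J k).subgroupOf (P k)).map f ⊔ OO C) C := by
    have h1 := ((h.sn k).comap (P k).subtype).map f
    have h2 : (CA.comap (P k).subtype).map f = C := hCf
    rw [h2] at h1
    have h3 := Sn.sup_normal h1 (OO_le C) (le_normalizer_OO C)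
    have h4 : (J k ⊔ OO CA).comap (P k).subtype = (J k).subgroupOf (P k) ⊔ (OO CA).subgroupOf (P k) :=
      subgroupOf_sup hlk hol
    rw [h4, Subgroup.map_sup, sup_assoc, sup_eq_right.2 hN] at h3
    exact h3
  have h5 := core_mod hT (h.pr_f k k) hs
  rw [Lib.Cores.pPrimeCore_quotient_pPrimeCore, le_bot_iff] at h5
  have h6 : OO C = ⊥ := h5
  rw [h6, le_bot_iff, Subgroup.map_eq_bot_iff, hf, QuotientGroup.ker_mk', ← OO_subgroupOf] at hN
  intro a ha
  have h7 : (⟨a, hol ha⟩ : P k) ∈ (OO CA).subgroupOf (P k) := ha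
  exact hN h7

theorem core_eq (hT : TStmt.{u}) (k : ι) :
    pPrimeCore 2 ↥CA = (pPrimeCore 2 ↥(P k)).comap (inclusion (h.leP k)) :=
  core_comap (h.leP k) (h.core_le hT k)

/-- the embedding of `CA / O(CA)` -/
noncomputable def g (hT : TStmt.{u}) (k : ι) : (↥CA ⧸ pPrimeCore 2 ↥CA) →* (↥(P k) ⧸ pPrimeCore 2 ↥(P k)) :=
  QuotientGroup.map (pPrimeCore 2 ↥CA) (pPrimeCore 2 ↥(P k)) (inclusion (h.leP k)) (h.core_eq hT k).le

/-- the involutions of `CA / O(CA)` -/
def yq (i : ι) : ↥CA ⧸ pPrimeCore 2 ↥CA := QuotientGroup.mk' (pPrimeCore 2 ↥CA) ⟨y i, h.mem i⟩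

/-- the images in `CA / O(CA)` -/
def Jq (_ : Su CA P y J) (i : ι) : Subgroup (↥CA ⧸ pPrimeCore 2 ↥CA) :=
  ((J i).subgroupOf CA).map (QuotientGroup.mk' (pPrimeCore 2 ↥CA))

theorem g_yq (hT : TStmt.{u}) (i k : ι) :
    h.g hT k (h.yq i) = QuotientGroup.mk' (pPrimeCore 2 ↥(P k)) ⟨y i, h.memP i k⟩ := rfl

theorem map_Jq (hT : TStmt.{u}) (i k : ι) : (h.Jq i).map (h.g hT k) =
    ((J i).subgroupOf (P k)).map (QuotientGroup.mk' (pPrimeCore 2 ↥(P k))) := by
  have h1 : (h.g hT k).comp (QuotientGroup.mk' (pPrimeCore 2 ↥CA)) =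
      (QuotientGroup.mk' (pPrimeCore 2 ↥(P k))).comp (inclusion (h.leP k)) := rfl
  rw [Jq, Subgroup.map_map, h1, ← Subgroup.map_map]
  congr 1
  ext w
  constructor
  · rintro ⟨v, hv, rfl⟩
    exact hv
  · intro hw
    exact ⟨⟨w, h.le i hw⟩, hw, rfl⟩

/-- an element of order 2 in `CA` whose image is trivial -/
theorem eq_one_of (a : ↥CA) (ha : a * a = 1) (h1 : QuotientGroup.mk' (pPrimeCore 2 ↥CA) a = 1) : a = 1 := by
  refine Cit.eq_one_of_odd (not_two_dvd_oddCore ↥CA) ((QuotientGroup.eq_one_iff _).1 h1) (a := 1) ?_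
  rw [pow_one, pow_two, ha]

/-- **the amalgam** -/
theorem am (hT : TStmt.{u}) :
    Am (fun k => ↥(P k) ⧸ pPrimeCore 2 ↥(P k)) (h.g hT) h.yq h.Jq where
  inj k := qmap_injective _ (h.core_eq hT k)
  rng k := qmap_range (h.leP k) _ (h.memP k k) (h.sq k) (h.inf k) (not_two_dvd_oddCore ↥(P k))
  pr k := by
    refine ((h.pr k).subgroupOf (h.le k)).map _ fun h1 => ?_
    have h2 := h.eq_one_of ⟨y k, h.mem k⟩ (Subtype.ext (h.sq k)) h1
    have h3 : y k = 1 := congrArg Subtype.val h2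
    have h5 := (h.pr k).ord
    rw [h3, orderOf_one] at h5
    exact absurd h5 (by norm_num)
  sn k := by
    have h1 := (h.sn k).2.map (QuotientGroup.mk'_surjective (pPrimeCore 2 ↥CA))
    rw [subgroupOf_sup (h.le k) (OO_le CA), OO_subgroupOf, Subgroup.map_sup] at h1
    have h2 : (pPrimeCore 2 ↥CA).map (QuotientGroup.mk' (pPrimeCore 2 ↥CA)) = ⊥ := by
      rw [Subgroup.map_eq_bot_iff, QuotientGroup.ker_mk']
    rw [h2, sup_bot_eq] at h1
    exact h1
  yc k c := by
    obtain ⟨c, rfl⟩ := QuotientGroup.mk'_surjective _ c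
    rw [yq, ← map_mul, ← map_mul]
    congr 1
    exact Subtype.ext (h.comm k c.2)
  cen i k hik := by
    rw [mem_center_iff]
    intro c
    obtain ⟨c, rfl⟩ := QuotientGroup.mk'_surjective _ c
    rw [h.g_yq, ← map_mul, ← map_mul]
    congr 1
    exact Subtype.ext (mem_centralizer_singleton_iff.1 (h.cen i k hik c.2))
  O1 := Lib.Cores.pPrimeCore_quotient_pPrimeCore 2
  OH k := Lib.Cores.pPrimeCore_quotient_pPrimeCore 2
  yinj := by
    intro i j hij
    apply h.yinj
    have h1 : QuotientGroup.mk' (pPrimeCore 2 ↥CA) (⟨y i, h.mem i⟩ * ⟨y j, h.mem j⟩) = 1 := by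
      have h2 : QuotientGroup.mk' (pPrimeCore 2 ↥CA) ⟨y i, h.mem i⟩ = QuotientGroup.mk' (pPrimeCore 2 ↥CA) ⟨y j, h.mem j⟩ := hij
      rw [map_mul, h2, ← map_mul]
      rw [show (⟨y j, h.mem j⟩ * ⟨y j, h.mem j⟩ : CA) = 1 from Subtype.ext (h.sq j), map_one]
    have h2 := h.eq_one_of _ (by
      apply Subtype.ext
      show (y i * y j) * (y i * y j) = 1
      calc (y i * y j) * (y i * y j) = (y i * y j) * y i * y j := by group
        _ = y i * (y i * y j) * y j := by rw [h.comm i (mul_mem (h.mem i) (h.mem j))]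
        _ = (y i * y i) * (y j * y j) := by group
        _ = 1 := by rw [h.sq, h.sq, one_mul]) h1
    have h3 : y i * y j = 1 := congrArg Subtype.val h2
    rw [← mul_left_inj (y j), h3, h.sq j]
  three a b c hab hac hbc e := by
    apply h.three a b c hab hac hbc
    have h1 : QuotientGroup.mk' (pPrimeCore 2 ↥CA) (⟨y a, h.mem a⟩ * ⟨y b, h.mem b⟩ * ⟨y c, h.mem c⟩) = 1 := by
      have h2 : QuotientGroup.mk' (pPrimeCore 2 ↥CA) (⟨y a, h.mem a⟩ * ⟨y b, h.mem b⟩) =
        QuotientGroup.mk' (pPrimeCore 2 ↥CA) ⟨y c, h.mem c⟩ := e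
      rw [map_mul, h2, ← map_mul]
      rw [show (⟨y c, h.mem c⟩ * ⟨y c, h.mem c⟩ : CA) = 1 from Subtype.ext (h.sq c), map_one]
    have h2 := h.eq_one_of _ (by
      apply Subtype.ext
      show (y a * y b * y c) * (y a * y b * y c) = 1
      calc (y a * y b * y c) * (y a * y b * y c) = (y a * y b * y c) * y a * (y b * y c) := by group
        _ = y a * (y a * y b * y c) * (y b * y c) := by
          rw [h.comm a (mul_mem (mul_mem (h.mem a) (h.mem b)) (h.mem c))]
        _ = (y a * y a) * ((y b * y c) * y b) * y c := by group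
        _ = (y a * y a) * (y b * (y b * y c)) * y c := by rw [h.comm b (mul_mem (h.mem b) (h.mem c))]
        _ = (y a * y a) * (y b * y b) * (y c * y c) := by group
        _ = 1 := by rw [h.sq, h.sq, h.sq, one_mul, one_mul]) h1
    have h3 : y a * y b * y c = 1 := congrArg Subtype.val h2
    rw [← mul_left_inj (y c), h3, h.sq c]
  min k := by
    obtain ⟨i, hik, hns⟩ := h.min k
    refine ⟨i, hik, fun hs => hns ?_⟩
    have hle : J i ≤ P k := (h.le i).trans (h.leP k)
    have h1 : (((h.Jq i).map (h.g hT k)).comap (QuotientGroup.mk' (pPrimeCore 2 ↥(P k)))).IsSubnormal := hs.comap _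
    rw [h.map_Jq hT i k, comap_map_eq, QuotientGroup.ker_mk', ← OO_subgroupOf, ← subgroupOf_sup hle (OO_le _)] at h1
    exact ⟨sup_le hle (OO_le _), h1⟩

end Su

end Cfsg.Agent.OddHalf.NI3
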