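import Cfsg.Agent.OddHalf.NI3.LemP

/-!
# Node NI over `F₃`, bad types: the elementary abelian normal subgroups of `C(z)` (helper656, TEXT B1-A (1)-(3))

`c1, c3, c5` : the commuting involutions `c₁₂, c₃₄, c₅₆` of `N = Ω₆⁻(3)` (or of a bigger orthogonal group over `F₃`),
`z = c1 c3`, `y = c1 c3 c5`. K-free: all facts about `N` are fields.

* `sn_of` : (*) a normal subgroup `W` of `C(z)` centralised by `J`, `J` subnormal in `C(z) ∩ C(b)`, `b ∈ W`:
  `J` is subnormal in `C(z)`;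
* `comm_of_elem` : (1) `J` centralises every elementary abelian normal 2-subgroup `W` of `C(z)` if `J` is subnormal in
  `C(z) ∩ C(t)`;
* `Core.false` : (3) `W` elementary abelian, normal in `C(z)`, centralised by `c1` and `c3`; then no `w ∈ W` has
  `w c5 w⁻¹ = z c5`;
* `Six.eq_one_or` : every elementary abelian normal 2-subgroup of `C(z)` lies in `⟨z⟩`.
-/

set_option autoImplicit false
set_option linter.style.haveILetI false
set_option linter.unusedSectionVars false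

namespace Cfsg.Agent.OddHalf.NI3.SixW

open Subgroup Cfsg Cfsg.Agent.Cit Cfsg.Agent.Cit.SolvTwo Cfsg.Agent.OddHalf.NI3

variable {G : Type*} [Group G]

/-- the centralizer of an element -/
abbrev Ce (x : G) : Subgroup G := centralizer ({x} : Set G)

theorem mem_Ce {x g : G} : g ∈ Ce x ↔ g * x = x * g := mem_centralizer_singleton_iff

theorem Ce_inf_mul {x y : G} : Ce x ⊓ Ce (x * y) = Ce x ⊓ Ce y := by
  ext g
  rw [mem_inf, mem_inf, mem_Ce, mem_Ce, mem_Ce]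
  constructor
  · rintro ⟨h1, h2⟩
    refine ⟨h1, ?_⟩
    have h3 : x * (g * y) = x * (y * g) := by
      rw [← mul_assoc, ← h1, mul_assoc, h2, mul_assoc]
    exact mul_left_cancel h3
  · rintro ⟨h1, h2⟩
    refine ⟨h1, ?_⟩
    rw [← mul_assoc, h1, mul_assoc, h2, mul_assoc]

/-- an elementary abelian subgroup is abelian -/
theorem el_comm {W : Subgroup G} (hW : ∀ x ∈ W, x * x = 1) {x y : G} (hx : x ∈ W) (hy : y ∈ W) : x * y = y * x := by
  have e3 : (x * y)⁻¹ = x * y := inv_eq_of_mul_eq_one_right (hW _ (mul_mem hx hy))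
  rw [mul_inv_rev, inv_eq_of_mul_eq_one_right (hW x hx), inv_eq_of_mul_eq_one_right (hW y hy)] at e3
  exact e3.symm

theorem el_two {W : Subgroup G} (hW : ∀ x ∈ W, x * x = 1) : IsPGroup 2 W := by
  rintro ⟨x, hx⟩
  refine ⟨1, Subtype.ext ?_⟩
  show x ^ 2 ^ 1 = 1
  rw [pow_one, pow_two, hW x hx]

/-- not all square roots of `z` lie in an elementary abelian group -/
theorem not_all {J W : Subgroup G} {z : G} (h : T3 J z) (hW : ∀ x ∈ W, x * x = 1) : ¬ ∀ y ∈ J, y * y = z → y ∈ W := by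
  intro hall
  obtain ⟨x, hx, -, -, h1, -, -⟩ := h.ex4
  exact h.z_ne (by rw [← h1, hW x (hall x hx h1)])

/-- (*) -/
theorem sn_of {z b : G} {J W : Subgroup G} (hWn : Ce z ≤ normalizer (W : Set G))
    (hJ : J ≤ Ce z) (hJW : ∀ x ∈ J, ∀ w ∈ W, x * w = w * x) (hb : b ∈ W) (hs : Sn J (Ce z ⊓ Ce b)) : Sn J (Ce z) := by
  set C : Subgroup G := Ce z ⊓ centralizer (W : Set G) with hC
  have h1 : Sn C (Ce z) := by
    refine Sn.of_normal inf_le_left ?_
    intro g hg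
    rw [mem_normalizer_iff]
    have key : ∀ g ∈ Ce z, ∀ x ∈ C, g * x * g⁻¹ ∈ C := by
      intro g hg x hx
      obtain ⟨hx1, hx2⟩ := mem_inf.1 hx
      refine mem_inf.2 ⟨(Ce z).mul_mem ((Ce z).mul_mem hg hx1) ((Ce z).inv_mem hg), ?_⟩
      rw [mem_centralizer_iff] at hx2 ⊢
      intro w hw
      have h3 : g⁻¹ * w * g⁻¹⁻¹ ∈ W := (mem_normalizer_iff.1 (hWn ((Ce z).inv_mem hg)) w).1 hw
      have h4 := hx2 _ h3
      calc w * (g * x * g⁻¹) = g * ((g⁻¹ * w * g⁻¹⁻¹) * x) * g⁻¹ := by group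
        _ = g * (x * (g⁻¹ * w * g⁻¹⁻¹)) * g⁻¹ := by rw [h4]
        _ = g * x * g⁻¹ * w := by group
    intro x
    constructor
    · exact key g hg x
    · intro hx
      have := key g⁻¹ ((Ce z).inv_mem hg) _ hx
      have e : g⁻¹ * (g * x * g⁻¹) * g⁻¹⁻¹ = x := by group
      rwa [e] at this
  refine Sn.trans (hs.restrict (C' := C) ?_ ?_) h1
  · refine inf_le_inf_left _ ?_
    intro x hx
    exact mem_Ce.2 ((mem_centralizer_iff.1 hx) b hb).symm
  · intro x hx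
    refine mem_inf.2 ⟨hJ hx, ?_⟩
    rw [mem_centralizer_iff]
    exact fun w hw => (hJW x hx w hw).symm

/-- (1) -/
theorem comm_of_elem [Finite G] {z t : G} {J W : Subgroup G} (htt : t * t = 1) (htz : t * z = z * t)
    (hJ : IsPr J z) (hs : Sn J (Ce t ⊓ Ce z)) (hW : W ≤ Ce z) (hWn : Ce z ≤ normalizer (W : Set G))
    (hWe : ∀ x ∈ W, x * x = 1) : ∀ x ∈ J, ∀ w ∈ W, x * w = w * x := by
  haveI : Fact (Nat.Prime 2) := ⟨Nat.prime_two⟩
  have hJz : J ≤ Ce z := hs.1.trans inf_le_right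
  have hJt : J ≤ Ce t := hs.1.trans inf_le_left
  have key : ∀ v ∈ J, v * v * v = 1 → v ∈ centralizer (W : Set G) := by
    intro v hv h3
    have hc : zpowers v ≤ centralizer (W : Set G) := by
      refine Lib.ThompsonPQ.thompson_p_times_q 2 (zpowers t) (zpowers v) W ?_ ?_ (el_two hWe) ?_ ?_ ?_ ?_
      · rintro ⟨x, k, rfl⟩
        refine ⟨1, ?_⟩
        apply Subtype.ext
        change (t ^ k) ^ (2 ^ 1) = 1
        rw [pow_one, ← zpow_natCast, ← zpow_mul, mul_comm, zpow_mul, zpow_natCast, pow_two, htt, one_zpow]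
      · rw [Nat.card_zpowers]; exact (Nat.coprime_two_right).2 (odd_of_cube h3)
      · rw [zpowers_le, mem_centralizer_iff]
        rintro _ ⟨k, rfl⟩
        exact ((show Commute v t from mem_Ce.1 (hJt hv)).zpow_left k).eq
      · rw [zpowers_le]; exact hWn (mem_Ce.2 htz)
      · rw [zpowers_le]; exact hWn (hJz hv)
      · intro x hx
        obtain ⟨hxW, hxt⟩ := mem_inf.1 hx
        have hxt' : x * t = t * x := ((mem_centralizer_iff.1 hxt) t (mem_zpowers t)).symm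
        rw [mem_centralizer_iff]
        rintro _ ⟨k, rfl⟩
        have h4 : v * x = x * v := by
          refine T3.comm_of_sn hJ.t3 hs (P := W ⊓ Ce t) (le_inf inf_le_right (inf_le_left.trans hW))
            ((el_two hWe).to_le inf_le_left) ?_ ?_ hv h3 (mem_inf.2 ⟨hxW, mem_Ce.2 hxt'⟩)
          · intro g hg
            have hgt := hJt hg
            rw [mem_normalizer_iff]
            intro y
            have h5 := mem_normalizer_iff.1 (hWn (hJz hg)) y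
            constructor
            · intro hy
              obtain ⟨hy1, hy2⟩ := mem_inf.1 hy
              exact mem_inf.2 ⟨h5.1 hy1, (Ce t).mul_mem ((Ce t).mul_mem hgt hy2) ((Ce t).inv_mem hgt)⟩
            · intro hy
              obtain ⟨hy1, hy2⟩ := mem_inf.1 hy
              refine mem_inf.2 ⟨h5.2 hy1, ?_⟩
              have e : y = g⁻¹ * (g * y * g⁻¹) * g⁻¹⁻¹ := by group
              rw [e]
              exact (Ce t).mul_mem ((Ce t).mul_mem ((Ce t).inv_mem hgt) hy2) ((Ce t).inv_mem ((Ce t).inv_mem hgt))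
          · intro hall
            exact not_all hJ.t3 hWe fun y hy hyz => (mem_inf.1 (hall y hy hyz)).1
        exact ((show Commute v x from h4).zpow_left k).eq
    exact hc (mem_zpowers v)
  have h1 : J ≤ centralizer (W : Set G) := hJ.le_of_cube key
  intro x hx w hw
  exact ((mem_centralizer_iff.1 (h1 hx)) w hw).symm

/-- the configuration of (3) -/
structure Core (L1 L2 : Subgroup G) (c1 c3 c5 n : G) : Prop where
  s1 : c1 * c1 = 1
  s3 : c3 * c3 = 1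
  s5 : c5 * c5 = 1
  c13 : c1 * c3 = c3 * c1
  c15 : c1 * c5 = c5 * c1
  c35 : c3 * c5 = c5 * c3
  z1 : c1 * c3 ≠ 1
  q1 : IsPr L1 (c3 * c5)
  q2 : IsPr L2 (c3 * c5)
  r1 : Sn L1 (Ce (c1 * c3 * c5) ⊓ Ce (c3 * c5))
  r2 : Sn L2 (Ce (c1 * c3 * c5) ⊓ Ce (c3 * c5))
  m5 : c5 ∈ L1 ⊔ L2
  n1 : n * c1 * n⁻¹ = c1
  n3 : n * c3 * n⁻¹ = c5
  n5 : n * c5 * n⁻¹ = c3

namespace Core

variable {L1 L2 : Subgroup G} {c1 c3 c5 n : G} (S : Core L1 L2 c1 c3 c5 n)

include S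

/-- `C(y) ∩ C(c₃c₅) = C(c₃c₅) ∩ C(c₁)` -/
theorem ce_eq : Ce (c1 * c3 * c5) ⊓ Ce (c3 * c5) = Ce (c3 * c5) ⊓ Ce c1 := by
  rw [inf_comm]
  have h1 : c1 * c3 * c5 = (c3 * c5) * c1 := by
    rw [mul_assoc, mul_assoc c3 c5, ← S.c15, ← mul_assoc c3, ← S.c13, mul_assoc]
  rw [h1, Ce_inf_mul]

/-- **(3)** -/
theorem false [Finite G] {W : Subgroup G} (hW : W ≤ Ce (c1 * c3))
    (hWn : Ce (c1 * c3) ≤ normalizer (W : Set G)) (hWe : ∀ x ∈ W, x * x = 1)
    (hW1 : ∀ x ∈ W, x * c1 = c1 * x) {w : G} (hw : w ∈ W) (hw5 : w * c5 * w⁻¹ = c1 * c3 * c5) : False := by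
  have hw1 := hW1 w hw
  have hwz := mem_Ce.1 (hW hw)
  have hw3 : w * c3 = c3 * w := by
    have h1 : c1 * (w * c3) = c1 * (c3 * w) := by
      rw [← mul_assoc, ← hw1, mul_assoc, hwz, mul_assoc]
    exact mul_left_cancel h1
  have hw1' : w * c1 * w⁻¹ = c1 := by rw [hw1]; group
  have hw3' : w * c3 * w⁻¹ = c3 := by rw [hw3]; group
  -- the conjugate `w' = n w n⁻¹`
  set w' := n * w * n⁻¹ with hw'
  have g1 : w' * c1 * w'⁻¹ = c1 := by
    calc w' * c1 * w'⁻¹ = n * (w * (n⁻¹ * c1 * n) * w⁻¹) * n⁻¹ := by rw [hw']; group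
      _ = n * (w * c1 * w⁻¹) * n⁻¹ := by
        have : n⁻¹ * c1 * n = c1 := by nth_rw 1 [← S.n1]; group
        rw [this]
      _ = c1 := by rw [hw1', S.n1]
  have g5 : w' * c5 * w'⁻¹ = c5 := by
    calc w' * c5 * w'⁻¹ = n * (w * (n⁻¹ * c5 * n) * w⁻¹) * n⁻¹ := by rw [hw']; group
      _ = n * (w * c3 * w⁻¹) * n⁻¹ := by
        have : n⁻¹ * c5 * n = c3 := by nth_rw 1 [← S.n3]; group
        rw [this]
      _ = c5 := by rw [hw3', S.n3]
  have g3 : w' * c3 * w'⁻¹ = c1 * c5 * c3 := by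
    calc w' * c3 * w'⁻¹ = n * (w * (n⁻¹ * c3 * n) * w⁻¹) * n⁻¹ := by rw [hw']; group
      _ = n * (w * c5 * w⁻¹) * n⁻¹ := by
        have : n⁻¹ * c3 * n = c5 := by nth_rw 1 [← S.n5]; group
        rw [this]
      _ = (n * c1 * n⁻¹) * (n * c3 * n⁻¹) * (n * c5 * n⁻¹) := by rw [hw5]; group
      _ = c1 * c5 * c3 := by rw [S.n1, S.n3, S.n5]
  have g35 : w' * (c3 * c5) * w'⁻¹ = c1 * c3 := by
    calc w' * (c3 * c5) * w'⁻¹ = (w' * c3 * w'⁻¹) * (w' * c5 * w'⁻¹) := by group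
      _ = c1 * (c5 * c3) * c5 := by rw [g3, g5]; group
      _ = c1 * c3 * (c5 * c5) := by rw [← S.c35]; group
      _ = c1 * c3 := by rw [S.s5, mul_one]
  -- the conjugates of `L1`, `L2`
  have key : ∀ L : Subgroup G, IsPr L (c3 * c5) → Sn L (Ce (c1 * c3 * c5) ⊓ Ce (c3 * c5)) →
      ∀ x ∈ L, (w' * x * w'⁻¹) * w = w * (w' * x * w'⁻¹) := by
    intro L hL hs
    rw [S.ce_eq] at hs
    have hL' := hL.cj w'
    rw [g35] at hL'
    have hs' := hs.cj w'
    have hle : Cit.cj w' (Ce (c3 * c5) ⊓ Ce c1) ≤ Ce (c1 * c3) ⊓ Ce c1 := by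
      rintro _ ⟨x, hx, rfl⟩
      obtain ⟨hx1, hx2⟩ := mem_inf.1 hx
      have h1 := mem_Ce.1 hx1
      have h2 := mem_Ce.1 hx2
      refine mem_inf.2 ⟨mem_Ce.2 ?_, mem_Ce.2 ?_⟩
      · show w' * x * w'⁻¹ * (c1 * c3) = c1 * c3 * (w' * x * w'⁻¹)
        rw [← g35]
        calc w' * x * w'⁻¹ * (w' * (c3 * c5) * w'⁻¹) = w' * (x * (c3 * c5)) * w'⁻¹ := by group
          _ = _ := by rw [h1]; group
      · show w' * x * w'⁻¹ * c1 = c1 * (w' * x * w'⁻¹)
        calc w' * x * w'⁻¹ * c1 = w' * x * w'⁻¹ * (w' * c1 * w'⁻¹) := by rw [g1]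
          _ = w' * (x * c1) * w'⁻¹ := by group
          _ = (w' * c1 * w'⁻¹) * (w' * x * w'⁻¹) := by rw [h2]; group
          _ = c1 * (w' * x * w'⁻¹) := by rw [g1]
    have hge : Ce (c1 * c3) ⊓ Ce c1 ≤ Cit.cj w' (Ce (c3 * c5) ⊓ Ce c1) := by
      intro x hx
      obtain ⟨hx1, hx2⟩ := mem_inf.1 hx
      have h1 := mem_Ce.1 hx1
      have h2 := mem_Ce.1 hx2
      refine ⟨w'⁻¹ * x * w', mem_inf.2 ⟨mem_Ce.2 ?_, mem_Ce.2 ?_⟩, ?_⟩
      · have e : c3 * c5 = w'⁻¹ * (c1 * c3) * w' := by rw [← g35]; group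
        rw [e]
        calc w'⁻¹ * x * w' * (w'⁻¹ * (c1 * c3) * w') = w'⁻¹ * (x * (c1 * c3)) * w' := by group
          _ = _ := by rw [h1]; group
      · have e : c1 = w'⁻¹ * c1 * w' := by nth_rw 2 [← g1]; group
        rw [e]
        calc w'⁻¹ * x * w' * (w'⁻¹ * c1 * w') = w'⁻¹ * (x * c1) * w' := by group
          _ = _ := by rw [h2]; group
      · show w' * (w'⁻¹ * x * w') * w'⁻¹ = x
        group
    rw [le_antisymm hle hge] at hs'
    have hall : Cit.cj w' L ≤ Ce w := by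
      refine hL'.le_of_cube ?_
      intro v hv h3
      refine mem_Ce.2 (T3.comm_of_sn hL'.t3 hs' (P := W) (le_inf hW fun x hx => mem_Ce.2 (hW1 x hx)) (el_two hWe)
        ?_ (not_all hL'.t3 hWe) hv h3 hw)
      exact (hs'.1.trans inf_le_left).trans hWn
    intro x hx
    exact mem_Ce.1 (hall ⟨x, hx, rfl⟩)
  have h5 : L1 ⊔ L2 ≤ (Ce w).comap (MulAut.conj w').toMonoidHom :=
    sup_le (fun x hx => mem_Ce.2 (key L1 S.q1 S.r1 x hx)) (fun x hx => mem_Ce.2 (key L2 S.q2 S.r2 x hx))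
  have h6 : (w' * c5 * w'⁻¹) * w = w * (w' * c5 * w'⁻¹) := mem_Ce.1 (h5 S.m5)
  rw [g5] at h6
  rw [← h6, mul_inv_cancel_right] at hw5
  exact S.z1 (mul_eq_right.1 hw5.symm)

end Core

/-- the full configuration -/
structure Six (J1 J2 L1 L2 N : Subgroup G) (c1 c3 c5 n : G) : Prop extends Core L1 L2 c1 c3 c5 n where
  p1 : IsPr J1 (c1 * c3)
  p2 : IsPr J2 (c1 * c3)
  t1 : Sn J1 (Ce (c1 * c3 * c5) ⊓ Ce (c1 * c3))
  t2 : Sn J2 (Ce (c1 * c3 * c5) ⊓ Ce (c1 * c3))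
  m1 : c1 ∈ J1 ⊔ J2
  /-- `C_{Aut N}(J₁J₂)` acts on `⟨e₅, e₆⟩` as `O₂⁻(3)` -/
  act : ∀ w, w * w = 1 → w * (c1 * c3 * c5) = c1 * c3 * c5 * w → (∀ x ∈ J1 ⊔ J2, w * x = x * w) →
    (∃ g, g * (c1 * c3) = c1 * c3 * g ∧ w * g * w⁻¹ * g⁻¹ = c5) ∨ w ∈ centralizer (N : Set G) ∨
      w * (c1 * c3) ∈ centralizer (N : Set G)
  /-- `N` is standard -/
  std : ∀ b, b * b = 1 → b ≠ 1 → b ∈ centralizer (N : Set G) → Sn J1 (Ce (c1 * c3) ⊓ Ce b)
  /-- `(z, J₁)` is not a classical pair -/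
  noc : ¬ Sn J1 (Ce (c1 * c3))

namespace Six

variable {J1 J2 L1 L2 N : Subgroup G} {c1 c3 c5 n : G} (S : Six J1 J2 L1 L2 N c1 c3 c5 n)

include S

theorem zz : (c1 * c3) * (c1 * c3) = 1 := by
  calc (c1 * c3) * (c1 * c3) = c1 * (c3 * c1) * c3 := by group
    _ = (c1 * c1) * (c3 * c3) := by rw [← S.c13]; group
    _ = 1 := by rw [S.s1, S.s3, one_mul]

theorem z5 : (c1 * c3) * c5 = c5 * (c1 * c3) := by
  rw [mul_assoc, S.c35, ← mul_assoc, S.c15, mul_assoc]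

theorem yy : (c1 * c3 * c5) * (c1 * c3 * c5) = 1 := by
  calc (c1 * c3 * c5) * (c1 * c3 * c5) = (c1 * c3) * (c5 * (c1 * c3)) * c5 := by group
    _ = ((c1 * c3) * (c1 * c3)) * (c5 * c5) := by rw [← S.z5]; group
    _ = 1 := by rw [S.zz, S.s5, one_mul]

theorem yz : (c1 * c3 * c5) * (c1 * c3) = (c1 * c3) * (c1 * c3 * c5) := by
  rw [mul_assoc, ← S.z5]

/-- **(1)-(3)**: every elementary abelian normal 2-subgroup of `C(z)` lies in `⟨z⟩` -/
theorem eq_one_or [Finite G] {W : Subgroup G} (hW : W ≤ Ce (c1 * c3))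
    (hWn : Ce (c1 * c3) ≤ normalizer (W : Set G)) (hWe : ∀ x ∈ W, x * x = 1) {w : G} (hw : w ∈ W) :
    w = 1 ∨ w = c1 * c3 := by
  have hJ1 := comm_of_elem S.yy S.yz S.p1 S.t1 hW hWn hWe
  have hJ2 := comm_of_elem S.yy S.yz S.p2 S.t2 hW hWn hWe
  have hD : ∀ w ∈ W, ∀ x ∈ J1 ⊔ J2, w * x = x * w := by
    intro w hw x hx
    have h1 : J1 ⊔ J2 ≤ Ce w := sup_le (fun x hx => mem_Ce.2 (hJ1 x hx w hw)) (fun x hx => mem_Ce.2 (hJ2 x hx w hw))
    exact (mem_Ce.1 (h1 hx)).symm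
  have hst : ∀ b ∈ W, ¬ Sn J1 (Ce (c1 * c3) ⊓ Ce b) := fun b hb hs =>
    S.noc (sn_of hWn (S.t1.1.trans inf_le_right) hJ1 hb hs)
  have hyb : Ce (c1 * c3) ⊓ Ce c5 = Ce (c1 * c3) ⊓ Ce (c1 * c3 * c5) := Ce_inf_mul.symm
  -- (2)
  have key : ∀ w ∈ W, w * (c1 * c3 * c5) = c1 * c3 * c5 * w → w = 1 ∨ w = c1 * c3 := by
    intro w hw hwy
    by_contra hcon
    push Not at hcon
    obtain ⟨hw1, hwz⟩ := hcon
    rcases S.act w (hWe w hw) hwy (hD w hw) with ⟨g, hg, hg5⟩ | h1 | h1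
    · have h2 : c5 ∈ W := by
        rw [← hg5]
        have h3 : g * w⁻¹ * g⁻¹ ∈ W := (mem_normalizer_iff.1 (hWn (mem_Ce.2 hg)) w⁻¹).1 (inv_mem hw)
        have h4 := mul_mem hw h3
        have e : w * (g * w⁻¹ * g⁻¹) = w * g * w⁻¹ * g⁻¹ := by group
        rwa [e] at h4
      refine hst c5 h2 ?_
      rw [hyb, inf_comm]; exact S.t1
    · exact hst w hw (S.std w (hWe w hw) hw1 h1)
    · have hzw : w * (c1 * c3) = (c1 * c3) * w := mem_Ce.1 (hW hw)
      refine hst w hw ?_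
      have h2 : Ce (c1 * c3) ⊓ Ce w = Ce (c1 * c3) ⊓ Ce (w * (c1 * c3)) := by
        rw [hzw, Ce_inf_mul]
      rw [h2]
      refine S.std _ ?_ ?_ h1
      · calc w * (c1 * c3) * (w * (c1 * c3)) = w * ((c1 * c3) * w) * (c1 * c3) := by group
          _ = (w * w) * ((c1 * c3) * (c1 * c3)) := by rw [← hzw]; group
          _ = 1 := by rw [hWe w hw, S.zz, one_mul]
      · intro h3
        apply hwz
        rw [mul_eq_one_iff_eq_inv.1 h3]
        exact inv_eq_of_mul_eq_one_right S.zz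
  by_cases hwy : w * (c1 * c3 * c5) = c1 * c3 * c5 * w
  · exact key w hw hwy
  · -- (3)
    exfalso
    have hyn : c1 * c3 * c5 ∈ Ce (c1 * c3) := mem_Ce.2 S.yz
    have hyw : (c1 * c3 * c5) * w * (c1 * c3 * c5)⁻¹ ∈ W := (mem_normalizer_iff.1 (hWn hyn) w).1 hw
    have hyi : (c1 * c3 * c5)⁻¹ = c1 * c3 * c5 := inv_eq_of_mul_eq_one_right S.yy
    have hyy := S.yy
    have h0 := S.z5
    have hwi : w⁻¹ = w := inv_eq_of_mul_eq_one_right (hWe w hw)
    have h13 : c1 * c3 ∈ J1 ⊔ J2 := mem_sup_left S.p1.mem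
    have hc : w * (c1 * c3) = c1 * c3 * w := hD w hw _ h13
    generalize hy : c1 * c3 * c5 = y at *
    have hcm := el_comm hWe hw hyw
    have h1 := key (w * (y * w * y⁻¹)) (mul_mem hw hyw) (by
      rw [hyi] at hcm ⊢
      calc w * (y * w * y) * y = (y * w * y) * w * y := by rw [hcm]
        _ = y * (w * (y * w * y)) := by group)
    rcases h1 with h1 | h1
    · apply hwy
      rw [hyi] at h1
      have h2 : y * w * y = w⁻¹ := (mul_eq_one_iff_inv_eq.1 h1).symm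
      rw [hwi] at h2
      calc w * y = (y * w * y) * y := by rw [h2]
        _ = y * w * (y * y) := by group
        _ = y * w := by rw [hyy, mul_one]
    · -- `w c5 w⁻¹ = z c5`
      refine S.toCore.false hW hWn hWe (fun x hx => hD x hx c1 S.m1) hw ?_
      have h2 : w * c5 * w⁻¹ = (c1 * c3) * (w * y * w⁻¹) := by
        rw [← hy]
        calc w * c5 * w⁻¹ = w * ((c1 * c3) * (c1 * c3)) * c5 * w⁻¹ := by rw [S.zz, mul_one]
          _ = (w * (c1 * c3)) * (c1 * c3 * c5) * w⁻¹ := by group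
          _ = (c1 * c3) * (w * (c1 * c3 * c5) * w⁻¹) := by rw [hc]; group
      have h3 : w * y * w⁻¹ = (c1 * c3) * y := by
        rw [← h1, hyi, hwi]
        calc w * y * w = w * y * w * 1 := by group
          _ = w * y * w * (y * y) := by rw [hyy]
          _ = _ := by group
      rw [h2, h3, ← mul_assoc, S.zz, one_mul]
      exact hy.symm

end Six

end Cfsg.Agent.OddHalf.NI3.SixW
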