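import Cfsg.Agent.Cit.SolvTwo
import Cfsg.Agent.Cit.OneComp
import Cfsg.Agent.Cit.SLThreeMain
import Cfsg.Agent.Cit.TPieces

/-!
# Node NI over `F₃`: subnormal subgroups of subgroups, subgroups isomorphic to `SL₂(3)`

`Sn J C` : `J` is a subnormal subgroup of `C`. `T3 J z` (from `Cit.SolvTwo`) : `J ≅ SL₂(3)` with involution `z`.
`T3.comm_of_sn` : a 2-subgroup of `C` normalised by `J`, which does not contain `O₂(J)`, is centralised by the elements
of order 3 of `J` (`J` subnormal in `C`).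
-/

set_option autoImplicit false
set_option linter.style.haveILetI false

namespace Cfsg.Agent.OddHalf.NI3

open Subgroup Cfsg Cfsg.Agent.Cit Cfsg.Agent.Cit.SolvTwo

variable {G G' : Type*} [Group G] [Group G']

/-- `J` is a subnormal subgroup of `C` -/
def Sn (J C : Subgroup G) : Prop := J ≤ C ∧ (J.subgroupOf C).IsSubnormal

namespace Sn

variable {J C C' D : Subgroup G}

theorem le (h : Sn J C) : J ≤ C := h.1

theorem refl (C : Subgroup G) : Sn C C := ⟨le_rfl, by rw [subgroupOf_self]; exact IsSubnormal.top⟩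

theorem comap (f : G' →* G) {J C : Subgroup G} (h : Sn J C) : Sn (J.comap f) (C.comap f) := by
  refine ⟨comap_mono h.1, ?_⟩
  have h1 := h.2.comap (f.subgroupComap C)
  exact h1

theorem map (f : G →* G') {J C : Subgroup G} (h : Sn J C) : Sn (J.map f) (C.map f) := by
  refine ⟨map_mono h.1, ?_⟩
  have h1 := h.2.map (f := f.subgroupMap C) (f.subgroupMap_surjective C)
  convert h1 using 1
  ext x
  constructor
  · rintro ⟨y, hy, hyx⟩
    exact ⟨⟨y, h.1 hy⟩, hy, Subtype.ext hyx⟩
  · rintro ⟨y, hy, rfl⟩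
    exact ⟨y, hy, rfl⟩

theorem restrict (h : Sn J C) (hC : C' ≤ C) (hJ : J ≤ C') : Sn J C' := by
  refine ⟨hJ, ?_⟩
  exact h.2.comap (inclusion hC)

theorem trans (h : Sn J C) (h' : Sn C D) : Sn J D := by
  refine ⟨h.1.trans h'.1, ?_⟩
  refine IsSubnormal.trans (K := C.subgroupOf D) (fun x hx => h.1 hx) ?_ h'.2
  exact h.2.comap ((subgroupOfEquivOfLe h'.1).toMonoidHom)

theorem of_normal (h : J ≤ C) (hn : C ≤ normalizer (J : Set G)) : Sn J C :=
  ⟨h, ((normal_subgroupOf_iff_le_normalizer h).2 hn).isSubnormal⟩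

theorem isSubnormal (h : Sn J C) (hC : C.IsSubnormal) : J.IsSubnormal := h.2.trans h.1 hC

theorem of_isSubnormal (h : J.IsSubnormal) (hJ : J ≤ C) : Sn J C := ⟨hJ, h.comap C.subtype⟩

theorem inf (h : Sn J C) (D : Subgroup G) : Sn (J ⊓ D) (C ⊓ D) := by
  have h1 : (D ⊓ C) ≤ C := inf_le_right
  refine ⟨inf_le_inf_right _ h.1, ?_⟩
  have h2 := h.2.comap (inclusion (inf_le_left : C ⊓ D ≤ C))
  convert h2 using 1
  ext x
  simp only [mem_subgroupOf, mem_comap, mem_inf]
  exact ⟨fun hx => hx.1, fun hx => ⟨hx, x.2.2⟩⟩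

theorem inf_of_isSubnormal (h : J.IsSubnormal) (D : Subgroup G) : Sn (J ⊓ D) D := by
  refine ⟨inf_le_right, ?_⟩
  rw [inf_subgroupOf_right]
  exact h.comap D.subtype

theorem subgroupOf_iff (H : Subgroup G) (hC : C ≤ H) (hJ : J ≤ H) :
    Sn (J.subgroupOf H) (C.subgroupOf H) ↔ Sn J C := by
  constructor
  · intro h
    have h1 := h.map H.subtype
    rwa [map_subgroupOf_eq_of_le hC, map_subgroupOf_eq_of_le hJ] at h1
  · intro h
    exact h.comap H.subtype

theorem cj (g : G) (h : Sn J C) : Sn (Cit.cj g J) (Cit.cj g C) := h.map _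

end Sn

/-! ### Subnormal subgroups of 2-power index -/

/-- a subnormal subgroup of 2-power index contains all elements of odd order -/
theorem mem_of_index {X : Type*} [Group X] {N : Subgroup X} (hN : N.IsSubnormal) :
    ∀ {n : ℕ}, N.index ∣ 2 ^ n → ∀ {v : X}, Odd (orderOf v) → v ∈ N := by
  induction hN with
  | top => intro n _ v _; exact mem_top v
  | step H K hle hK hHK ih =>
    intro n hn v hv
    have h1 : v ∈ K := ih ((index_dvd_of_le hle).trans hn) hv
    have h2 : H.relIndex K ∣ 2 ^ n := (relIndex_dvd_index_of_le hle).trans hn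
    haveI := hHK
    have h3 : orderOf ((⟨v, h1⟩ : K) : ↥K ⧸ H.subgroupOf K) ∣ 2 ^ n :=
      (_root_.orderOf_dvd_natCard _).trans h2
    have h4 : orderOf ((⟨v, h1⟩ : K) : ↥K ⧸ H.subgroupOf K) ∣ orderOf v := by
      have h5 := orderOf_map_dvd (QuotientGroup.mk' (H.subgroupOf K)) (⟨v, h1⟩ : K)
      have h6 : orderOf (⟨v, h1⟩ : K) = orderOf v := (orderOf_coe (⟨v, h1⟩ : K)).symm
      rwa [h6] at h5
    have h5 : Nat.Coprime (2 ^ n) (orderOf v) := Nat.Coprime.pow_left n (Nat.coprime_two_left.2 hv)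
    have h6 := Nat.dvd_gcd h3 h4
    rw [h5, Nat.dvd_one, orderOf_eq_one_iff, QuotientGroup.eq_one_iff] at h6
    exact h6

/-- `J` subnormal in `J P`, `P` a 2-group normalised by `J`: the odd elements of `J P` are in `J` -/
theorem mem_of_sup [Finite G] {J P : Subgroup G} (hs : Sn J (J ⊔ P)) (hP : IsPGroup 2 P)
    (hn : J ≤ normalizer (P : Set G)) {v : G} (hv : v ∈ J ⊔ P) (ho : Odd (orderOf v)) : v ∈ J := by
  haveI : Fact (Nat.Prime 2) := ⟨Nat.prime_two⟩
  obtain ⟨n, hn2⟩ := IsPGroup.iff_card.1 hP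
  -- the index
  have hPn : (P.subgroupOf (J ⊔ P)).Normal :=
    (normal_subgroupOf_iff_le_normalizer le_sup_right).2 (sup_le hn le_normalizer)
  have h1 : P.relIndex (J ⊔ P) ∣ Nat.card J := by
    have h2 : P.relIndex (J ⊔ P) = P.relIndex J := by
      have h3 : (P.subgroupOf (J ⊔ P)).relIndex ((J.subgroupOf (J ⊔ P)) ⊔ (P.subgroupOf (J ⊔ P))) =
          (P.subgroupOf (J ⊔ P)).relIndex (J.subgroupOf (J ⊔ P)) := relIndex_sup_right _ _
      rw [← relIndex_map_map_of_injective _ _ (J ⊔ P).subtype_injective,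
        ← relIndex_map_map_of_injective _ _ (J ⊔ P).subtype_injective, Subgroup.map_sup,
        map_subgroupOf_eq_of_le le_sup_right, map_subgroupOf_eq_of_le le_sup_left] at h3
      exact h3
    rw [h2]
    exact relIndex_dvd_card _ _
  have hcm : ∀ A B : Subgroup G, A ≤ B → A.relIndex B * Nat.card A = Nat.card B := by
    intro A B hAB
    have h5 := (A.subgroupOf B).index_mul_card
    rwa [Nat.card_congr (subgroupOfEquivOfLe hAB).toEquiv] at h5
  have h2 : J.relIndex (J ⊔ P) * Nat.card J = P.relIndex (J ⊔ P) * Nat.card P := by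
    rw [hcm J _ le_sup_left, hcm P _ le_sup_right]
  have h3 : J.relIndex (J ⊔ P) ∣ Nat.card P := by
    obtain ⟨c, hc⟩ := h1
    have h4 : 0 < P.relIndex (J ⊔ P) := Nat.pos_of_ne_zero (by
      intro h0
      rw [h0, zero_mul] at hc
      exact (Nat.card_pos (α := J)).ne' hc)
    refine ⟨c, ?_⟩
    have h5 : J.relIndex (J ⊔ P) * (P.relIndex (J ⊔ P) * c) = P.relIndex (J ⊔ P) * Nat.card P := by
      rw [← hc]; exact h2
    have h6 : P.relIndex (J ⊔ P) * (J.relIndex (J ⊔ P) * c) = P.relIndex (J ⊔ P) * Nat.card P := by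
      rw [← h5]; ring
    exact (Nat.eq_of_mul_eq_mul_left h4 h6).symm
  rw [hn2] at h3
  have h4 := mem_of_index hs.2 (n := n) h3 (v := ⟨v, hv⟩) (by rwa [orderOf_mk])
  exact h4

/-! ### `SL₂(3)` -/

/-- the group `SL₂(3)` -/
abbrev SL23 := Matrix.SpecialLinearGroup (Fin 2) (ZMod 3)

theorem odd_of_cube {v : G} (h : v * v * v = 1) : Odd (orderOf v) := by
  have h1 : orderOf v ∣ 3 := orderOf_dvd_of_pow_eq_one (by rw [pow_succ, pow_succ, pow_one]; exact h)
  exact Odd.of_dvd_nat (by decide) h1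

/-- a 2-subgroup normalised by `J` which contains an element of `J` outside `{1, z}` contains `O₂(J)` -/
theorem T3.mem_or {J P : Subgroup G} {z : G} (h : T3 J z) (hP : IsPGroup 2 P) (hn : J ≤ normalizer (P : Set G))
    (hne : ¬ ∀ y ∈ J, y * y = z → y ∈ P) {x : G} (hx : x ∈ J) (hxP : x ∈ P) : x = 1 ∨ x = z := by
  obtain ⟨n, hn2⟩ := hP ⟨x, hxP⟩
  have hx2 : x ^ 2 ^ n = 1 := by simpa using congrArg Subtype.val hn2
  rcases h.cases x hx with h1 | h1 | h1 | h1 | h1
  · exfalso
    apply hne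
    intro y hy hyz
    obtain ⟨g, hg, hgx⟩ := h.conj x hx y hy h1 hyz
    rw [← hgx]
    exact (mem_normalizer_iff.1 (hn hg) x).1 hxP
  · exact Or.inl h1
  · exact Or.inr h1
  · left
    exact Cit.SLThree.Sl.eq_one_of_cube h1 hx2
  · right
    -- `x ^ 6 = 1`, so `x ^ 2 = 1`
    have h2 : (x * x) * (x * x) * (x * x) = 1 := by
      calc (x * x) * (x * x) * (x * x) = (x * x * x) * (x * x * x) := by group
        _ = 1 := by rw [h1, h.z_sq]
    have h3 : x * x = 1 := by
      refine Cit.SLThree.Sl.eq_one_of_cube h2 (n := n) ?_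
      rw [← pow_two, ← pow_mul, mul_comm, pow_mul, hx2, one_pow]
    rw [← h1, h3, one_mul]

/-- a 2-subgroup of `C` normalised by `J`, not containing `O₂(J)`, is centralised by the elements of order 3 of the
subnormal subgroup `J` of `C` -/
theorem T3.comm_of_sn [Finite G] {J C P : Subgroup G} {z : G} (h : T3 J z) (hs : Sn J C) (hPC : P ≤ C)
    (hP : IsPGroup 2 P) (hn : J ≤ normalizer (P : Set G)) (hne : ¬ ∀ y ∈ J, y * y = z → y ∈ P)
    {v : G} (hv : v ∈ J) (h3 : v * v * v = 1) {w : G} (hw : w ∈ P) : v * w = w * v := by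
  have hs' : Sn J (J ⊔ P) := hs.restrict (sup_le hs.1 hPC) le_sup_left
  have h1 : w⁻¹ * v * w ∈ J := by
    refine mem_of_sup hs' hP hn ?_ ?_
    · exact mul_mem (mul_mem (inv_mem (mem_sup_right hw)) (mem_sup_left hv)) (mem_sup_right hw)
    · have h4 : orderOf (w⁻¹ * v * w) = orderOf v := by
        have := orderOf_injective (MulAut.conj w⁻¹).toMonoidHom (MulAut.conj w⁻¹).injective v
        simpa using this
      rw [h4]; exact odd_of_cube h3
  set c := w⁻¹ * v * w * v⁻¹ with hc
  have hcJ : c ∈ J := mul_mem h1 (inv_mem hv)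
  have hcP : c ∈ P := by
    have h5 : v * w * v⁻¹ ∈ P := (mem_normalizer_iff.1 (hn hv) w).1 hw
    have h6 : c = w⁻¹ * (v * w * v⁻¹) := by rw [hc]; group
    rw [h6]; exact mul_mem (inv_mem hw) h5
  have hcc : c * c = 1 ∧ c * v = v * c := by
    rcases T3.mem_or h hP hn hne hcJ hcP with h5 | h5
    · rw [h5]; exact ⟨by simp, by simp⟩
    · rw [h5]
      refine ⟨h.z_sq, ?_⟩
      -- `z` is central
      by_cases hz : v * z * v⁻¹ = z
      · rw [← mul_inv_eq_iff_eq_mul.1 (by simpa using hz)]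
      · exfalso
        have h7 : (v * z * v⁻¹) * (v * z * v⁻¹) = 1 := by
          calc (v * z * v⁻¹) * (v * z * v⁻¹) = v * (z * z) * v⁻¹ := by group
            _ = 1 := by rw [h.z_sq]; group
        have h8 : v * z * v⁻¹ ∈ J := mul_mem (mul_mem hv h.z_mem) (inv_mem hv)
        rcases h.cases _ h8 with h9 | h9 | h9 | h9 | h9
        · exact h.z_ne (by rw [← h9, h7])
        · apply h.z_ne
          have : z = v⁻¹ * (v * z * v⁻¹) * v := by group
          rw [this, h9]; group
        · exact hz h9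
        · rw [h7, one_mul] at h9
          apply h.z_ne
          have : z = v⁻¹ * (v * z * v⁻¹) * v := by group
          rw [this, h9]; group
        · rw [h7, one_mul] at h9
          exact hz h9
  have h5 : w⁻¹ * v * w = c * v := by rw [hc]; group
  have h6 : (c * v) * (c * v) * (c * v) = 1 := by
    rw [← h5]
    calc (w⁻¹ * v * w) * (w⁻¹ * v * w) * (w⁻¹ * v * w) = w⁻¹ * (v * v * v) * w := by group
      _ = 1 := by rw [h3]; group
  have h7 : (c * v) * (c * v) * (c * v) = c := by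
    calc (c * v) * (c * v) * (c * v) = c * (v * c) * (v * c) * v := by group
      _ = c * (c * v) * (c * v) * v := by rw [← hcc.2]
      _ = (c * c) * (v * c) * v * v := by group
      _ = (c * v) * v * v := by rw [hcc.1, one_mul, ← hcc.2]
      _ = c * (v * v * v) := by group
      _ = c := by rw [h3, mul_one]
  rw [h7] at h6
  rw [h6, one_mul] at h5
  calc v * w = w * (w⁻¹ * v * w) := by group
    _ = w * v := by rw [h5]

end Cfsg.Agent.OddHalf.NI3
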