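import Cfsg.Agent.OddHalf.NI3.SetUp
import Cfsg.Agent.OddHalf.NI3.Props

/-!
# THEOREM X(3)

`noFam3` : `Ctx G → NoFam3 G` from `F23a`, `F23b S7`, `AutM3 S7`, `Sol3 S7`.
-/

set_option autoImplicit false
set_option linter.style.haveILetI false
set_option linter.unusedSectionVars false

namespace Cfsg.Agent.OddHalf.NI3

open Subgroup Cfsg Cfsg.Agent.Cit Cfsg.Agent.Cit.SolvTwo Cfsg.Agent.SignalizersComponents
open Cfsg.Agent.OddHalf.D3 (FT BL)
open Cfsg.Agent.OddHalf.NI (BLH EA blw)

universe u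

variable {G : Type u} [Group G]
variable {S7 : ∀ (N : Type u) [Group N], N → N → Subgroup N → Subgroup N → Subgroup N → Prop}

namespace Su

variable {ι : Type} {CA : Subgroup G} {P : ι → Subgroup G} {y : ι → G} {J : ι → Subgroup G} (h : Su CA P y J)
  [Finite G]

include h

/-- `O(P k) = O(CA)` -/
theorem core_eq_of_comp (hT : TStmt.{u}) (hFT : FT G) {k : ι} (hBL : BLH (P k))
    (hD : IsComponent (Am.DD (h.g hT) h.Jq k)) (hJ : (h.Jq k).map (h.g hT k) ≤ Am.DD (h.g hT) h.Jq k) :
    OO (P k) = OO CA := by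
  refine le_antisymm ?_ (h.core_le hT k)
  have h1 : QuotientGroup.mk' (pPrimeCore 2 ↥(P k)) ⟨y k, h.memP k k⟩ ∈ Am.DD (h.g hT) h.Jq k := by
    apply hJ
    rw [h.map_Jq hT k k]
    exact (h.pr_f k k).mem
  have h2 : OO (P k) ≤ CA := by
    rw [h.inf k]
    refine le_inf (OO_le _) ?_
    rintro _ ⟨o, ho, rfl⟩
    have h3 := cent_core (NI.FT.sub hFT (P k)) hBL hD (x := (⟨y k, h.memP k k⟩ : P k)) (Subtype.ext (h.sq k)) h1 ho
    exact mem_centralizer_singleton_iff.2 (congrArg Subtype.val h3).symm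
  exact le_OO h2 ((h.leP k).trans (le_normalizer_OO _)) (odd_OO _)

/-- **the set-up is impossible** -/
theorem false_of [Nonempty ι] (hT : TStmt.{u}) (hA : F23a.{u}) (hB : F23b S7) (hM : AutM3 S7) (hSol : Sol3 S7)
    (hFT : FT G) (hBL : ∀ k, BLH (P k)) (XX : ι → ι → Subgroup G)
    (hX : ∀ k l, k ≠ l → P k = XX k l ⊓ centralizer ({y l} : Set G) ∧ P l = XX k l ⊓ centralizer ({y k} : Set G)) :
    False := by
  obtain ⟨k, l, hkl, T, t1, t2, ⟨c1, c2, c3, c4, c5⟩, ⟨d1, d2, d3, d4, d5⟩⟩ := (h.am hT).main hT hA hB hM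
  have Ok : OO (P k) = OO CA := h.core_eq_of_comp hT hFT (hBL k) c1 c3
  have Ol : OO (P l) = OO CA := h.core_eq_of_comp hT hFT (hBL l) d1 d3
  obtain ⟨hXk, hXl⟩ := hX k l hkl
  set X := XX k l with hXdef
  set O := OO CA with hO
  set M := X ⊓ normalizer (O : Set G) with hMdef
  have hPk : P k ≤ M := by
    refine le_inf (by rw [hXk]; exact inf_le_left) ?_
    rw [← Ok]; exact le_normalizer_OO _
  have hPl : P l ≤ M := by
    refine le_inf (by rw [hXl]; exact inf_le_left) ?_
    rw [← Ol]; exact le_normalizer_OO _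
  have hOM : O ≤ M := by rw [← Ok]; exact (OO_le _).trans hPk
  haveI hn : (O.subgroupOf M).Normal := (normal_subgroupOf_iff_le_normalizer hOM).2 inf_le_right
  have hodd : ¬ 2 ∣ Nat.card (O.subgroupOf M) := by
    rw [Nat.card_congr (subgroupOfEquivOfLe hOM).toEquiv]
    exact odd_OO _
  have ek : pPrimeCore 2 ↥(P k) = (O.subgroupOf M).comap (inclusion hPk) := by
    rw [← OO_subgroupOf, Ok]; rfl
  have el : pPrimeCore 2 ↥(P l) = (O.subgroupOf M).comap (inclusion hPl) := by
    rw [← OO_subgroupOf, Ol]; rfl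
  have hyk : y k ∈ M := hPk (h.memP k k)
  have hyl : y l ∈ M := hPk (h.memP l k)
  have fk : P k = M ⊓ centralizer ({y l} : Set G) := by
    apply le_antisymm
    · refine le_inf hPk ?_
      conv_lhs => rw [hXk]
      exact inf_le_right
    · conv_rhs => rw [hXk]
      exact inf_le_inf_right _ inf_le_left
  have fl : P l = M ⊓ centralizer ({y k} : Set G) := by
    apply le_antisymm
    · refine le_inf hPl ?_
      conv_lhs => rw [hXl]
      exact inf_le_right
    · conv_rhs => rw [hXl]
      exact inf_le_inf_right _ inf_le_left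
  have hAm := h.am hT
  refine glue_false hT hB hM hSol (h.g hT k) (h.g hT l)
    (QuotientGroup.map (pPrimeCore 2 ↥(P k)) (O.subgroupOf M) (inclusion hPk) ek.le)
    (QuotientGroup.map (pPrimeCore 2 ↥(P l)) (O.subgroupOf M) (inclusion hPl) el.le)
    (qmap_injective _ ek) (qmap_injective _ el) (hAm.inj k) ?_ (fun e => hkl (hAm.yinj e)) (hAm.pr k) (hAm.pr l) t2
    (hAm.sn k) (hAm.sn l) t1 (hAm.cm hkl) (hAm.rng k) ?_ ?_ c1 d1 c2 d2 c3 c4 c5 d4 d3 d5
  · apply QuotientGroup.monoidHom_ext
    rfl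
  · exact qmap_range hPk ek.le hyl (h.sq l) fk hodd
  · exact qmap_range hPl el.le hyk (h.sq k) fl hodd

end Su

/-- **THEOREM X(3)** -/
theorem noFam3 (hT : TStmt.{u}) (hA : F23a.{u}) (hB : F23b S7) (hM : AutM3 S7) (hSol : Sol3 S7)
    (hft : ∀ (X : Type u) [Group X] [Finite X], Odd (Nat.card X) → Group.IsSolvable X) :
    ∀ (G : Type u) [Group G], Iface.Ctx G → NoFam3 G := by
  intro G _ C m J y pos hJ hy ho hle hsn hinj h3
  classical
  have := C.fin
  have hFT : FT G := fun H hH => hft H hH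
  have hBL : BL G := by
    intro y hy
    have h0 : pPrimeCore 2 ↥(centralizer ({y} : Set G)) = ⊥ := by
      have h1 := C.bal y hy
      unfold centralizerPPrimeCore at h1
      rwa [Subgroup.map_eq_bot_iff_of_injective _ (Subgroup.subtype_injective _)] at h1
    exact NI.pLayer_eq_layer (fun K hK => hFT.even' hK.2)
      (fun J _ => by rw [h0, Subgroup.commutator_bot_right])
  have pr : ∀ i, IsPr (J i) (y i) := fun i => ⟨hJ i, ho i, hy i⟩
  -- the centralizers
  let c : Finset (Fin m) → Subgroup G := fun A => centralizer (y '' (A : Set (Fin m)))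
  have cmono : ∀ {A B : Finset (Fin m)}, A ⊆ B → c B ≤ c A := fun hAB =>
    centralizer_le (Set.image_mono (Finset.coe_subset.2 hAB))
  have cuniv : c Finset.univ = centralizer (Set.range y) := by
    show centralizer (y '' ((Finset.univ : Finset (Fin m)) : Set (Fin m))) = _
    rw [Finset.coe_univ, Set.image_univ]
  have cle : ∀ i A, J i ≤ c A := fun i A => by
    refine (hle i).trans ?_
    rw [← cuniv]
    exact cmono (Finset.subset_univ A)
  have cerase : ∀ {A : Finset (Fin m)} {k}, k ∈ A → c A = c (A.erase k) ⊓ centralizer ({y k} : Set G) := by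
    intro A k hk
    have h1 : y '' (A : Set (Fin m)) = insert (y k) (y '' ((A.erase k : Finset (Fin m)) : Set (Fin m))) := by
      rw [← Set.image_insert_eq, ← Finset.coe_insert, Finset.insert_erase hk]
    show centralizer (y '' (A : Set (Fin m))) = _
    rw [h1]
    ext x
    simp only [mem_inf, mem_centralizer_iff, Set.mem_insert_iff, Set.mem_singleton_iff, forall_eq_or_imp,
      forall_eq, c]
    tauto
  have cmem : ∀ {A : Finset (Fin m)} {k}, k ∈ A → c A ≤ centralizer ({y k} : Set G) := by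
    intro A k hk
    exact centralizer_le (Set.singleton_subset_iff.2 ⟨k, hk, rfl⟩)
  -- a minimal good set
  let good : Finset (Fin m) → Prop := fun A => A.Nonempty ∧ ∀ i ∈ A, Sn (J i ⊔ OO (c A)) (c A)
  have hgood : good Finset.univ := by
    refine ⟨⟨⟨0, pos⟩, Finset.mem_univ _⟩, fun i _ => ?_⟩
    refine Sn.sup_normal ?_ (OO_le _) (le_normalizer_OO _)
    rw [cuniv]
    exact ⟨hle i, hsn i⟩
  obtain ⟨A, hAg, hAmin⟩ : ∃ A, good A ∧ ∀ B, B ⊂ A → ¬ good B := by
    have hex : ∃ n : ℕ, ∃ A, good A ∧ A.card = n := ⟨_, _, hgood, rfl⟩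
    obtain ⟨A, hA1, hA2⟩ := Nat.find_spec hex
    refine ⟨A, hA1, fun B hBA hB => ?_⟩
    have h1 : B.card < A.card := Finset.card_lt_card hBA
    exact Nat.find_min hex (hA2 ▸ h1) ⟨B, hB, rfl⟩
  -- `A` is not a singleton
  have hAe : ∀ k ∈ A, (A.erase k).Nonempty := by
    intro k hk
    by_contra hcon
    rw [Finset.not_nonempty_iff_eq_empty] at hcon
    have h1 : c A = centralizer ({y k} : Set G) := by
      rw [cerase hk, hcon]
      show centralizer (y '' ((∅ : Finset (Fin m)) : Set (Fin m))) ⊓ _ = _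
      rw [Finset.coe_empty, Set.image_empty]
      have : centralizer (∅ : Set G) = ⊤ := by
        rw [eq_top_iff]; intro x _; rw [mem_centralizer_iff]; intro z hz; exact absurd hz (Set.notMem_empty z)
      rw [this, top_inf_eq]
    have h2 := hAg.2 k hk
    rw [h1] at h2
    have h3 : OO (centralizer ({y k} : Set G)) = ⊥ := C.bal (y k) (ho k)
    rw [h3, sup_bot_eq] at h2
    refine C.classical (y k) (J k) (ho k) ⟨h2.1, hy k, h2.2⟩ (Or.inl ⟨ZMod 3, inferInstance, inferInstance, ?_, ?_⟩)
    · rw [ZMod.card]; decide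
    · exact (pr k).quot
  have hcomm : ∀ i k, y i * y k = y k * y i := by
    intro i k
    have h1 := hle i (hy i)
    exact (mem_centralizer_iff.1 h1 (y k) ⟨k, rfl⟩).symm
  have hsq : ∀ i, y i * y i = 1 := fun i => (pr i).t3.z_sq
  -- `L`-balance
  have hBLH : ∀ B : Finset (Fin m), B.Nonempty → BLH (c B) := by
    intro B hB
    have hcl : ∀ x ∈ closure (y '' (B : Set (Fin m))), ∀ z ∈ closure (y '' (B : Set (Fin m))), x * z = z * x := by
      intro x hx z hz
      have h1 := Subgroup.isMulCommutative_closure (k := y '' (B : Set (Fin m))) (by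
        rintro _ ⟨i, -, rfl⟩ _ ⟨k, -, rfl⟩
        exact hcomm i k)
      exact congrArg Subtype.val (h1.is_comm.comm (⟨x, hx⟩ : closure (y '' (B : Set (Fin m)))) ⟨z, hz⟩)
    have hEA : EA (closure (y '' (B : Set (Fin m)))) := by
      intro w hw
      induction hw using Subgroup.closure_induction with
      | mem z hz => obtain ⟨i, -, rfl⟩ := hz; exact hsq i
      | one => exact one_mul 1
      | mul u v hu hv ihu ihv =>
        calc u * v * (u * v) = u * (v * u) * v := by group
          _ = (u * u) * (v * v) := by rw [← hcl u hu v hv]; group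
          _ = 1 := by rw [ihu, ihv, one_mul]
      | inv u _ ihu => rw [← mul_inv_rev, ihu, inv_one]
    have hne : closure (y '' (B : Set (Fin m))) ≠ ⊥ := by
      obtain ⟨i, hi⟩ := hB
      intro e
      have h1 : y i = 1 := by
        rw [← Subgroup.mem_bot, ← e]
        exact Subgroup.subset_closure ⟨i, hi, rfl⟩
      have h2 := ho i
      rw [h1, orderOf_one] at h2
      exact absurd h2 (by norm_num)
    have h1 := blw hFT hBL (fun H => C.bprop ↥H) _ hEA hne
    rwa [Subgroup.centralizer_closure] at h1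
  haveI : Nonempty ↥A := hAg.1.to_subtype
  have hSu : Su (ι := ↥A) (c A) (fun k => c (A.erase k)) (fun k => y k) (fun k => J k) := by
    refine ⟨fun k => cerase k.2, fun k => pr k, fun k => cle k A, fun k => hAg.2 k k.2, ?_, ?_, ?_, ?_⟩
    · intro i k hik
      refine cmem (Finset.mem_erase.2 ⟨fun e => hik (Subtype.ext e), i.2⟩)
    · intro i k hik
      exact Subtype.ext (hinj hik)
    · intro a b d hab had hbd
      exact h3 a b d (fun e => hab (Subtype.ext e)) (fun e => had (Subtype.ext e)) (fun e => hbd (Subtype.ext e))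
    · intro k
      by_contra hcon
      push Not at hcon
      refine hAmin (A.erase k) (Finset.erase_ssubset k.2) ⟨hAe k k.2, fun i hi => ?_⟩
      rw [Finset.mem_erase] at hi
      exact hcon ⟨i, hi.2⟩ (fun e => hi.1 (congrArg Subtype.val e))
  refine hSu.false_of hT hA hB hM hSol hFT (fun k => hBLH _ (hAe k k.2)) (fun k l => c ((A.erase k).erase l)) ?_
  intro k l hkl
  have hkl' : (k : Fin m) ≠ l := fun e => hkl (Subtype.ext e)
  refine ⟨?_, ?_⟩
  · exact cerase (Finset.mem_erase.2 ⟨hkl'.symm, l.2⟩)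
  · have h1 : (A.erase (k : Fin m)).erase (l : Fin m) = (A.erase (l : Fin m)).erase (k : Fin m) :=
      Finset.erase_right_comm
    show c (A.erase (l : Fin m)) = c ((A.erase (k : Fin m)).erase (l : Fin m)) ⊓ _
    rw [h1]
    exact cerase (Finset.mem_erase.2 ⟨hkl', k.2⟩)

end Cfsg.Agent.OddHalf.NI3
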